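import Cfsg.Agent.Lib.InvCentS6.Config

/-!
Elements permuting `Z0` and moving `t` to a row act on the stabiliser and its rows.
-/

set_option autoImplicit false

namespace CfsgLib.InvCentS6

/-- The map on `Z0` with given images of `a` and `z`. -/
def sigT (sa sz k : Fin 32) : Fin 32 :=
  mulT (if k.val.testBit 1 then sa else 0) (if k.val.testBit 2 then sz else 0)

/-- The quadratic map on rows. -/
def qRow (P : Par) (r : Fin 32) : Fin 32 := low (mul128 P (lift r) (lift r))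

/-- The linear map with given images of the basis rows. -/
def lin (a1 a2 a4 a8 a16 r : Fin 32) : Fin 32 :=
  radd (radd (radd (radd (if r.val.testBit 0 then a1 else 0) (if r.val.testBit 1 then a2 else 0))
    (if r.val.testBit 2 then a4 else 0)) (if r.val.testBit 3 then a8 else 0)) (if r.val.testBit 4 then a16 else 0)

variable {G : Type*} [Group G] {F : Frame G}

/-- The hypotheses on an element acting on the stabiliser. -/
structure Act (D : NFData F) (g : G) where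
  /-- image of `a` -/
  sa : Fin 32
  /-- image of `z` -/
  sz : Fin 32
  /-- image of `t` -/
  v : Fin 128
  hs : (sa, sz) = (2, 4) ∨ (sa, sz) = (4, 2) ∨ (sa, sz) = (2, 6) ∨ (sa, sz) = (6, 4) ∨ (sa, sz) = (4, 6) ∨ (sa, sz) = (6, 2)
  ha' : g * F.a * g⁻¹ = F.ev sa
  hz' : g * F.z * g⁻¹ = F.ev sz
  ht' : g * F.t * g⁻¹ = D.elt v

namespace Act

variable {D : NFData F} {g : G} (A : Act D g)

theorem conj_zeta {k : Fin 32} (hk : k = 0 ∨ k = 2 ∨ k = 4 ∨ k = 6) :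
    g * F.ev k * g⁻¹ = F.ev (sigT A.sa A.sz k) := by
  obtain ⟨ht, ha, hz, haz, hp, hq⟩ := F.ev_gens
  rcases hk with rfl | rfl | rfl | rfl
  · simp [sigT, F.ev_zero, (by decide +kernel : mulT 0 0 = 0)]
  · rw [ha, A.ha']
    exact F.ev_rel ((by decide +kernel : ∀ sa sz : Fin 32, sa = sigT sa sz 2) _ _)
  · rw [hz, A.hz']
    exact F.ev_rel ((by decide +kernel : ∀ sa sz : Fin 32, sz = sigT sa sz 4) _ _)
  · rw [haz, Frame.conj_mul, A.ha', A.hz', ← F.ev_mul]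
    exact F.ev_rel ((by decide +kernel : ∀ sa sz : Fin 32, mulT sa sz = sigT sa sz 6) _ _)

include A in
theorem conj_back {k : Fin 32} (hk : k = 0 ∨ k = 2 ∨ k = 4 ∨ k = 6) :
    ∃ k' : Fin 32, (k' = 0 ∨ k' = 2 ∨ k' = 4 ∨ k' = 6) ∧ g⁻¹ * F.ev k * g = F.ev k' := by
  have h : ∀ sa sz k : Fin 32, ((sa, sz) = (2, 4) ∨ (sa, sz) = (4, 2) ∨ (sa, sz) = (2, 6) ∨ (sa, sz) = (6, 4) ∨ (sa, sz) = (4, 6) ∨ (sa, sz) = (6, 2)) →
      k = 0 ∨ k = 2 ∨ k = 4 ∨ k = 6 → ∃ k' : Fin 32, (k' = 0 ∨ k' = 2 ∨ k' = 4 ∨ k' = 6) ∧ sigT sa sz k' = k := by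
    decide +kernel
  obtain ⟨k', hk', e⟩ := h _ _ k A.hs hk
  refine ⟨k', hk', ?_⟩
  rw [← e, ← A.conj_zeta hk']
  group

include A in
theorem inv_conj_mem {h : G} (hh : h ∈ D.Stab) : g⁻¹ * h * g ∈ D.Stab := by
  obtain ⟨w, rfl⟩ := hh
  have cz : ∀ k : Fin 32, (k = 0 ∨ k = 2 ∨ k = 4 ∨ k = 6) → Commute (g⁻¹ * D.elt w * g) (F.ev k) := by
    intro k hk
    have e : F.ev k = g⁻¹ * (g * F.ev k * g⁻¹) * g := by group
    rw [e, A.conj_zeta hk]
    have hk' : ∀ sa sz k : Fin 32, ((sa, sz) = (2, 4) ∨ (sa, sz) = (4, 2) ∨ (sa, sz) = (2, 6) ∨ (sa, sz) = (6, 4) ∨ (sa, sz) = (4, 6) ∨ (sa, sz) = (6, 2)) →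
        k = 0 ∨ k = 2 ∨ k = 4 ∨ k = 6 → sigT sa sz k = 0 ∨ sigT sa sz k = 2 ∨ sigT sa sz k = 4 ∨ sigT sa sz k = 6 := by
      decide +kernel
    have := Frame.commute_conj (c := g⁻¹) (D.zeta_comm (hk' _ _ k A.hs hk) w)
    rwa [inv_inv] at this
  obtain ⟨k, hk, e⟩ : ∃ k : Fin 32, (k = 0 ∨ k = 2 ∨ k = 4 ∨ k = 6) ∧
      D.elt w * D.elt A.v * (D.elt w)⁻¹ = D.elt A.v * F.ev k := by
    obtain ⟨k, hk, e⟩ := D.exists_zeta (mul128 D.P (mul128 D.P w A.v) (D.coord ⟨(D.elt w)⁻¹, D.Stab.inv_mem (D.elt_mem w)⟩))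
    obtain ⟨k0, hk0, e0⟩ := D.exists_zeta A.v
    rw [D.elt_mul, D.elt_mul, D.elt_coord] at e
    change D.elt w * D.elt A.v * (D.elt w)⁻¹ = _ at e
    have hrow : row (mul128 D.P (mul128 D.P w A.v) (D.coord ⟨(D.elt w)⁻¹, D.Stab.inv_mem (D.elt_mem w)⟩)) = row A.v := by
      have h1 : mul128 D.P w (D.coord ⟨(D.elt w)⁻¹, D.Stab.inv_mem (D.elt_mem w)⟩) = mk128 0 false false :=
        D.elt_inj (by rw [D.elt_mul, D.elt_coord, D.elt_ev, F.ev_zero]; exact mul_inv_cancel _)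
      have h2 := congrArg row h1
      rw [row_mul D.P D.phiA_ka.2, (by decide +kernel : row (mk128 0 false false) = 0)] at h2
      rw [row_mul D.P D.phiA_ka.2, row_mul D.P D.phiA_ka.2, radd_comm (row w), radd_assoc, h2, radd_zero]
    rw [hrow] at e
    refine ⟨mulT k0 k, (by decide +kernel : ∀ a b : Fin 32, a = 0 ∨ a = 2 ∨ a = 4 ∨ a = 6 →
      b = 0 ∨ b = 2 ∨ b = 4 ∨ b = 6 → mulT a b = 0 ∨ mulT a b = 2 ∨ mulT a b = 4 ∨ mulT a b = 6) k0 k hk0 hk, ?_⟩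
    have hsq : F.ev k0 * F.ev k0 = 1 := by
      rw [← F.ev_mul, (by decide +kernel : ∀ k : Fin 32, k = 0 ∨ k = 2 ∨ k = 4 ∨ k = 6 → mulT k k = 0) k0 hk0, F.ev_zero]
    rw [e, F.ev_mul, e0]
    calc D.elt (lift (row A.v)) * F.ev k = D.elt (lift (row A.v)) * (F.ev k0 * F.ev k0) * F.ev k := by
          rw [hsq, mul_one]
      _ = _ := by group
  obtain ⟨k', hk', e'⟩ := A.conj_back hk
  refine D.mem_Stab' ?_ ?_ ⟨k', hk', ?_⟩
  · rw [← F.ev_gens.2.1]; exact cz 2 (by simp)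
  · rw [← F.ev_gens.2.2.1]; exact cz 4 (by simp)
  · calc g⁻¹ * D.elt w * g * F.ev 1 * (g⁻¹ * D.elt w * g)⁻¹
        = g⁻¹ * (D.elt w * (g * F.ev 1 * g⁻¹) * (D.elt w)⁻¹) * g := by group
      _ = g⁻¹ * (D.elt A.v * F.ev k) * g := by rw [F.ev_gens.1, A.ht', e]
      _ = g⁻¹ * (g * F.t * g⁻¹) * g * (g⁻¹ * F.ev k * g) := by rw [A.ht']; group
      _ = F.ev (mulT 1 k') := by rw [e', F.ev_mul, F.ev_gens.1]; group

include A in
theorem conj_mem [Finite G] {h : G} (hh : h ∈ D.Stab) : g * h * g⁻¹ ∈ D.Stab := by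
  have hinj : Function.Injective (fun x : D.Stab => (⟨g⁻¹ * x.1 * g, A.inv_conj_mem x.2⟩ : D.Stab)) :=
    fun x y e => Subtype.ext (mul_left_cancel (mul_right_cancel (congrArg Subtype.val e)))
  obtain ⟨x, hx⟩ := Finite.injective_iff_surjective.mp hinj ⟨h, hh⟩
  have e : g⁻¹ * x.1 * g = h := congrArg Subtype.val hx
  rw [← e, show g * (g⁻¹ * x.1 * g) * g⁻¹ = x.1 by group]
  exact x.2

/-- Composition of two acting elements. -/
noncomputable def mul [Finite G] {h : G} (B : Act D h) : Act D (g * h) where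
  sa := sigT A.sa A.sz B.sa
  sz := sigT A.sa A.sz B.sz
  v := D.coord ⟨g * D.elt B.v * g⁻¹, A.conj_mem (D.elt_mem _)⟩
  hs := by
    have h1 := A.hs
    have h2 := B.hs
    simp only [Prod.mk.injEq] at h1 h2
    rcases h1 with ⟨a1, a2⟩ | ⟨a1, a2⟩ | ⟨a1, a2⟩ | ⟨a1, a2⟩ | ⟨a1, a2⟩ | ⟨a1, a2⟩ <;>
      rcases h2 with ⟨b1, b2⟩ | ⟨b1, b2⟩ | ⟨b1, b2⟩ | ⟨b1, b2⟩ | ⟨b1, b2⟩ | ⟨b1, b2⟩ <;>
      rw [a1, a2, b1, b2] <;> decide +kernel
  ha' := by
    have hk := B.hs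
    rw [show g * h * F.a * (g * h)⁻¹ = g * (h * F.a * h⁻¹) * g⁻¹ by group, B.ha']
    refine A.conj_zeta ?_
    simp only [Prod.mk.injEq] at hk
    rcases hk with ⟨e, -⟩ | ⟨e, -⟩ | ⟨e, -⟩ | ⟨e, -⟩ | ⟨e, -⟩ | ⟨e, -⟩ <;> simp [e]
  hz' := by
    have hk := B.hs
    rw [show g * h * F.z * (g * h)⁻¹ = g * (h * F.z * h⁻¹) * g⁻¹ by group, B.hz']
    refine A.conj_zeta ?_
    simp only [Prod.mk.injEq] at hk
    rcases hk with ⟨-, e⟩ | ⟨-, e⟩ | ⟨-, e⟩ | ⟨-, e⟩ | ⟨-, e⟩ | ⟨-, e⟩ <;> simp [e]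
  ht' := by
    rw [show g * h * F.t * (g * h)⁻¹ = g * (h * F.t * h⁻¹) * g⁻¹ by group, B.ht', D.elt_coord]

/-- The induced map on rows. -/
noncomputable def L [Finite G] (r : Fin 32) : Fin 32 :=
  row (D.coord ⟨g * D.elt (lift r) * g⁻¹, A.conj_mem (D.elt_mem _)⟩)

theorem sigma_mem {k : Fin 32} (hk : k = 0 ∨ k = 2 ∨ k = 4 ∨ k = 6) :
    sigT A.sa A.sz k = 0 ∨ sigT A.sa A.sz k = 2 ∨ sigT A.sa A.sz k = 4 ∨ sigT A.sa A.sz k = 6 :=
  (by decide +kernel : ∀ sa sz k : Fin 32, ((sa, sz) = (2, 4) ∨ (sa, sz) = (4, 2) ∨ (sa, sz) = (2, 6) ∨ (sa, sz) = (6, 4) ∨ (sa, sz) = (4, 6) ∨ (sa, sz) = (6, 2)) →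
    k = 0 ∨ k = 2 ∨ k = 4 ∨ k = 6 → sigT sa sz k = 0 ∨ sigT sa sz k = 2 ∨ sigT sa sz k = 4 ∨ sigT sa sz k = 6)
    _ _ k A.hs hk

/-- The row of a conjugate. -/
theorem row_conj [Finite G] (x : D.Stab) :
    row (D.coord ⟨g * x.1 * g⁻¹, A.conj_mem x.2⟩) = A.L (row (D.coord x)) := by
  obtain ⟨k, hk, e⟩ := D.exists_zeta (D.coord x)
  have hx : (x : G) = D.elt (lift (row (D.coord x))) * F.ev k := by rw [← e, D.elt_coord]
  have hk' := A.sigma_mem hk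
  have h1 : (⟨g * x.1 * g⁻¹, A.conj_mem x.2⟩ : D.Stab) =
      ⟨g * D.elt (lift (row (D.coord x))) * g⁻¹, A.conj_mem (D.elt_mem _)⟩ *
        ⟨D.elt (mk128 (sigT A.sa A.sz k) false false), D.elt_mem _⟩ := by
    apply Subtype.ext
    change g * x.1 * g⁻¹ =
      g * D.elt (lift (row (D.coord x))) * g⁻¹ * D.elt (mk128 (sigT A.sa A.sz k) false false)
    rw [D.elt_ev, ← A.conj_zeta hk, hx]
    group
  rw [h1, D.coord_mul, row_mul D.P D.phiA_ka.2, D.coord_elt,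
    (by decide +kernel : ∀ k : Fin 32, k = 0 ∨ k = 2 ∨ k = 4 ∨ k = 6 → row (mk128 k false false) = 0) _ hk', radd_zero]
  rfl

theorem L_add [Finite G] (r s : Fin 32) : A.L (radd r s) = radd (A.L r) (A.L s) := by
  have e : D.coord (⟨D.elt (lift r), D.elt_mem _⟩ * ⟨D.elt (lift s), D.elt_mem _⟩) =
      mul128 D.P (lift r) (lift s) := by rw [D.coord_mul, D.coord_elt, D.coord_elt]
  have h := A.row_conj (⟨D.elt (lift r), D.elt_mem _⟩ * ⟨D.elt (lift s), D.elt_mem _⟩)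
  rw [e, row_mul D.P D.phiA_ka.2, row_lift, row_lift] at h
  have h2 : (⟨g * ((⟨D.elt (lift r), D.elt_mem _⟩ * ⟨D.elt (lift s), D.elt_mem _⟩ : D.Stab) : G) * g⁻¹,
      A.conj_mem (Subtype.mem _)⟩ : D.Stab) = ⟨g * D.elt (lift r) * g⁻¹, A.conj_mem (D.elt_mem _)⟩ *
        ⟨g * D.elt (lift s) * g⁻¹, A.conj_mem (D.elt_mem _)⟩ := by
    apply Subtype.ext
    change g * (D.elt (lift r) * D.elt (lift s)) * g⁻¹ = _ * _
    group
  rw [h2, D.coord_mul, row_mul D.P D.phiA_ka.2] at h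
  exact h.symm

theorem L_o [Finite G] (r : Fin 32) : D.o (A.L r) = D.o r := by
  apply Bool.eq_iff_iff.mpr
  rw [L, ← D.o_iff']
  change IsConj F.t (g * D.elt (lift r) * g⁻¹) ↔ _
  rw [isConj_conj_iff, D.o_iff, row_lift]

theorem L_q [Finite G] (r : Fin 32) : qRow D.P (A.L r) = sigT A.sa A.sz (qRow D.P r) := by
  have hq : ∀ x : D.Stab, ∀ k : Fin 32, (x : G) * x = F.ev k → qRow D.P (row (D.coord x)) = k := by
    intro x k hx
    obtain ⟨j, hj, e⟩ := D.exists_zeta (D.coord x)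
    have h2 : D.elt (mul128 D.P (lift (row (D.coord x))) (lift (row (D.coord x)))) = F.ev k := by
      rw [D.elt_mul, ← hx, ← D.elt_coord x, e]
      have c := D.zeta_comm hj (lift (row (D.coord x)))
      have hsq : F.ev j * F.ev j = 1 := by
        rw [← F.ev_mul, (by decide +kernel : ∀ k : Fin 32, k = 0 ∨ k = 2 ∨ k = 4 ∨ k = 6 → mulT k k = 0) j hj, F.ev_zero]
      calc _ = D.elt (lift (row (D.coord x))) * D.elt (lift (row (D.coord x))) * (F.ev j * F.ev j) := by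
            rw [hsq, mul_one]
        _ = _ := by
          rw [mul_assoc (D.elt (lift (row (D.coord x)))) (F.ev j), ← mul_assoc (F.ev j), ← c.eq]
          group
    rw [← D.elt_ev] at h2
    rw [qRow, D.elt_inj h2, (mk128_proj _ _ _).1]
  have hk : qRow D.P r = 0 ∨ qRow D.P r = 2 ∨ qRow D.P r = 4 ∨ qRow D.P r = 6 := by
    have h : ∀ (al be : Bool) (ka r : Fin 32), ka = 0 ∨ ka = 2 ∨ ka = 4 ∨ ka = 6 →
        qRow ⟨al, be, ka⟩ r = 0 ∨ qRow ⟨al, be, ka⟩ r = 2 ∨ qRow ⟨al, be, ka⟩ r = 4 ∨ qRow ⟨al, be, ka⟩ r = 6 := by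
      decide +kernel
    exact h _ _ _ r D.hka
  have hsq : D.elt (lift r) * D.elt (lift r) = F.ev (qRow D.P r) := by
    have hm : ∀ v : Fin 128, topA v = false → topB v = false → v = mk128 (low v) false false := by decide +kernel
    have ht : topA (mul128 D.P (lift r) (lift r)) = false ∧ topB (mul128 D.P (lift r) (lift r)) = false := by
      unfold mul128
      rw [(mk128_proj _ _ _).2.1, (mk128_proj _ _ _).2.2, Bool.xor_self, Bool.xor_self]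
      exact ⟨rfl, rfl⟩
    rw [← D.elt_mul, hm _ ht.1 ht.2, D.elt_ev]
    rfl
  refine hq ⟨g * D.elt (lift r) * g⁻¹, A.conj_mem (D.elt_mem _)⟩ _ ?_
  rw [← A.conj_zeta hk, ← hsq]
  group

theorem L_one [Finite G] : A.L 1 = row A.v := by
  have h : (⟨g * D.elt (lift 1) * g⁻¹, A.conj_mem (D.elt_mem _)⟩ : D.Stab) = ⟨D.elt A.v, D.elt_mem _⟩ := by
    apply Subtype.ext
    change g * D.elt (lift 1) * g⁻¹ = D.elt A.v
    rw [← A.ht', (by decide +kernel : lift 1 = mk128 1 false false), D.elt_ev, F.ev_gens.1]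
  rw [L, h, D.coord_elt]

theorem L_of_fix [Finite G] {u : Fin 32} (h : g * F.ev u * g⁻¹ = F.ev u) : A.L (rowT u) = rowT u := by
  have hrow : ∀ u : Fin 32, row (mk128 u false false) = rowT u := by decide +kernel
  have := A.row_conj ⟨D.elt (mk128 u false false), D.elt_mem _⟩
  rw [D.coord_elt, hrow] at this
  rw [← this]
  have h' : (⟨g * D.elt (mk128 u false false) * g⁻¹, A.conj_mem (D.elt_mem _)⟩ : D.Stab)
      = ⟨D.elt (mk128 u false false), D.elt_mem _⟩ := by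
    apply Subtype.ext
    change g * D.elt _ * g⁻¹ = D.elt _
    rw [D.elt_ev, h]
  rw [h', D.coord_elt, hrow]

theorem L_eq_lin [Finite G] (r : Fin 32) : A.L r = lin (A.L 1) (A.L 2) (A.L 4) (A.L 8) (A.L 16) r := by
  have h0 : A.L 0 = 0 := by
    have := A.L_add 0 0
    rw [radd_self, radd_self] at this
    exact this
  have hif : ∀ (b : Bool) (e : Fin 32), A.L (if b then e else 0) = if b then A.L e else 0 := by
    intro b e; cases b
    · exact h0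
    · rfl
  have hsplit : ∀ r : Fin 32, r = lin 1 2 4 8 16 r := by decide +kernel
  conv_lhs => rw [hsplit r]
  simp only [lin, L_add, hif]

end Act

end CfsgLib.InvCentS6
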