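import Cfsg.Agent.Lib.TransferOrbit

/-!
Transfer, sign and extension criteria for a subgroup of index two.
-/

set_option autoImplicit false

namespace CfsgLib.InvCentS6

open CfsgLib.TransferOrbit

/-- The group of order two used as the target of homomorphisms. -/
abbrev Z2 := Multiplicative (ZMod 2)

theorem z2_mul_self : ∀ u : Z2, u * u = 1 := by decide

theorem z2_eq_of_ne : ∀ u v : Z2, u ≠ 1 → v ≠ 1 → u = v := by decide

theorem z2_pow_odd {u : Z2} (hu : u ≠ 1) {n : ℕ} (hn : Odd n) : u ^ n ≠ 1 := by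
  obtain ⟨k, rfl⟩ := hn
  rw [pow_succ, pow_mul, pow_two, z2_mul_self, one_pow, one_mul]
  exact hu

variable {G : Type*} [Group G]

theorem index_two_of_hom {A : Type*} [Group A] (hA : Nat.card A = 2) (φ : G →* A) (g : G) (hg : φ g ≠ 1) :
    ∃ H : Subgroup G, H.index = 2 := by
  refine ⟨φ.ker, ?_⟩
  rw [Subgroup.index_ker]
  have h1 := Subgroup.card_subgroup_dvd_card φ.range
  rw [hA] at h1
  rcases (Nat.dvd_prime Nat.prime_two).mp h1 with h | h
  · exfalso
    rw [Subgroup.card_eq_one] at h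
    exact hg (Subgroup.mem_bot.mp (h ▸ ⟨g, rfl⟩))
  · exact h

/-- The transfer criterion. -/
theorem index_two_of_transfer [Finite G] (t : G) (ht : t * t = 1) (K : Subgroup G) (f : K →* Z2) (m : ℕ)
    (hm : Odd m)
    (hcount : Nat.card {x : K // IsConj t (x : G) ∧ f x ≠ 1} * Nat.card (Subgroup.centralizer ({t} : Set G))
      = m * Nat.card K) :
    ∃ H : Subgroup G, H.index = 2 := by
  classical
  haveI : Fintype (G ⧸ K) := Fintype.ofFinite _
  refine index_two_of_hom (by simp) (MonoidHom.transfer f) t ?_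
  rw [transfer_eq_prod]
  rw [← Finset.prod_filter_mul_prod_filter_not Finset.univ (fun q : G ⧸ K => t • q = q)]
  have h2 : ∏ q ∈ Finset.univ.filter (fun q : G ⧸ K => ¬ t • q = q), cval f t q = 1 := by
    refine Finset.prod_involution (fun q _ => t • q) (fun q _ => ?_) (fun q hq _ => (Finset.mem_filter.mp hq).2)
      (fun q hq => ?_) (fun q _ => by rw [smul_smul, ht, one_smul])
    · rw [mul_comm, ← cval_mul, ht]
      exact c_one (cval_mul f) q
    · refine Finset.mem_filter.mpr ⟨Finset.mem_univ _, fun e => (Finset.mem_filter.mp hq).2 ?_⟩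
      have e' := congrArg (fun r => t • r) e
      simpa only [smul_smul, ht, one_smul, ← mul_assoc, one_mul] using e'
  rw [h2, mul_one]
  let S : Set G := {g | ∃ h : g⁻¹ * t * g ∈ K, f ⟨_, h⟩ ≠ 1}
  let Q : Set (G ⧸ K) := {q | t • q = q ∧ cval f t q ≠ 1}
  have hfix : ∀ g : G, t • (g : G ⧸ K) = g ↔ g⁻¹ * t * g ∈ K := fun g => by
    rw [show t • (g : G ⧸ K) = ((t * g : G) : G ⧸ K) from rfl, eq_comm, QuotientGroup.eq, ← mul_assoc]
  have hS : S = QuotientGroup.mk ⁻¹' Q := by
    ext g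
    constructor
    · rintro ⟨h, hf⟩
      exact ⟨(hfix g).mpr h, by rw [cval_eq f ((hfix g).mpr h) h]; exact hf⟩
    · rintro ⟨hq, hv⟩
      exact ⟨(hfix g).mp hq, by rwa [cval_eq f hq ((hfix g).mp hq)] at hv⟩
  have hcS : Nat.card S = Nat.card K * Nat.card Q := by
    rw [hS, Nat.card_congr (QuotientGroup.preimageMkEquivSubgroupProdSet K Q), Nat.card_prod]
  let X := {x : K // IsConj t (x : G) ∧ f x ≠ 1}
  let F : S → X := fun g => ⟨⟨(g : G)⁻¹ * t * g, g.2.choose⟩,
    ⟨isConj_iff.mpr ⟨(g : G)⁻¹, by rw [inv_inv]⟩, g.2.choose_spec⟩⟩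
  have hF : ∀ x : X, Nat.card {g : S // F g = x} = Nat.card (Subgroup.centralizer ({t} : Set G)) := by
    intro x
    obtain ⟨c, hc⟩ := isConj_iff.mp x.2.1
    have hg0 : c⁻¹ ∈ S := by
      refine ⟨by rw [inv_inv, hc]; exact x.1.2, ?_⟩
      convert x.2.2 using 3
      simpa using hc
    have key : ∀ g : S, F g = x ↔ (g : G) * c ∈ Subgroup.centralizer ({t} : Set G) := by
      intro g
      rw [Subgroup.mem_centralizer_singleton_iff, Subtype.ext_iff, Subtype.ext_iff]
      change (g : G)⁻¹ * t * g = (x : G) ↔ _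
      rw [← hc]
      constructor
      · intro e
        calc (g : G) * c * t = g * (c * t * c⁻¹) * c := by group
          _ = g * ((g : G)⁻¹ * t * g) * c := by rw [e]
          _ = t * (g * c) := by group
      · intro e
        calc (g : G)⁻¹ * t * g = (g : G)⁻¹ * (t * (g * c)) * c⁻¹ := by group
          _ = (g : G)⁻¹ * (g * c * t) * c⁻¹ := by rw [e]
          _ = c * t * c⁻¹ := by group
    refine Nat.card_congr
      { toFun := fun g => ⟨(g.1 : G) * c, (key g.1).mp g.2⟩
        invFun := fun d => ⟨⟨(d : G) * c⁻¹, ?_⟩, (key _).mpr (by simp)⟩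
        left_inv := fun g => by ext; simp
        right_inv := fun d => by ext; simp }
    have hd : t * (d : G) = d * t := (Subgroup.mem_centralizer_singleton_iff.mp d.2).symm
    have e : ((d : G) * c⁻¹)⁻¹ * t * ((d : G) * c⁻¹) = c⁻¹⁻¹ * t * c⁻¹ := by
      calc _ = c * (d : G)⁻¹ * (t * d) * c⁻¹ := by group
        _ = _ := by rw [hd]; group
    exact ⟨e ▸ hg0.choose, by convert hg0.choose_spec using 3⟩
  have hcX : Nat.card S = Nat.card X * Nat.card (Subgroup.centralizer ({t} : Set G)) := by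
    haveI : Fintype X := Fintype.ofFinite _
    rw [← Nat.card_congr (Equiv.sigmaFiberEquiv F), Nat.card_sigma, Finset.sum_congr rfl (fun x _ => hF x),
      Finset.sum_const, Finset.card_univ, smul_eq_mul, Nat.card_eq_fintype_card (α := X)]
  have hQ : Nat.card Q = m :=
    Nat.eq_of_mul_eq_mul_left Nat.card_pos (by rw [← hcS, hcX, hcount, mul_comm])
  have hodd : Odd ((Finset.univ.filter fun q : G ⧸ K => t • q = q).filter fun q => cval f t q ≠ 1).card := by
    rw [Finset.filter_filter]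
    rwa [← hQ, Nat.card_eq_fintype_card, Fintype.card_subtype] at hm
  rw [← Finset.prod_filter_ne_one]
  obtain ⟨e, he⟩ : ∃ e : Z2, e ≠ 1 := ⟨Multiplicative.ofAdd 1, by decide⟩
  rw [Finset.prod_eq_pow_card (b := e) (fun q hq => z2_eq_of_ne _ _ (Finset.mem_filter.mp hq).2 he)]
  exact z2_pow_odd he hodd

/-- The sign criterion on the conjugacy class of an involution. -/
theorem index_two_of_sign [Finite G] (t : G) (ht : t * t = 1)
    (h4 : 4 * Nat.card (Subgroup.centralizer ({t} : Set G)) ∣ Nat.card G)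
    (hfix : Nat.card {u : G // IsConj t u ∧ Commute t u} % 4 = 2) :
    ∃ H : Subgroup G, H.index = 2 := by
  classical
  haveI : Fintype G := Fintype.ofFinite G
  let O := {u : G // IsConj t u}
  let act : G →* Equiv.Perm O :=
    { toFun := fun g =>
        { toFun := fun u => ⟨g * u.1 * g⁻¹, u.2.trans (isConj_iff.mpr ⟨g, rfl⟩)⟩
          invFun := fun u => ⟨g⁻¹ * u.1 * g, u.2.trans (isConj_iff.mpr ⟨g⁻¹, by rw [inv_inv]⟩)⟩
          left_inv := fun u => by ext; simp only; group
          right_inv := fun u => by ext; simp only; group }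
      map_one' := by ext; simp
      map_mul' := fun g h => by ext; simp [mul_assoc] }
  refine index_two_of_hom (by rw [Nat.card_eq_fintype_card]; rfl) (Equiv.Perm.sign.comp act) t ?_
  have hsq : act t ^ 2 = 1 := by rw [pow_two, ← map_mul, ht, map_one]
  rw [MonoidHom.comp_apply, Equiv.Perm.sign_of_pow_two_eq_one hsq]
  have hO : Nat.card O * Nat.card (Subgroup.centralizer ({t} : Set G)) = Nat.card G := by
    let F : G → O := fun g => ⟨g * t * g⁻¹, isConj_iff.mpr ⟨g, rfl⟩⟩
    have hF : ∀ x : O, Nat.card {g : G // F g = x} = Nat.card (Subgroup.centralizer ({t} : Set G)) := by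
      intro x
      obtain ⟨c, hc⟩ := isConj_iff.mp x.2
      have key : ∀ g : G, F g = x ↔ c⁻¹ * g ∈ Subgroup.centralizer ({t} : Set G) := by
        intro g
        rw [Subgroup.mem_centralizer_singleton_iff, Subtype.ext_iff]
        change g * t * g⁻¹ = (x : G) ↔ _
        rw [← hc]
        constructor
        · intro e
          calc c⁻¹ * g * t = c⁻¹ * (g * t * g⁻¹) * g := by group
            _ = c⁻¹ * (c * t * c⁻¹) * g := by rw [e]
            _ = t * (c⁻¹ * g) := by group
        · intro e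
          calc g * t * g⁻¹ = c * (c⁻¹ * g * t) * g⁻¹ := by group
            _ = c * (t * (c⁻¹ * g)) * g⁻¹ := by rw [e]
            _ = c * t * c⁻¹ := by group
      exact Nat.card_congr
        { toFun := fun g => ⟨c⁻¹ * g.1, (key g.1).mp g.2⟩
          invFun := fun d => ⟨c * d, (key _).mpr (by rw [inv_mul_cancel_left]; exact d.2)⟩
          left_inv := fun g => by ext; simp
          right_inv := fun d => by ext; simp }
    haveI : Fintype O := Fintype.ofFinite _
    rw [← Nat.card_congr (Equiv.sigmaFiberEquiv F), Nat.card_sigma, Finset.sum_congr rfl (fun x _ => hF x),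
      Finset.sum_const, Finset.card_univ, smul_eq_mul, Nat.card_eq_fintype_card (α := O)]
  have hO4 : 4 ∣ Nat.card O :=
    Nat.dvd_of_mul_dvd_mul_right Nat.card_pos (hO.symm ▸ h4)
  have hfx : Fintype.card (Function.fixedPoints (act t)) = Nat.card {u : G // IsConj t u ∧ Commute t u} := by
    rw [← Nat.card_eq_fintype_card]
    exact Nat.card_congr
      { toFun := fun u => ⟨u.1.1, u.1.2, mul_inv_eq_iff_eq_mul.mp (congrArg Subtype.val u.2)⟩
        invFun := fun u => ⟨⟨u.1, u.2.1⟩, Subtype.ext (mul_inv_eq_iff_eq_mul.mpr u.2.2)⟩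
        left_inv := fun u => rfl
        right_inv := fun u => rfl }
  have hle : Fintype.card (Function.fixedPoints (act t)) ≤ Fintype.card O := Fintype.card_subtype_le _
  rw [Nat.card_eq_fintype_card] at hO4
  have hodd : Odd ((Fintype.card O - Fintype.card (Function.fixedPoints (act t))) / 2) := by
    rw [Nat.odd_iff]
    omega
  rw [hodd.neg_one_pow]
  decide

section Extend

variable {H : Subgroup G}

/-- The extension of a subgroup by an element normalising it whose square lies in it. -/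
def extend (H : Subgroup G) (g : G) (hn : ∀ h ∈ H, g * h * g⁻¹ ∈ H) (hg : g * g ∈ H) : Subgroup G where
  carrier := {x | x ∈ H ∨ x * g⁻¹ ∈ H}
  one_mem' := Or.inl H.one_mem
  mul_mem' := by
    rintro x y (hx | hx) (hy | hy)
    · exact Or.inl (H.mul_mem hx hy)
    · exact Or.inr (by rw [mul_assoc]; exact H.mul_mem hx hy)
    · refine Or.inr ?_
      rw [show x * y * g⁻¹ = x * g⁻¹ * (g * y * g⁻¹) by group]
      exact H.mul_mem hx (hn y hy)
    · refine Or.inl ?_
      rw [show x * y = x * g⁻¹ * (g * (y * g⁻¹) * g⁻¹) * (g * g) by group]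
      exact H.mul_mem (H.mul_mem hx (hn _ hy)) hg
  inv_mem' := by
    intro x
    rintro (hx | hx)
    · exact Or.inl (H.inv_mem hx)
    · refine Or.inr ?_
      rw [show x⁻¹ * g⁻¹ = (g * g)⁻¹ * (g * (x * g⁻¹)⁻¹ * g⁻¹) by group]
      exact H.mul_mem (H.inv_mem hg) (hn _ (H.inv_mem hx))

variable {g : G} {hn : ∀ h ∈ H, g * h * g⁻¹ ∈ H} {hg : g * g ∈ H}

theorem mem_extend {x : G} : x ∈ extend H g hn hg ↔ x ∈ H ∨ x * g⁻¹ ∈ H := Iff.rfl

theorem le_extend : H ≤ extend H g hn hg := fun _ hx => Or.inl hx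

theorem self_mem_extend : g ∈ extend H g hn hg := Or.inr (by rw [mul_inv_cancel]; exact H.one_mem)

theorem not_mem_of_mem_coset (hgH : g ∉ H) {x : G} (hx : x ∈ H) : x * g⁻¹ ∉ H := fun h =>
  hgH (by simpa using H.mul_mem (H.inv_mem h) hx)

theorem mul_not_mem (hgH : g ∉ H) {h : G} (hh : h ∈ H) : h * g ∉ H := fun e =>
  hgH (by simpa using H.mul_mem (H.inv_mem hh) e)

theorem card_extend [Finite G] (hgH : g ∉ H) : Nat.card (extend H g hn hg) = 2 * Nat.card H := by
  classical
  rw [two_mul, ← Nat.card_sum]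
  refine (Nat.card_congr (Equiv.ofBijective
    (fun s : H ⊕ H => Sum.elim (fun h : H => (⟨(h : G), Or.inl h.2⟩ : extend H g hn hg))
      (fun h : H => ⟨(h : G) * g, Or.inr (by rw [mul_inv_cancel_right]; exact h.2)⟩) s) ⟨?_, ?_⟩)).symm
  · rintro (a | a) (b | b) e <;> have e' := congrArg Subtype.val e <;>
      simp only [Sum.elim_inl, Sum.elim_inr] at e'
    · exact congrArg _ (Subtype.ext e')
    · exact absurd (e' ▸ a.2) (mul_not_mem hgH b.2)
    · exact absurd (e' ▸ b.2) (mul_not_mem hgH a.2)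
    · exact congrArg _ (Subtype.ext (mul_right_cancel e'))
  · rintro ⟨x, hx | hx⟩
    · exact ⟨Sum.inl ⟨x, hx⟩, rfl⟩
    · exact ⟨Sum.inr ⟨_, hx⟩, Subtype.ext (inv_mul_cancel_right x g)⟩

/-- Extending a homomorphism to the extension with a prescribed value at the new element. -/
theorem exists_extend_hom (hgH : g ∉ H) (f : H →* Z2)
    (hinv : ∀ h : H, f ⟨g * h * g⁻¹, hn h h.2⟩ = f h) (hsq : f ⟨g * g, hg⟩ = 1) (e : Z2) :
    ∃ F : extend H g hn hg →* Z2, (∀ h : H, F ⟨h, le_extend h.2⟩ = f h) ∧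
      ∀ h : H, F ⟨(h : G) * g, Or.inr (by rw [mul_inv_cancel_right]; exact h.2)⟩ = f h * e := by
  classical
  let φ : extend H g hn hg → Z2 := fun x =>
    if h : (x : G) ∈ H then f ⟨x, h⟩ else f ⟨x * g⁻¹, x.2.resolve_left h⟩ * e
  have hin : ∀ (x : extend H g hn hg) (h : H), (x : G) = h → φ x = f h := by
    intro x h e'
    have hx : (x : G) ∈ H := e' ▸ h.2
    simp only [φ, hx, dite_true]
    exact congrArg f (Subtype.ext e')
  have hout : ∀ (x : extend H g hn hg) (h : H), (x : G) = h * g → φ x = f h * e := by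
    intro x h e'
    have hx : (x : G) ∉ H := e' ▸ mul_not_mem hgH h.2
    simp only [φ, hx, dite_false]
    congr 1
    exact congrArg f (Subtype.ext (by simp [e']))
  refine ⟨MonoidHom.mk' φ fun x y => ?_, fun h => hin _ h rfl, fun h => hout _ h rfl⟩
  rcases x.2 with hx | hx <;> rcases y.2 with hy | hy
  · rw [hin x ⟨_, hx⟩ rfl, hin y ⟨_, hy⟩ rfl, hin (x * y) (⟨_, hx⟩ * ⟨_, hy⟩) rfl, map_mul]
  · rw [hin x ⟨_, hx⟩ rfl, hout y ⟨_, hy⟩ (by simp), hout (x * y) (⟨_, hx⟩ * ⟨_, hy⟩) (by simp [mul_assoc]),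
      map_mul, mul_assoc]
  · rw [hout x ⟨_, hx⟩ (by simp), hin y ⟨_, hy⟩ rfl,
      hout (x * y) (⟨_, hx⟩ * ⟨g * y * g⁻¹, hn _ hy⟩) (by simp [mul_assoc]), map_mul, hinv ⟨_, hy⟩,
      mul_right_comm]
  · rw [hout x ⟨_, hx⟩ (by simp), hout y ⟨_, hy⟩ (by simp),
      hin (x * y) (⟨_, hx⟩ * (⟨g * ((y : G) * g⁻¹) * g⁻¹, hn _ hy⟩ * ⟨g * g, hg⟩)) (by simp [mul_assoc]),
      map_mul, map_mul, hinv ⟨_, hy⟩, hsq, mul_one, mul_mul_mul_comm, z2_mul_self e, mul_one]

/-- Counting conjugates of `t` with nontrivial value over the two cosets. -/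
theorem count_extend [Finite G] (hgH : g ∉ H) (t : G) (f : H →* Z2) (F : extend H g hn hg →* Z2)
    (h1 : ∀ h : H, F ⟨h, le_extend h.2⟩ = f h) (e : Z2)
    (h2 : ∀ h : H, F ⟨(h : G) * g, Or.inr (by rw [mul_inv_cancel_right]; exact h.2)⟩ = f h * e) :
    Nat.card {x : extend H g hn hg // IsConj t (x : G) ∧ F x ≠ 1}
      = Nat.card {x : H // IsConj t (x : G) ∧ f x ≠ 1}
        + Nat.card {x : H // IsConj t ((x : G) * g) ∧ f x * e ≠ 1} := by
  classical
  rw [← Nat.card_sum]
  refine (Nat.card_congr (Equiv.ofBijective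
    (fun s : {x : H // IsConj t (x : G) ∧ f x ≠ 1} ⊕ {x : H // IsConj t ((x : G) * g) ∧ f x * e ≠ 1} =>
      Sum.elim (fun h => (⟨⟨h.1, le_extend h.1.2⟩, h.2.1, by rw [h1]; exact h.2.2⟩ :
        {x : extend H g hn hg // IsConj t (x : G) ∧ F x ≠ 1}))
        (fun h => ⟨⟨(h.1 : G) * g, Or.inr (by rw [mul_inv_cancel_right]; exact h.1.2)⟩, h.2.1,
          by rw [h2]; exact h.2.2⟩) s) ⟨?_, ?_⟩)).symm
  · rintro (a | a) (b | b) e'' <;> have e' := congrArg (fun z => (z.1 : G)) e'' <;>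
      simp only [Sum.elim_inl, Sum.elim_inr] at e'
    · exact congrArg _ (Subtype.ext (Subtype.ext e'))
    · exact absurd (e' ▸ a.1.2) (mul_not_mem hgH b.1.2)
    · exact absurd (e' ▸ b.1.2) (mul_not_mem hgH a.1.2)
    · exact congrArg _ (Subtype.ext (Subtype.ext (mul_right_cancel e')))
  · rintro ⟨⟨x, hx | hx⟩, hc, hF⟩
    · exact ⟨Sum.inl ⟨⟨x, hx⟩, hc, by rwa [← h1]⟩, rfl⟩
    · refine ⟨Sum.inr ⟨⟨x * g⁻¹, hx⟩, by simpa using hc, ?_⟩, Subtype.ext (Subtype.ext (inv_mul_cancel_right x g))⟩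
      rw [← h2]
      convert hF using 3
      exact Subtype.ext (inv_mul_cancel_right x g)

end Extend

end CfsgLib.InvCentS6
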