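import Cfsg.Agent.Lib.InvCentS6.Gen

/-!
The configurations with twelve and with six rows.
-/

set_option autoImplicit false

namespace CfsgLib.InvCentS6

variable {G : Type*} [Group G] {F : Frame G} (D : NFData F)

namespace NFData

theorem caseF [Finite G] (hP : D.P = ⟨false, false, 4⟩)
    (hrows : ∀ r, D.o r = ([1, 3, 5, 8, 10, 12, 16, 18, 20, 25, 27, 29] : List (Fin 32)).contains r) :
    ∃ H : Subgroup G, H.index = 2 := by
  have hal : D.P.al = false := by rw [hP]
  let A := D.u1Act hal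
  have hL : ∀ r, A.L r = lin 3 2 30 10 18 r := by
    refine A.L_eq_of_uniq _ hP _ hrows 2 4 3 rfl rfl ?_ [2] (List.finRange 32) ?_ (List.mem_finRange _) _ _ _ _
      (by decide +kernel)
    · rw [A.L_one]; exact (by decide +kernel : row (mk128 9 false false) = 3)
    · have := A.L_of_fix (u := 8) (by rw [F.ev_gens.2.2.2.2.1]; exact D.u1_p)
      rw [show rowT 8 = 2 by decide +kernel] at this
      exact List.mem_singleton.mpr this
  have hinv : ∀ r, Frame.par 1 (A.L r) = Frame.par 1 r := fun r => by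
    rw [hL]; exact (by decide +kernel : ∀ r, Frame.par 1 (lin 3 2 30 10 18 r) = Frame.par 1 r) r
  have hgK : D.u1 ∉ D.Stab := fun h => by
    have := A.L_of_stab h 1
    rw [hL] at this
    exact absurd this (by decide +kernel)
  have hg2 : D.u1 * D.u1 ∈ D.Stab := by rw [D.u1_sq]; exact D.Stab.one_mem
  obtain ⟨f, hf⟩ := step_zero F.t (D.hom 1) (g := D.u1) (fun h hh => A.conj_mem hh) hg2 hgK
    (A.hom_conj 1 hinv) (by
      rw [show (⟨D.u1 * D.u1, hg2⟩ : D.Stab) = 1 from Subtype.ext D.u1_sq, map_one])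
  have hfull : ∀ x : D.Stab, IsConj F.t ((x : G) * D.u1) → ∀ k : Fin 32, (k = 0 ∨ k = 2 ∨ k = 4 ∨ k = 6) →
      IsConj F.t ((x : G) * D.u1 * F.ev k) := by
    intro x hx k hk
    refine D.conj_mul_zeta hx hk ?_
    refine Commute.mul_left (by rw [← D.elt_coord x]; exact D.zeta_comm hk _) (Frame.commute_of_conj ?_)
    rw [A.conj_zeta hk]
    exact F.ev_rel ((by decide +kernel : ∀ k : Fin 32, k = 0 ∨ k = 2 ∨ k = 4 ∨ k = 6 → sigT 2 4 k = k) k hk)
  obtain ⟨j, hj⟩ := A.coset_count 1 hinv hfull 4 8 (by rw [hL]; decide +kernel) (by rw [hL]; decide +kernel)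
    (by rw [hL, hL]; decide +kernel)
  refine index_two_of_cnt F _ f 8 (3 + 2 * j) (by rw [card_extend hgK, D.card_Stab]) ⟨j + 1, by ring⟩ ?_
  rw [hf, hj, D.cnt_hom]
  simp only [hrows]
  rw [show (Finset.univ.filter fun r : Fin 32 =>
      (([1, 3, 5, 8, 10, 12, 16, 18, 20, 25, 27, 29] : List (Fin 32)).contains r && Frame.par 1 r) = true).card = 6
    by decide +kernel]
  ring

theorem caseH [Finite G] (hP : D.P = ⟨true, true, 4⟩)
    (hrows : ∀ r, D.o r = ([1, 3, 5, 11, 21, 25] : List (Fin 32)).contains r) :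
    ∃ H : Subgroup G, H.index = 2 := by
  classical
  have hal : D.P.al = true := by rw [hP]
  obtain ⟨et, ea, ez, eaz, ep, eq⟩ := F.ev_gens
  let s : G := F.x * (F.q * (F.a * F.z)) * F.x⁻¹
  have hs : ∀ e e' : G, (F.q * (F.a * F.z)) * e * (F.q * (F.a * F.z))⁻¹ = e' →
      s * (F.x * e * F.x⁻¹) * s⁻¹ = F.x * e' * F.x⁻¹ := by
    intro e e' h; rw [← h]; simp only [s]; group
  have hqb : ∀ (u u' : Fin 32), mulT (mulT 22 u) (Frame.invT 22) = u' →
      (F.q * (F.a * F.z)) * F.ev u * (F.q * (F.a * F.z))⁻¹ = F.ev u' := by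
    intro u u' h
    rw [← eq, ← eaz, ← F.ev_mul, F.ev_conj, (by decide +kernel : mulT 16 6 = 22), h]
  have st : s * F.t * s⁻¹ = F.t := by
    have := hs F.t F.t (by have h := hqb 1 1 (by decide +kernel); rwa [et] at h)
    rwa [F.x_t] at this
  have sp : s * F.p * s⁻¹ = F.p := by
    have := hs F.a F.a (by have h := hqb 2 2 (by decide +kernel); rwa [ea] at h)
    rwa [F.x_a] at this
  have spz : s * (F.p * F.z) * s⁻¹ = F.a := by
    have := hs F.p (F.p * F.z) (by
      have h := hqb 8 12 (by decide +kernel)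
      rwa [(show (12 : Fin 32) = mulT 8 4 by decide +kernel), F.ev_mul, ep, ez] at h)
    rwa [F.x_p, F.x_pz] at this
  have sa : s * F.a * s⁻¹ = F.p * F.z := by
    have := hs (F.p * F.z) F.p (by
      have h := hqb 12 8 (by decide +kernel)
      rwa [(show (12 : Fin 32) = mulT 8 4 by decide +kernel), F.ev_mul, ep, ez] at h)
    rwa [F.x_pz, F.x_p] at this
  let π : G := s * D.u1
  have hπ : ∀ e e', D.u1 * e * D.u1⁻¹ = e' → π * e * π⁻¹ = s * e' * s⁻¹ := by
    intro e e' h; rw [← h]; simp only [π]; group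
  have πt : π * F.t * π⁻¹ = F.t * F.p := by rw [hπ _ _ D.u1_t, Frame.conj_mul, st, sp]
  have πp : π * F.p * π⁻¹ = F.p := by rw [hπ _ _ D.u1_p, sp]
  have πz : π * F.z * π⁻¹ = F.a := by
    have e : π * (F.p * F.z) * π⁻¹ = s * (F.p * F.z * F.p) * s⁻¹ := by
      refine hπ _ _ ?_
      rw [D.u1_pz, hal, if_pos rfl]
    rw [Frame.conj_mul, πp, Frame.conj_mul s (F.p * F.z), spz, sp, F.cap] at e
    exact mul_left_cancel e
  have πa : π * F.a * π⁻¹ = F.z := by
    have e : π * (F.a * F.z) * π⁻¹ = s * (F.a * F.z) * s⁻¹ := hπ _ _ D.u1_az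
    have sz' : s * F.z * s⁻¹ = F.p * F.a := by
      have h : F.z = F.p * (F.p * F.z) := by rw [← mul_assoc, F.p_sq, one_mul]
      conv_lhs => rw [h]
      rw [Frame.conj_mul, sp, spz]
    rw [Frame.conj_mul, πz, Frame.conj_mul s, sa, sz'] at e
    refine mul_right_cancel (e.trans ?_)
    simp only [← ea, ← ez, ← ep, ← F.ev_mul]
    exact F.ev_rel (by decide +kernel)
  let A : Act D π :=
    { sa := 4
      sz := 2
      v := mk128 9 false false
      hs := Or.inr (Or.inl rfl)
      ha' := by rw [πa, ez]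
      hz' := by rw [πz, ea]
      ht' := by
        rw [πt, D.elt_ev, ← et, ← ep, ← F.ev_mul]
        exact F.ev_rel (by decide +kernel) }
  have hL : ∀ r, A.L r = lin 3 2 8 4 18 r := by
    refine A.L_eq_of_uniq _ hP _ hrows 4 2 3 rfl rfl ?_ [2] (List.finRange 32) ?_ (List.mem_finRange _) _ _ _ _
      (by decide +kernel)
    · rw [A.L_one]; exact (by decide +kernel : row (mk128 9 false false) = 3)
    · have := A.L_of_fix (u := 8) (by rw [ep]; exact πp)
      rw [show rowT 8 = 2 by decide +kernel] at this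
      exact List.mem_singleton.mpr this
  have hinv : ∀ r, Frame.par 1 (A.L r) = Frame.par 1 r := fun r => by
    rw [hL]; exact (by decide +kernel : ∀ r, Frame.par 1 (lin 3 2 8 4 18 r) = Frame.par 1 r) r
  have hgK : π ∉ D.Stab := fun h => by
    have := A.L_of_stab h 1
    rw [hL] at this
    exact absurd this (by decide +kernel)
  have h2 : ∀ e e' : G, π * e * π⁻¹ = e' → π * π * e * (π * π)⁻¹ = π * e' * π⁻¹ := by
    intro e e' h; rw [← h]; group
  obtain ⟨u, hu⟩ := F.mem_T (π * π)
    (Frame.commute_of_conj (by rw [h2 _ _ πt, Frame.conj_mul, πt, πp, mul_assoc, F.p_sq, mul_one]))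
    (Frame.commute_of_conj (by rw [h2 _ _ πa, πz]))
    (Frame.commute_of_conj (by rw [h2 _ _ πz, πa]))
  change _ = F.ev u at hu
  have hg2 : π * π ∈ D.Stab := by rw [hu, ← D.elt_ev]; exact D.elt_mem _
  have hufix : lin 3 2 8 4 18 (rowT u) = rowT u := by
    rw [← hL]
    refine A.L_of_fix ?_
    rw [← hu]; group
  obtain ⟨f, hf⟩ := step_zero F.t (D.hom 1) (g := π) (fun h hh => A.conj_mem hh) hg2 hgK
    (A.hom_conj 1 hinv) (by
      by_contra hne
      rw [← Ne, D.hom_ne] at hne
      have e : D.coord ⟨π * π, hg2⟩ = mk128 u false false := D.elt_inj (by rw [D.elt_coord, D.elt_ev]; exact hu)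
      rw [e, (by decide +kernel : ∀ u : Fin 32, row (mk128 u false false) = rowT u) u] at hne
      exact absurd hne ((by decide +kernel : ∀ u : Fin 32, lin 3 2 8 4 18 (rowT u) = rowT u →
        ¬ Frame.par 1 (rowT u) = true) u hufix))
  -- all four elements over `Z0`
  have six : Commute π (F.ev 6) := Frame.commute_of_conj (by
    rw [A.conj_zeta (by simp)]; exact F.ev_rel (show sigT 4 2 6 = 6 by decide +kernel))
  have hfull : ∀ x : D.Stab, IsConj F.t ((x : G) * π) → ∀ k : Fin 32, (k = 0 ∨ k = 2 ∨ k = 4 ∨ k = 6) →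
      IsConj F.t ((x : G) * π * F.ev k) := by
    intro x hx
    have xc : ∀ k : Fin 32, (k = 0 ∨ k = 2 ∨ k = 4 ∨ k = 6) → Commute (x : G) (F.ev k) := fun k hk => by
      rw [← D.elt_coord x]; exact D.zeta_comm hk _
    have uc : Commute ((x : G) * π) (F.ev 6) := (xc 6 (by simp)).mul_left six
    have e26 : F.ev 2 * F.ev 6 = F.ev 4 ∧ F.ev 4 * F.ev 6 = F.ev 2 := by
      rw [← F.ev_mul, ← F.ev_mul]
      exact ⟨F.ev_rel (by decide +kernel), F.ev_rel (by decide +kernel)⟩
    have add6 : ∀ k l : Fin 32, (k = 2 ∨ k = 4) → F.ev k * F.ev 6 = F.ev l →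
        IsConj F.t ((x : G) * π * F.ev k) → IsConj F.t ((x : G) * π * F.ev l) := by
      intro k l hk hkl h
      rw [← hkl, ← mul_assoc]
      refine D.conj_mul_zeta h (by simp) (uc.mul_left (F.ev_commute ?_))
      rcases hk with rfl | rfl <;> decide +kernel
    by_cases hex : IsConj F.t ((x : G) * π * F.ev 2) ∨ IsConj F.t ((x : G) * π * F.ev 4)
    · intro k hk
      rcases hk with rfl | rfl | rfl | rfl
      · rw [F.ev_zero, mul_one]; exact hx
      · exact hex.elim id (add6 4 2 (by simp) e26.2)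
      · exact hex.elim (add6 2 4 (by simp) e26.1) id
      · exact D.conj_mul_zeta hx (by simp) uc
    exfalso
    push Not at hex
    set w := (x : G) * π with hw
    have hw2 : w * w = 1 := sq_of_isConj F.t_sq hx
    -- commuting lifts of the fixed rows
    have hlift : ∀ r : Fin 32, lin 3 2 8 4 18 r = r →
        ∃ h : D.Stab, row (D.coord h) = r ∧ Commute (h : G) w := by
      intro r hr
      let h : D.Stab := ⟨D.elt (lift r), D.elt_mem _⟩
      let y : D.Stab := h * x * ⟨π * (h⁻¹ : D.Stab).1 * π⁻¹, A.conj_mem (h⁻¹).2⟩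
      have hh : row (D.coord h) = r := by rw [D.coord_elt, row_lift]
      have hy : row (D.coord y) = row (D.coord x) := by
        have h1 : mul128 D.P (D.coord h) (D.coord h⁻¹) = mk128 0 false false :=
          D.elt_inj (by rw [D.elt_mul, D.elt_coord, D.elt_coord, D.elt_ev, F.ev_zero]; exact mul_inv_cancel _)
        have h2 := congrArg row h1
        rw [row_mul D.P D.phiA_ka.2, (by decide +kernel : row (mk128 0 false false) = 0), hh] at h2
        have h3 : row (D.coord h⁻¹) = r := by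
          have := radd_left r (row (D.coord h⁻¹))
          rw [h2, radd_zero] at this
          exact this.symm
        rw [D.coord_mul, D.coord_mul, row_mul D.P D.phiA_ka.2, row_mul D.P D.phiA_ka.2, A.row_conj, h3, hh, hL, hr,
          radd_comm r, radd_assoc, radd_self, radd_zero]
      obtain ⟨k, hk, e⟩ : ∃ k : Fin 32, (k = 0 ∨ k = 2 ∨ k = 4 ∨ k = 6) ∧ (y : G) = x * F.ev k := by
        obtain ⟨k1, hk1, e1⟩ := D.exists_zeta (D.coord y)
        obtain ⟨k2, hk2, e2⟩ := D.exists_zeta (D.coord x)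
        rw [D.elt_coord, hy] at e1
        rw [D.elt_coord] at e2
        refine ⟨mulT k2 k1, (by decide +kernel : ∀ a b : Fin 32, a = 0 ∨ a = 2 ∨ a = 4 ∨ a = 6 →
          b = 0 ∨ b = 2 ∨ b = 4 ∨ b = 6 → mulT a b = 0 ∨ mulT a b = 2 ∨ mulT a b = 4 ∨ mulT a b = 6) k2 k1 hk2 hk1, ?_⟩
        rw [e1, e2, F.ev_mul, mul_assoc, ← mul_assoc (F.ev k2), ← F.ev_mul,
          (by decide +kernel : ∀ k : Fin 32, k = 0 ∨ k = 2 ∨ k = 4 ∨ k = 6 → mulT k k = 0) k2 hk2, F.ev_zero, one_mul]
      obtain ⟨k', hk', e'⟩ := A.conj_back hk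
      have econj : (h : G) * w * (h : G)⁻¹ = w * F.ev k' := by
        calc (h : G) * w * (h : G)⁻¹ = (y : G) * π := by
              change (h : G) * ((x : G) * π) * (h : G)⁻¹ = (h : G) * x * (π * (h : G)⁻¹ * π⁻¹) * π
              group
          _ = x * F.ev k * π := by rw [e]
          _ = w * F.ev k' := by rw [← e', hw]; group
      have hO : IsConj F.t (w * F.ev k') := by rw [← econj, isConj_conj_iff]; exact hx
      rcases hk' with rfl | rfl | rfl | rfl
      · exact ⟨h, hh, Frame.commute_of_conj (by rw [econj, F.ev_zero, mul_one])⟩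
      · exact absurd hO hex.1
      · exact absurd hO hex.2
      · have h6 : F.ev 6 * F.ev 6 = 1 := by rw [← F.ev_mul, (by decide +kernel : mulT 6 6 = 0), F.ev_zero]
        have ea2 : F.ev 2 * w * (F.ev 2)⁻¹ = w * F.ev 6 := by
          have c2 : π⁻¹ * F.ev 2 * π = F.ev 4 := by
            rw [ea, ez]
            calc π⁻¹ * F.a * π = π⁻¹ * (π * F.z * π⁻¹) * π := by rw [πz]
              _ = F.z := by group
          have x2 := (xc 2 (by simp)).eq
          calc F.ev 2 * w * (F.ev 2)⁻¹ = F.ev 2 * (x : G) * π * (F.ev 2)⁻¹ := by rw [hw]; group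
            _ = (x : G) * π * ((π⁻¹ * F.ev 2 * π) * (F.ev 2)⁻¹) := by rw [← x2]; group
            _ = w * F.ev 6 := by
              rw [c2, F.ev_inv, ← F.ev_mul, hw]
              exact congrArg _ (F.ev_rel (by decide +kernel))
        refine ⟨h * ⟨D.elt (mk128 2 false false), D.elt_mem _⟩, ?_, Frame.commute_of_conj ?_⟩
        · rw [D.coord_mul, row_mul D.P D.phiA_ka.2, hh, D.coord_elt,
            (by decide +kernel : row (mk128 2 false false) = 0), radd_zero]
        · change (h : G) * D.elt (mk128 2 false false) * w * ((h : G) * D.elt (mk128 2 false false))⁻¹ = w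
          rw [D.elt_ev]
          calc (h : G) * F.ev 2 * w * ((h : G) * F.ev 2)⁻¹ = (h : G) * (F.ev 2 * w * (F.ev 2)⁻¹) * (h : G)⁻¹ := by group
            _ = (h : G) * w * (h : G)⁻¹ * ((h : G) * F.ev 6 * (h : G)⁻¹) := by rw [ea2]; group
            _ = w := by
              rw [econj, Frame.conj_of_commute (by rw [← D.elt_coord h]; exact D.zeta_comm (by simp) _), mul_assoc,
                h6, mul_one]
    choose h hhrow hhcomm using hlift
    let H := D.Stab ⊓ Subgroup.centralizer ({w} : Set G)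
    let φ : {r : Fin 32 // lin 3 2 8 4 18 r = r} × Bool → H := fun p =>
      ⟨(h p.1.1 p.1.2 : G) * F.ev (if p.2 then 6 else 0),
        D.Stab.mul_mem (h p.1.1 p.1.2).2 (D.elt_ev (if p.2 then 6 else 0) ▸ D.elt_mem _),
        Subgroup.mem_centralizer_singleton_iff.mpr
          ((hhcomm p.1.1 p.1.2).mul_left (by
            cases p.2
            · simp [F.ev_zero, Commute.one_left]
            · simpa using uc.symm)).eq⟩
    have hφ : Function.Injective φ := by
      rintro ⟨⟨r, hr⟩, b⟩ ⟨⟨r', hr'⟩, b'⟩ e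
      have e1 : (h r hr : G) * F.ev (if b then 6 else 0) = (h r' hr' : G) * F.ev (if b' then 6 else 0) :=
        congrArg Subtype.val e
      have z6 : ∀ b : Bool, row (mk128 (if b then 6 else 0) false false) = 0 := by decide +kernel
      have e2 : h r hr * ⟨D.elt (mk128 (if b then 6 else 0) false false), D.elt_mem _⟩ =
          h r' hr' * ⟨D.elt (mk128 (if b' then 6 else 0) false false), D.elt_mem _⟩ := Subtype.ext (by
        change (h r hr : G) * D.elt _ = (h r' hr' : G) * D.elt _
        rw [D.elt_ev, D.elt_ev]; exact e1)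
      have e3 := congrArg (fun z => row (D.coord z)) e2
      simp only [D.coord_mul, row_mul D.P D.phiA_ka.2, hhrow, D.coord_elt, z6, radd_zero] at e3
      subst e3
      have := F.ev_inj (mul_left_cancel e1)
      cases b <;> cases b' <;> first | rfl | exact absurd this (by decide)
    have hc16 : 16 ≤ Nat.card H := by
      have := Nat.card_le_card_of_injective φ hφ
      rw [Nat.card_prod, Nat.card_eq_fintype_card (α := {r : Fin 32 // lin 3 2 8 4 18 r = r}), Fintype.card_subtype,
        show (Finset.univ.filter fun r : Fin 32 => lin 3 2 8 4 18 r = r).card = 8 by decide +kernel,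
        Nat.card_eq_fintype_card (α := Bool), Fintype.card_bool] at this
      exact this
    have hHw : ∀ g ∈ H, Commute g w := fun g hg => Subgroup.mem_centralizer_singleton_iff.mp hg.2
    have hwH : w ∉ H := fun hc => hgK (by
      have := D.Stab.mul_mem (D.Stab.inv_mem x.2) hc.1
      rwa [hw, inv_mul_cancel_left] at this)
    have hwn : ∀ g ∈ H, w * g * w⁻¹ ∈ H := fun g hg => by rwa [(hHw g hg).symm.eq, mul_inv_cancel_right]
    have hw2' : w * w ∈ H := by rw [hw2]; exact H.one_mem
    let K := extend H w hwn hw2'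
    have hKle : ∀ g ∈ K, Commute g w := by
      intro g hg
      rcases hg with hg | hg
      · exact hHw g hg
      · have := (hHw _ hg).mul_left (Commute.refl w)
        rwa [inv_mul_cancel_right] at this
    obtain ⟨k, -, hk⟩ := (Nat.dvd_prime_pow Nat.prime_two).mp
      (show Nat.card H ∣ 2 ^ 7 by
        rw [show (2 : ℕ) ^ 7 = 128 by norm_num, ← D.card_Stab]; exact Subgroup.card_dvd_of_le inf_le_left)
    have hKc : Nat.card K = 2 ^ (k + 1) := by rw [card_extend hwH, hk, pow_succ']
    have hk4 : Nat.card H = 16 := by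
      have h5 := F.two_power_le hx K (k + 1) hKc hKle
      have : (2 : ℕ) ^ k ≤ 2 ^ 4 := Nat.pow_le_pow_right (by norm_num) (by omega)
      norm_num at this
      omega
    have hbij : Function.Bijective φ := (Nat.bijective_iff_injective_and_card φ).mpr ⟨hφ, by
      rw [hk4, Nat.card_prod, Nat.card_eq_fintype_card (α := {r : Fin 32 // lin 3 2 8 4 18 r = r}),
        Fintype.card_subtype,
        show (Finset.univ.filter fun r : Fin 32 => lin 3 2 8 4 18 r = r).card = 8 by decide +kernel,
        Nat.card_eq_fintype_card (α := Bool), Fintype.card_bool]⟩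
    have h17 : lin 3 2 8 4 18 17 = 17 := by decide +kernel
    have hcH : ∀ g ∈ H, Commute (h 17 h17 : G) g := by
      intro g hg
      obtain ⟨⟨⟨r, hr⟩, b⟩, e⟩ := hbij.2 ⟨g, hg⟩
      have e1 : (h r hr : G) * F.ev (if b then 6 else 0) = g := congrArg Subtype.val e
      rw [← e1]
      have hb : (if b then (6 : Fin 32) else 0) = 0 ∨ (if b then (6 : Fin 32) else 0) = 2 ∨
          (if b then (6 : Fin 32) else 0) = 4 ∨ (if b then (6 : Fin 32) else 0) = 6 := by cases b <;> simp
      refine Commute.mul_right ?_ (by rw [← D.elt_coord (h 17 h17)]; exact D.zeta_comm hb _)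
      obtain ⟨k1, hk1, e1⟩ := D.exists_zeta (D.coord (h 17 h17))
      obtain ⟨k2, hk2, e2⟩ := D.exists_zeta (D.coord (h r hr))
      rw [D.elt_coord, hhrow] at e1 e2
      rw [e1, e2]
      have hcr : Commute (D.elt (lift 17)) (D.elt (lift r)) := by
        rw [commute_iff_eq, ← D.elt_mul, ← D.elt_mul, hP]
        congr 1
        exact (by decide +kernel : ∀ r, lin 3 2 8 4 18 r = r →
          mul128 ⟨true, true, 4⟩ (lift 17) (lift r) = mul128 ⟨true, true, 4⟩ (lift r) (lift 17)) r hr
      refine ((hcr.mul_right (D.zeta_comm hk2 _)).mul_left ((D.zeta_comm hk1 _).symm.mul_right ?_))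
      exact F.ev_commute ((by decide +kernel : ∀ a b : Fin 32, a = 0 ∨ a = 2 ∨ a = 4 ∨ a = 6 →
        b = 0 ∨ b = 2 ∨ b = 4 ∨ b = 6 → mulT a b = mulT b a) k1 k2 hk1 hk2)
    have h17H : (h 17 h17 : G) ∈ H :=
      ⟨(h 17 h17).2, Subgroup.mem_centralizer_singleton_iff.mpr (hhcomm 17 h17).eq⟩
    have hsq : (h 17 h17 : G) * (h 17 h17 : G) = 1 := by
      refine central_sq hx K (by rw [card_extend hwH, hk4]) hKle (le_extend h17H) ?_
      intro g hg
      rcases hg with hg | hg
      · exact hcH g hg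
      · have := (hcH _ hg).mul_right (hhcomm 17 h17)
        rwa [inv_mul_cancel_right] at this
    obtain ⟨k1, hk1, e1⟩ := D.exists_zeta (D.coord (h 17 h17))
    rw [D.elt_coord, hhrow] at e1
    have hk11 : F.ev k1 * F.ev k1 = 1 := by
      rw [← F.ev_mul, (by decide +kernel : ∀ k : Fin 32, k = 0 ∨ k = 2 ∨ k = 4 ∨ k = 6 → mulT k k = 0) k1 hk1, F.ev_zero]
    have h17sq : D.elt (mul128 D.P (lift 17) (lift 17)) = D.elt (mk128 0 false false) := by
      rw [D.elt_mul, D.elt_ev, F.ev_zero, ← hsq, e1]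
      have c := (D.zeta_comm hk1 (lift 17)).eq
      rw [mul_assoc (D.elt (lift 17)) (F.ev k1), ← mul_assoc (F.ev k1), ← c, mul_assoc (D.elt (lift 17)) (F.ev k1),
        hk11, mul_one]
    rw [hP] at h17sq
    exact absurd (D.elt_inj h17sq) (by decide +kernel)
  obtain ⟨j, hj⟩ := A.coset_count 1 hinv hfull 4 16 (by rw [hL]; decide +kernel) (by rw [hL]; decide +kernel)
    (by rw [hL, hL]; decide +kernel)
  refine index_two_of_cnt F _ f 8 (3 + 2 * j) (by rw [card_extend hgK, D.card_Stab]) ⟨j + 1, by ring⟩ ?_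
  rw [hf, hj, D.cnt_hom]
  simp only [hrows]
  rw [show (Finset.univ.filter fun r : Fin 32 =>
      (([1, 3, 5, 11, 21, 25] : List (Fin 32)).contains r && Frame.par 1 r) = true).card = 6 by decide +kernel]
  ring

end NFData

end CfsgLib.InvCentS6
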