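import Cfsg.Agent.Lib.InvCentS6.Gen

/-!
The configuration with eight rows.
-/

set_option autoImplicit false

namespace CfsgLib.InvCentS6

variable {G : Type*} [Group G] {F : Frame G}

namespace Act

variable {D : NFData F}

theorem L_congr [Finite G] {g h : G} (A : Act D g) (B : Act D h) (e : g = h) (r : Fin 32) : A.L r = B.L r := by
  subst e
  rfl

end Act

namespace NFData

variable (D : NFData F)

theorem row_inv [Finite G] (x : D.Stab) : row (D.coord x⁻¹) = row (D.coord x) := by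
  have h1 : mul128 D.P (D.coord x) (D.coord x⁻¹) = mk128 0 false false :=
    D.elt_inj (by rw [D.elt_mul, D.elt_coord, D.elt_coord, D.elt_ev, F.ev_zero]; exact mul_inv_cancel _)
  have h2 := congrArg row h1
  rw [row_mul D.P D.phiA_ka.2, (by decide +kernel : row (mk128 0 false false) = 0)] at h2
  have := radd_left (row (D.coord x)) (row (D.coord x⁻¹))
  rw [h2, radd_zero] at this
  exact this.symm

theorem row_coord_one : row (D.coord 1) = 0 := by
  have : D.coord 1 = mk128 0 false false := D.elt_inj (by rw [D.elt_coord, D.elt_ev, F.ev_zero]; rfl)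
  rw [this]
  decide +kernel

/-- The square of `x g` in rows. -/
theorem row_coset_sq [Finite G] {g : G} (A : Act D g) (hg : g * g ∈ D.Stab) (x : D.Stab)
    (h : IsConj F.t ((x : G) * g)) :
    radd (radd (row (D.coord x)) (A.L (row (D.coord x)))) (row (D.coord ⟨g * g, hg⟩)) = 0 := by
  have e : x * ⟨g * x.1 * g⁻¹, A.conj_mem x.2⟩ * ⟨g * g, hg⟩ = (1 : D.Stab) := Subtype.ext (by
    change (x : G) * (g * x.1 * g⁻¹) * (g * g) = 1
    rw [← sq_of_isConj F.t_sq h]; group)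
  have e1 := congrArg (fun z => row (D.coord z)) e
  simp only [D.coord_mul, row_mul D.P D.phiA_ka.2, A.row_conj, D.row_coord_one] at e1
  exact e1

theorem caseI [Finite G] (hP : D.P = ⟨false, true, 6⟩)
    (hrows : ∀ r, D.o r = ([1, 3, 5, 8, 10, 12, 21, 28] : List (Fin 32)).contains r) :
    ∃ H : Subgroup G, H.index = 2 := by
  classical
  have hal : D.P.al = false := by rw [hP]
  obtain ⟨et, ea, ez, eaz, ep, eq⟩ := F.ev_gens
  let U := D.u1Act hal
  have hUL : ∀ r, U.L r = lin 3 2 31 10 16 r := by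
    refine U.L_eq_of_uniq _ hP _ hrows 2 4 3 rfl rfl ?_ [2] (List.finRange 32) ?_ (List.mem_finRange _) _ _ _ _
      (by decide +kernel)
    · rw [U.L_one]; exact (by decide +kernel : row (mk128 9 false false) = 3)
    · have := U.L_of_fix (u := 8) (by rw [ep]; exact D.u1_p)
      rw [show rowT 8 = 2 by decide +kernel] at this
      exact List.mem_singleton.mpr this
  have hu2 := D.u1_sq
  have huinv : D.u1⁻¹ = D.u1 := inv_eq_of_mul_eq_one_right hu2
  have hU0 := D.u1_conj (by rw [hrows]; decide +kernel)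
  have ua : D.u1 * F.a * D.u1⁻¹ = F.a := by
    have := U.ha'
    rwa [show U.sa = 2 from rfl, ea] at this
  have uz : D.u1 * F.z * D.u1⁻¹ = F.z := by
    have := U.hz'
    rwa [show U.sz = 4 from rfl, ez] at this
  -- the second element
  let σ' : G := F.y * F.p * F.y⁻¹
  let k0 : G := F.y * D.hb * F.y⁻¹
  let g : G := σ' * k0
  have hyt : F.y⁻¹ * F.t * F.y = F.t := by
    calc F.y⁻¹ * F.t * F.y = F.y⁻¹ * (F.y * F.t * F.y⁻¹) * F.y := by rw [F.y_t]
      _ = F.t := by group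
  have hbt : D.hb * F.t * D.hb⁻¹ = F.t * (F.a * F.z) := D.hB.ht
  have hbz : D.hb * F.z * D.hb⁻¹ = F.z := D.hB.cz
  have kconj : ∀ e e' : G, D.hb * e * D.hb⁻¹ = e' → k0 * (F.y * e * F.y⁻¹) * k0⁻¹ = F.y * e' * F.y⁻¹ := by
    intro e e' h; rw [← h]; simp only [k0]; group
  have sconj : ∀ e e' : G, F.p * e * F.p⁻¹ = e' → σ' * (F.y * e * F.y⁻¹) * σ'⁻¹ = F.y * e' * F.y⁻¹ := by
    intro e e' h; rw [← h]; simp only [σ']; group
  have ka : k0 * F.a * k0⁻¹ = F.a := by
    have := kconj F.a F.a D.hb_a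
    rwa [F.y_a] at this
  have kq : k0 * F.q * k0⁻¹ = F.q := by
    have := kconj F.z F.z hbz
    rwa [F.y_z] at this
  have kt : k0 * F.t * k0⁻¹ = F.t * (F.a * F.q) := by
    have := kconj F.t _ hbt
    rwa [F.y_t, Frame.conj_mul F.y, Frame.conj_mul F.y, F.y_t, F.y_a, F.y_z] at this
  have kz : k0 * F.z * k0⁻¹ = F.q * (F.a * F.z) := by
    have hq' : D.hb * F.q * D.hb⁻¹ = F.q * (F.a * F.z) := by
      rw [D.hb_q, hP, if_pos rfl, ← eaz, ← eq, ← F.ev_mul]
      exact F.ev_rel (by decide +kernel)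
    have h1 := kconj F.q _ hq'
    rw [F.y_q, Frame.conj_mul k0, kq, Frame.conj_mul F.y, Frame.conj_mul F.y, F.y_q, F.y_a, F.y_z] at h1
    refine mul_left_cancel (h1.trans ?_)
    simp only [← eq, ← ez, ← ea, ← F.ev_mul]
    exact F.ev_rel (by decide +kernel)
  have pa : F.p * F.a * F.p⁻¹ = F.a := Frame.conj_of_commute F.cap.symm
  have pz : F.p * F.z * F.p⁻¹ = F.z := Frame.conj_of_commute F.czp.symm
  have pt : F.p * F.t * F.p⁻¹ = F.t := Frame.conj_of_commute F.ctp.symm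
  have pq : F.p * F.q * F.p⁻¹ = F.q * F.z := by
    simp only [← eq, ← ez, ← ep, ← F.ev_mul, F.ev_inv]
    exact F.ev_rel (by decide +kernel)
  have sa' : σ' * F.a * σ'⁻¹ = F.a := by
    have := sconj F.a F.a pa
    rwa [F.y_a] at this
  have st : σ' * F.t * σ'⁻¹ = F.t := by
    have := sconj F.t F.t pt
    rwa [F.y_t] at this
  have sq' : σ' * F.q * σ'⁻¹ = F.q := by
    have := sconj F.z F.z pz
    rwa [F.y_z] at this
  have sz' : σ' * F.z * σ'⁻¹ = F.q * F.z := by
    have h1 := sconj (F.q * F.z) F.q (by rw [Frame.conj_mul, pq, pz, mul_assoc, F.z_sq, mul_one])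
    rw [Frame.conj_mul F.y F.q F.z, F.y_q, F.y_z] at h1
    have e : F.q * F.z * F.q = F.z := by
      rw [mul_assoc, F.czq, ← mul_assoc, F.q_sq, one_mul]
    rwa [e] at h1
  have gconj : ∀ e e' : G, k0 * e * k0⁻¹ = e' → g * e * g⁻¹ = σ' * e' * σ'⁻¹ := by
    intro e e' h; rw [← h]; simp only [g]; group
  have ga : g * F.a * g⁻¹ = F.a := by rw [gconj _ _ ka, sa']
  have gq : g * F.q * g⁻¹ = F.q := by rw [gconj _ _ kq, sq']
  have gt : g * F.t * g⁻¹ = F.t * (F.a * F.q) := by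
    rw [gconj _ _ kt, Frame.conj_mul, Frame.conj_mul, st, sa', sq']
  have gz : g * F.z * g⁻¹ = F.a * F.z := by
    rw [gconj _ _ kz, Frame.conj_mul, Frame.conj_mul, sq', sa', sz']
    simp only [← ea, ← ez, ← eq, ← F.ev_mul]
    exact F.ev_rel (by decide +kernel)
  let A : Act D g :=
    { sa := 2
      sz := 6
      v := mk128 19 false false
      hs := Or.inr (Or.inr (Or.inl rfl))
      ha' := by rw [ga, ea]
      hz' := by rw [gz, eaz]
      ht' := by
        rw [gt, D.elt_ev, ← et, ← ea, ← eq, ← F.ev_mul, ← F.ev_mul]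
        exact F.ev_rel (by decide +kernel) }
  have hAL : ∀ r, A.L r = lin 5 16 4 12 2 r := by
    refine A.L_eq_of_uniq _ hP _ hrows 2 6 5 rfl rfl ?_ (List.finRange 32) [4] (List.mem_finRange _) ?_ _ _ _ _
      (by decide +kernel)
    · rw [A.L_one]; exact (by decide +kernel : row (mk128 19 false false) = 5)
    · have := A.L_of_fix (u := 16) (by rw [eq]; exact gq)
      rw [show rowT 16 = 4 by decide +kernel] at this
      exact List.mem_singleton.mpr this
  have g2conj : ∀ e e' : G, g * e * g⁻¹ = e' → g * g * e * (g * g)⁻¹ = g * e' * g⁻¹ := by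
    intro e e' h; rw [← h]; group
  obtain ⟨w, hw⟩ := F.mem_T (g * g)
    (Frame.commute_of_conj (by
      rw [g2conj _ _ gt, Frame.conj_mul, Frame.conj_mul, gt, ga, gq, mul_assoc]
      simp only [← et, ← ea, ← eq, ← F.ev_mul]
      exact F.ev_rel (by decide +kernel)))
    (Frame.commute_of_conj (by rw [g2conj _ _ ga, ga]))
    (Frame.commute_of_conj (by
      rw [g2conj _ _ gz, Frame.conj_mul, ga, gz, ← mul_assoc, F.a_sq, one_mul]))
  change _ = F.ev w at hw
  have hgg : g * g ∈ D.Stab := by rw [hw, ← D.elt_ev]; exact D.elt_mem _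
  have hwrow : row (D.coord ⟨g * g, hgg⟩) = rowT w := by
    have e : D.coord ⟨g * g, hgg⟩ = mk128 w false false := D.elt_inj (by rw [D.elt_coord, D.elt_ev]; exact hw)
    rw [e]
    exact (by decide +kernel : ∀ u : Fin 32, row (mk128 u false false) = rowT u) w
  have hwfix : lin 5 16 4 12 2 (rowT w) = rowT w := by
    rw [← hAL]
    refine A.L_of_fix ?_
    rw [← hw]; group
  -- the conjugate involution
  let y : G := g * D.u1 * g⁻¹
  have hy2 : y * y = 1 := by
    calc y * y = g * (D.u1 * D.u1) * g⁻¹ := by simp only [y]; group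
      _ = 1 := by rw [hu2]; group
  have hy0 : IsConj F.t y := (isConj_conj_iff g D.u1).mpr hU0
  have hyt' : y * F.t * y⁻¹ ∈ D.Stab := by
    have h1 : F.t ∈ D.Stab := by rw [← et, ← D.elt_ev]; exact D.elt_mem _
    have h2 := A.conj_mem (U.conj_mem (A.inv_conj_mem h1))
    rwa [show g * (D.u1 * (g⁻¹ * F.t * g) * D.u1⁻¹) * g⁻¹ = y * F.t * y⁻¹ by simp only [y]; group] at h2
  have yconj : ∀ e e' : G, g * e' * g⁻¹ = e → D.u1 * e' * D.u1⁻¹ = e' → y * e * y⁻¹ = e := by
    intro e e' h1 h2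
    calc y * e * y⁻¹ = g * (D.u1 * (g⁻¹ * (g * e' * g⁻¹) * g) * D.u1⁻¹) * g⁻¹ := by
          rw [h1]; simp only [y]; group
      _ = g * (D.u1 * e' * D.u1⁻¹) * g⁻¹ := by group
      _ = e := by rw [h2, h1]
  let Y : Act D y :=
    { sa := 2
      sz := 4
      v := D.coord ⟨y * F.t * y⁻¹, hyt'⟩
      hs := Or.inl rfl
      ha' := by rw [yconj F.a F.a ga ua, ea]
      hz' := by
        rw [yconj F.z (F.a * F.z) ?_ (by rw [Frame.conj_mul, ua, uz]), ez]
        rw [Frame.conj_mul, ga, gz, ← mul_assoc, F.a_sq, one_mul]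
      ht' := by rw [D.elt_coord] }
  let LY : Fin 32 → Fin 32 := fun r => lin 5 16 4 12 2 (lin 3 2 31 10 16 (lin 5 16 4 12 2 r))
  have hYL : ∀ r, Y.L r = LY r := by
    intro r
    have hii : ∀ r, lin 5 16 4 12 2 (lin 5 16 4 12 2 r) = r := by decide +kernel
    have h := Act.L_congr (Y.mul A) (A.mul U) (by simp only [y]; group) (lin 5 16 4 12 2 r)
    rw [Act.L_mul, Act.L_mul, hAL, hAL, hUL, hii] at h
    exact h
  have fixpar : ∀ r, lin 3 2 31 10 16 r = r → Frame.par 9 r = false := by decide +kernel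
  have hm1 : ∀ x : D.Stab, Frame.par 9 (row (D.coord x)) = false → D.hom 9 x = 1 := by
    intro x h
    by_contra hne
    rw [← Ne, D.hom_ne, h] at hne
    exact absurd hne (by decide)
  have hinvU : ∀ r, Frame.par 9 (U.L r) = Frame.par 9 r := fun r => by
    rw [hUL]; exact (by decide +kernel : ∀ r, Frame.par 9 (lin 3 2 31 10 16 r) = Frame.par 9 r) r
  have hinvY : ∀ r, Frame.par 9 (Y.L r) = Frame.par 9 r := fun r => by
    rw [hYL]
    exact (by decide +kernel : ∀ r, Frame.par 9 (lin 5 16 4 12 2 (lin 3 2 31 10 16 (lin 5 16 4 12 2 r))) =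
      Frame.par 9 r) r
  have hinvA : ∀ r, Frame.par 9 (A.L r) = Frame.par 9 r := fun r => by
    rw [hAL]; exact (by decide +kernel : ∀ r, Frame.par 9 (lin 5 16 4 12 2 r) = Frame.par 9 r) r
  -- first step
  have hgK1 : D.u1 ∉ D.Stab := fun h => by
    have := U.L_of_stab h 1
    rw [hUL] at this
    exact absurd this (by decide +kernel)
  have hg1 : D.u1 * D.u1 ∈ D.Stab := by rw [hu2]; exact D.Stab.one_mem
  have c1 : ∀ x : D.Stab, IsConj F.t ((x : G) * D.u1) → D.hom 9 x = 1 := by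
    intro x hx
    have := D.row_coset_sq U hg1 x hx
    rw [show (⟨D.u1 * D.u1, hg1⟩ : D.Stab) = 1 from Subtype.ext hu2, D.row_coord_one, radd_zero, hUL] at this
    exact hm1 x ((by decide +kernel : ∀ r, radd r (lin 3 2 31 10 16 r) = 0 → Frame.par 9 r = false) _ this)
  obtain ⟨f1, f1res, f1cnt, f1val⟩ := step_const F.t (D.hom 9) (g := D.u1) (fun h hh => U.conj_mem hh) hg1 hgK1
    (U.hom_conj 9 hinvU) (by rw [show (⟨D.u1 * D.u1, hg1⟩ : D.Stab) = 1 from Subtype.ext hu2, map_one])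
    (fun h h' a b => by rw [c1 h a, c1 h' b])
  have f1u : f1 ⟨D.u1, self_mem_extend⟩ = 1 := by
    rw [f1val 1 (by simpa using hU0), map_one]
  have f1s : ∀ (x : extend D.Stab D.u1 (fun h hh => U.conj_mem hh) hg1) (s : D.Stab),
      ((x : G) = s ∨ (x : G) = s * D.u1) → f1 x = D.hom 9 s := by
    intro x s hx
    rcases hx with e | e
    · rw [← f1res s]; exact congrArg f1 (Subtype.ext e)
    · rw [show x = (⟨s, le_extend s.2⟩ : extend D.Stab D.u1 (fun h hh => U.conj_mem hh) hg1) *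
          ⟨D.u1, self_mem_extend⟩ from Subtype.ext e, map_mul, f1u, f1res, mul_one]
  -- the commutator of the two involutions
  have hdS : y * D.u1 * y * D.u1 ∈ D.Stab := by
    refine (((Y.mul U).mul Y).mul U).mem_of_row_one ?_ ?_
    · exact Act.mul_sigma_id _ _ (Act.mul_sigma_id _ _ (Act.mul_sigma_id _ _ ⟨rfl, rfl⟩ ⟨rfl, rfl⟩) ⟨rfl, rfl⟩) ⟨rfl, rfl⟩
    · rw [Act.L_mul, Act.L_mul, Act.L_mul, hUL, hYL, hUL, hYL]
      decide +kernel
  have inv4 : ∀ a b : G, a * a = 1 → b * b = 1 → (a * b * a * b)⁻¹ = b * a * b * a := by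
    intro a b ha hb
    rw [mul_inv_rev, mul_inv_rev, mul_inv_rev, inv_eq_of_mul_eq_one_right ha, inv_eq_of_mul_eq_one_right hb]
    group
  let d : D.Stab := ⟨y * D.u1 * y * D.u1, hdS⟩
  have hdfix : lin 8 2 4 1 16 (row (D.coord d)) = row (D.coord d) := by
    have e := (Y.mul U).row_conj d
    rw [show (⟨y * D.u1 * d.1 * (y * D.u1)⁻¹, (Y.mul U).conj_mem d.2⟩ : D.Stab) = d from Subtype.ext (by
      simp only [d]; group), Act.L_mul, hUL, hYL] at e
    rw [← (by decide +kernel : ∀ r, lin 5 16 4 12 2 (lin 3 2 31 10 16 (lin 5 16 4 12 2 (lin 3 2 31 10 16 r))) =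
      lin 8 2 4 1 16 r) (row (D.coord d))]
    exact e.symm
  have hdpar : D.hom 9 d = 1 :=
    hm1 d ((by decide +kernel : ∀ r, lin 8 2 4 1 16 r = r → Frame.par 9 r = false) _ hdfix)
  have hd9 : row (D.coord d) ≠ 9 := by
    intro h9
    obtain ⟨k, hk, ek⟩ := D.exists_zeta (D.coord d)
    rw [D.elt_coord, h9] at ek
    have e33 : D.elt (lift 9) = F.t * D.ha := by
      rw [(by decide +kernel : lift 9 = mk128 1 true false)]
      simp [elt, mk128_proj, et]
    rw [e33] at ek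
    have kc : ∀ u : G, (u = D.u1 ∨ u = D.ha) → Commute u (F.ev k) := by
      rintro u (rfl | rfl)
      · refine Frame.commute_of_conj ?_
        rw [U.conj_zeta hk]
        exact F.ev_rel ((by decide +kernel : ∀ k : Fin 32, k = 0 ∨ k = 2 ∨ k = 4 ∨ k = 6 → sigT 2 4 k = k) k hk)
      · rw [← D.ha_elt]; exact D.zeta_comm hk _
    have hk2 : F.ev k * F.ev k = 1 := by
      rw [← F.ev_mul, (by decide +kernel : ∀ k : Fin 32, k = 0 ∨ k = 2 ∨ k = 4 ∨ k = 6 → mulT k k = 0) k hk, F.ev_zero]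
    have einv : D.u1 * (F.t * D.ha * F.ev k) * D.u1⁻¹ = (F.t * D.ha * F.ev k)⁻¹ := by
      rw [← ek]
      change D.u1 * (y * D.u1 * y * D.u1) * D.u1⁻¹ = (y * D.u1 * y * D.u1)⁻¹
      rw [inv4 y D.u1 hy2 hu2, huinv]
      rw [show D.u1 * (y * D.u1 * y * D.u1) * D.u1 = D.u1 * (y * D.u1 * y) * (D.u1 * D.u1) by group, hu2]
      group
    rw [Frame.conj_mul, Frame.conj_mul, D.u1_t, Frame.conj_of_commute (kc _ (Or.inl rfl)), mul_inv_rev, mul_inv_rev,
      inv_eq_of_mul_eq_one_right hk2, inv_eq_of_mul_eq_one_right D.hA.sq, inv_eq_of_mul_eq_one_right F.t_sq] at einv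
    have e5 : D.u1 * D.ha * D.u1⁻¹ = F.p * F.a * D.ha := by
      have hta : D.ha * F.t = F.t * F.a * D.ha := mul_inv_eq_iff_eq_mul.mp D.hA.ht
      have e := einv
      rw [hta, ← mul_assoc, ← mul_assoc (F.ev k), ← mul_assoc] at e
      have hkta : F.ev k * (F.t * F.a) = F.t * F.a * F.ev k :=
        ((F.ev_comm_t k).mul_right (F.ev_comm_a k)).eq
      rw [hkta, mul_assoc (F.t * F.a), ← (kc _ (Or.inr rfl)).eq, ← mul_assoc] at e
      have e' := mul_right_cancel e
      have e'' : F.p * (D.u1 * D.ha * D.u1⁻¹) = F.a * D.ha :=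
        mul_left_cancel (a := F.t) (by simpa only [mul_assoc] using e')
      calc D.u1 * D.ha * D.u1⁻¹ = F.p * F.p * (D.u1 * D.ha * D.u1⁻¹) := by rw [F.p_sq, one_mul]
        _ = F.p * (F.a * D.ha) := by rw [mul_assoc, e'']
        _ = _ := by rw [mul_assoc]
    -- the third conjugate
    let u3 : G := F.x * D.u1 * F.x⁻¹
    have u3conj : ∀ e e' : G, D.u1 * e * D.u1⁻¹ = e' → u3 * (F.x * e * F.x⁻¹) * u3⁻¹ = F.x * e' * F.x⁻¹ := by
      intro e e' h; rw [← h]; simp only [u3]; group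
    have upz : D.u1 * (F.p * F.z) * D.u1⁻¹ = F.p * F.z := by rw [Frame.conj_mul, D.u1_p, uz]
    have u3p : u3 * F.p * u3⁻¹ = F.p := by
      have := u3conj F.a F.a ua
      rwa [F.x_a] at this
    have u3pz : u3 * (F.p * F.z) * u3⁻¹ = F.p * F.z := by
      have := u3conj F.p F.p D.u1_p
      rwa [F.x_p] at this
    have u3a : u3 * F.a * u3⁻¹ = F.a := by
      have := u3conj (F.p * F.z) (F.p * F.z) upz
      rwa [F.x_pz] at this
    have u3z : u3 * F.z * u3⁻¹ = F.z := by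
      rw [Frame.conj_mul, u3p] at u3pz
      exact mul_left_cancel u3pz
    have u3t : u3 * F.t * u3⁻¹ = F.t * (F.p * F.z) := by
      have := u3conj F.t _ D.u1_t
      rwa [F.x_t, Frame.conj_mul, F.x_t, F.x_p] at this
    have u3sq : u3 * u3 = 1 := by
      calc u3 * u3 = F.x * (D.u1 * D.u1) * F.x⁻¹ := by simp only [u3]; group
        _ = 1 := by rw [hu2]; group
    let W : Act D u3 :=
      { sa := 2
        sz := 4
        v := mk128 13 false false
        hs := Or.inl rfl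
        ha' := by rw [u3a, ea]
        hz' := by rw [u3z, ez]
        ht' := by
          rw [u3t, D.elt_ev, ← et, ← ep, ← ez, ← F.ev_mul, ← F.ev_mul]
          exact F.ev_rel (by decide +kernel) }
    have hWL : ∀ r, W.L r = lin 3 2 31 10 16 r := by
      refine W.L_eq_of_uniq _ hP _ hrows 2 4 3 rfl rfl ?_ [2] (List.finRange 32) ?_ (List.mem_finRange _) _ _ _ _
        (by decide +kernel)
      · rw [W.L_one]; exact (by decide +kernel : row (mk128 13 false false) = 3)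
      · have := W.L_of_fix (u := 8) (by rw [ep]; exact u3p)
        rw [show rowT 8 = 2 by decide +kernel] at this
        exact List.mem_singleton.mpr this
    -- the commutator with the third conjugate
    have hshape : ∀ {v : G} (V : Act D v), (∀ r, V.L r = lin 3 2 31 10 16 r) →
        ∃ j : Fin 32, (j = 0 ∨ j = 2 ∨ j = 4 ∨ j = 6) ∧ v * D.ha * v⁻¹ * D.ha = F.ev (mulT 8 j) := by
      intro v V hV
      let h : D.Stab := ⟨D.elt (mk128 0 true false), D.elt_mem _⟩
      have hr : row (D.coord (⟨v * h.1 * v⁻¹, V.conj_mem h.2⟩ * h)) = 2 := by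
        rw [D.coord_mul, row_mul D.P D.phiA_ka.2, V.row_conj, hV, D.coord_elt]
        decide +kernel
      obtain ⟨j, hj, ej⟩ := D.exists_zeta (D.coord (⟨v * h.1 * v⁻¹, V.conj_mem h.2⟩ * h))
      rw [D.elt_coord, hr, (by decide +kernel : lift 2 = mk128 8 false false), D.elt_ev, ← F.ev_mul] at ej
      refine ⟨j, hj, ?_⟩
      rw [← ej]
      change v * D.ha * v⁻¹ * D.ha = v * D.elt (mk128 0 true false) * v⁻¹ * D.elt (mk128 0 true false)
      rw [D.ha_elt]
    obtain ⟨j, hj, ej⟩ := hshape W hWL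
    have e1 : D.u1 * D.ha * D.u1⁻¹ * D.ha = F.p * F.a := by
      rw [e5, mul_assoc, D.hA.sq, mul_one]
    have e2 : u3 * D.u1 * u3⁻¹ * D.u1 = F.z := by
      calc u3 * D.u1 * u3⁻¹ * D.u1 = F.x * (D.u1 * D.ha * D.u1⁻¹ * D.ha) * F.x⁻¹ := by
            simp only [u3, NFData.u1]; group
        _ = F.z := by
          rw [e1, Frame.conj_mul, F.x_p, F.x_a]
          simp only [← ep, ← ez, ← F.ev_mul]
          exact F.ev_rel (by decide +kernel)
    have he : u3 * D.u1 * F.t * (u3 * D.u1)⁻¹ = F.t * F.z := by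
      calc u3 * D.u1 * F.t * (u3 * D.u1)⁻¹ = u3 * (D.u1 * F.t * D.u1⁻¹) * u3⁻¹ := by group
        _ = F.t * F.z := by
          rw [D.u1_t, Frame.conj_mul, u3t, u3p]
          simp only [← et, ← ep, ← ez, ← F.ev_mul]
          exact F.ev_rel (by decide +kernel)
    have heS : u3 * D.u1 ∈ D.Stab := by
      refine D.mem_Stab' ?_ ?_ ⟨4, by simp, ?_⟩
      · exact (Frame.commute_of_conj u3a).mul_left (Frame.commute_of_conj ua)
      · exact (Frame.commute_of_conj u3z).mul_left (Frame.commute_of_conj uz)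
      · rw [et, he, ← et, ← ez, ← F.ev_mul]
    obtain ⟨v, hv⟩ := heS
    have hvp : Commute (D.elt v) (F.ev 8) := by
      rw [hv, ep]
      exact (Frame.commute_of_conj u3p).mul_left (Frame.commute_of_conj D.u1_p)
    have hv2 : D.elt v * D.elt v = F.ev 4 := by
      rw [hv, ez, ← e2, inv_eq_of_mul_eq_one_right u3sq]
      group
    rw [← D.elt_ev, commute_iff_eq, ← D.elt_mul, ← D.elt_mul] at hvp
    rw [← D.elt_mul, ← D.elt_ev] at hv2
    have hvp' := D.elt_inj hvp
    have hv2' := D.elt_inj hv2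
    have hvt : mulT 1 (shift (topA v) (topB v)) = 5 := by
      apply F.ev_inj
      rw [← (D.elt_fix v).2.2, hv, et, he, ← et, ← ez, ← F.ev_mul]
      exact F.ev_rel (by decide +kernel)
    rw [hP] at hvp' hv2'
    exact (by decide +kernel : ∀ v : Fin 128, mul128 ⟨false, true, 6⟩ v (mk128 8 false false) =
      mul128 ⟨false, true, 6⟩ (mk128 8 false false) v → mulT 1 (shift (topA v) (topB v)) = 5 →
      mul128 ⟨false, true, 6⟩ v v ≠ mk128 4 false false) v hvp' hvt hv2'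
  -- second step
  have hn2 : ∀ h ∈ extend D.Stab D.u1 (fun h hh => U.conj_mem hh) hg1,
      y * h * y⁻¹ ∈ extend D.Stab D.u1 (fun h hh => U.conj_mem hh) hg1 := by
    intro h hh
    rcases hh with hh | hh
    · exact le_extend (Y.conj_mem hh)
    · refine Or.inr ?_
      rw [show y * h * y⁻¹ * D.u1⁻¹ = (y * (h * D.u1⁻¹) * y⁻¹) * (y * D.u1 * y⁻¹ * D.u1⁻¹) by group]
      refine D.Stab.mul_mem (Y.conj_mem hh) ?_
      rw [inv_eq_of_mul_eq_one_right hy2, huinv]
      exact hdS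
  have hy2m : y * y ∈ extend D.Stab D.u1 (fun h hh => U.conj_mem hh) hg1 := by
    rw [hy2]; exact Subgroup.one_mem _
  have hgK2 : y ∉ extend D.Stab D.u1 (fun h hh => U.conj_mem hh) hg1 := by
    rintro (h | h)
    · have := Y.L_of_stab h 1
      rw [hYL] at this
      exact absurd this (by decide +kernel)
    · rw [huinv] at h
      have := (Y.mul U).L_of_stab h 1
      rw [Act.L_mul, hUL, hYL] at this
      exact absurd this (by decide +kernel)
  have hinv2 : ∀ h : extend D.Stab D.u1 (fun h hh => U.conj_mem hh) hg1, f1 ⟨y * h * y⁻¹, hn2 h h.2⟩ = f1 h := by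
    intro h
    rcases h.2 with hh | hh
    · rw [f1s h ⟨_, hh⟩ (Or.inl rfl), f1s _ ⟨_, Y.conj_mem hh⟩ (Or.inl rfl)]
      exact Y.hom_conj 9 hinvY ⟨_, hh⟩
    · rw [f1s h ⟨_, hh⟩ (Or.inr (by simp)), f1s _ (⟨_, Y.conj_mem hh⟩ * d) (Or.inr ?_), map_mul, hdpar, mul_one]
      · exact Y.hom_conj 9 hinvY ⟨_, hh⟩
      · change y * h.1 * y⁻¹ = y * (h.1 * D.u1⁻¹) * y⁻¹ * (y * D.u1 * y * D.u1) * D.u1
        rw [inv_eq_of_mul_eq_one_right hy2, huinv]
        calc y * h.1 * y = y * h.1 * (D.u1 * D.u1) * y * (D.u1 * D.u1) := by rw [hu2, mul_one, mul_one]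
          _ = y * (h.1 * D.u1) * (y * y) * D.u1 * y * D.u1 * D.u1 := by rw [hy2]; group
          _ = _ := by group
  have hrc : ∀ h : (D.u1 * y) * (D.u1 * y) ∈ D.Stab,
      row (D.coord ⟨(D.u1 * y) * (D.u1 * y), h⟩) = row (D.coord d) := by
    intro h
    rw [← D.row_inv d]
    congr 2
    apply Subtype.ext
    change D.u1 * y * (D.u1 * y) = (y * D.u1 * y * D.u1)⁻¹
    rw [inv4 y D.u1 hy2 hu2, ← mul_assoc]
  have c2 : ∀ h : extend D.Stab D.u1 (fun h hh => U.conj_mem hh) hg1, IsConj F.t ((h : G) * y) → f1 h = 1 := by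
    intro h hx
    rcases h.2 with hh | hh
    · rw [f1s h ⟨_, hh⟩ (Or.inl rfl)]
      have hgy : y * y ∈ D.Stab := by rw [hy2]; exact D.Stab.one_mem
      have := D.row_coset_sq Y hgy ⟨_, hh⟩ hx
      rw [show (⟨y * y, hgy⟩ : D.Stab) = 1 from Subtype.ext hy2, D.row_coord_one, radd_zero, hYL] at this
      exact hm1 _ ((by decide +kernel : ∀ r,
        radd r (lin 5 16 4 12 2 (lin 3 2 31 10 16 (lin 5 16 4 12 2 r))) = 0 → Frame.par 9 r = false) _ this)
    · rw [f1s h ⟨_, hh⟩ (Or.inr (by simp))]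
      have hcS : D.u1 * y * (D.u1 * y) ∈ D.Stab := by
        have := D.Stab.inv_mem hdS
        rwa [inv4 y D.u1 hy2 hu2, mul_assoc (D.u1 * y)] at this
      have := D.row_coset_sq (U.mul Y) hcS ⟨_, hh⟩ (by
        change IsConj F.t (h.1 * D.u1⁻¹ * (D.u1 * y))
        rwa [← mul_assoc, inv_mul_cancel_right])
      rw [hrc, Act.L_mul, hUL, hYL] at this
      exact hm1 _ ((by decide +kernel : ∀ r c : Fin 32,
        radd (radd r (lin 3 2 31 10 16 (lin 5 16 4 12 2 (lin 3 2 31 10 16 (lin 5 16 4 12 2 r))))) c = 0 → c ≠ 9 →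
          Frame.par 9 r = false) _ _ this hd9)
  obtain ⟨f2, f2res, f2cnt, f2val⟩ := step_const F.t f1 (g := y) hn2 hy2m hgK2 hinv2
    (by rw [show (⟨y * y, hy2m⟩ : extend D.Stab D.u1 (fun h hh => U.conj_mem hh) hg1) = 1 from Subtype.ext hy2,
      map_one])
    (fun h h' a b => by rw [c2 h a, c2 h' b])
  have f2y : f2 ⟨y, self_mem_extend⟩ = 1 := by rw [f2val 1 (by simpa using hy0), map_one]
  let K2 := extend (extend D.Stab D.u1 (fun h hh => U.conj_mem hh) hg1) y hn2 hy2m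
  have hK1le : ∀ {x : G}, x ∈ extend D.Stab D.u1 (fun h hh => U.conj_mem hh) hg1 → x ∈ K2 := fun hx =>
    le_extend hx
  have hSle : ∀ {x : G}, x ∈ D.Stab → x ∈ K2 := fun hx => hK1le (le_extend hx)
  have huK : D.u1 ∈ K2 := hK1le self_mem_extend
  have hyK : y ∈ K2 := self_mem_extend
  have f2u : f2 ⟨D.u1, huK⟩ = 1 := by
    rw [← f1u, ← f2res ⟨D.u1, self_mem_extend⟩]
  have f2st : ∀ s : D.Stab, f2 ⟨s, hSle s.2⟩ = D.hom 9 s := fun s => by
    rw [← f1res s, ← f2res ⟨s, le_extend s.2⟩]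
  have forms : ∀ x : K2, ∃ s : D.Stab, x = ⟨s, hSle s.2⟩ ∨ x = ⟨s, hSle s.2⟩ * ⟨D.u1, huK⟩ ∨
      x = ⟨s, hSle s.2⟩ * ⟨y, hyK⟩ ∨ x = ⟨s, hSle s.2⟩ * ⟨D.u1, huK⟩ * ⟨y, hyK⟩ := by
    intro x
    have hx : (x : G) ∈ extend (extend D.Stab D.u1 (fun h hh => U.conj_mem hh) hg1) y hn2 hy2m := x.2
    rcases hx with (h | h) | (h | h)
    · exact ⟨⟨_, h⟩, Or.inl rfl⟩
    · exact ⟨⟨_, h⟩, Or.inr (Or.inl (Subtype.ext (inv_mul_cancel_right _ _).symm))⟩
    · exact ⟨⟨_, h⟩, Or.inr (Or.inr (Or.inl (Subtype.ext (inv_mul_cancel_right _ _).symm)))⟩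
    · exact ⟨⟨_, h⟩, Or.inr (Or.inr (Or.inr (Subtype.ext
        (show (x : G) = x * y⁻¹ * D.u1⁻¹ * D.u1 * y by group))))⟩
  have f2val' : ∀ (x : K2) (s : D.Stab), (x = ⟨s, hSle s.2⟩ ∨ x = ⟨s, hSle s.2⟩ * ⟨D.u1, huK⟩ ∨
      x = ⟨s, hSle s.2⟩ * ⟨y, hyK⟩ ∨ x = ⟨s, hSle s.2⟩ * ⟨D.u1, huK⟩ * ⟨y, hyK⟩) → f2 x = D.hom 9 s := by
    intro x s h
    rcases h with rfl | rfl | rfl | rfl <;> simp only [map_mul, f2u, f2y, mul_one, f2st]
  -- third step
  have hwS : g * g ∈ D.Stab := hgg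
  have hgy : g * y * g⁻¹ = (g * g) * D.u1 * (g * g)⁻¹ := by simp only [y]; group
  have hn3 : ∀ h ∈ K2, g * h * g⁻¹ ∈ K2 := by
    intro h hh
    have h1 : g * D.u1 * g⁻¹ ∈ K2 := hyK
    have h2 : g * y * g⁻¹ ∈ K2 := by
      rw [hgy]
      exact K2.mul_mem (K2.mul_mem (hSle hwS) huK) (K2.inv_mem (hSle hwS))
    obtain ⟨s, hs⟩ := forms ⟨h, hh⟩
    have h0 : g * (s : G) * g⁻¹ ∈ K2 := hSle (A.conj_mem s.2)
    rcases hs with e | e | e | e <;> rw [show h = _ from congrArg Subtype.val e]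
    · exact h0
    · change g * ((s : G) * D.u1) * g⁻¹ ∈ K2
      rw [Frame.conj_mul]; exact K2.mul_mem h0 h1
    · change g * ((s : G) * y) * g⁻¹ ∈ K2
      rw [Frame.conj_mul]; exact K2.mul_mem h0 h2
    · change g * ((s : G) * D.u1 * y) * g⁻¹ ∈ K2
      rw [Frame.conj_mul, Frame.conj_mul]; exact K2.mul_mem (K2.mul_mem h0 h1) h2
  have hgK3 : g ∉ K2 := by
    intro hgm
    obtain ⟨s, hs⟩ := forms ⟨g, hgm⟩
    have sz : Commute (s : G) F.z := by
      rw [← D.elt_coord s, ← ez]; exact D.zeta_comm (by simp) _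
    have yz : Commute y F.z := Frame.commute_of_conj (by have := Y.hz'; rwa [show Y.sz = 4 from rfl, ez] at this)
    have uz' : Commute D.u1 F.z := Frame.commute_of_conj uz
    have : Commute g F.z := by
      rcases hs with e | e | e | e <;> rw [show g = _ from congrArg Subtype.val e]
      · exact sz
      · exact sz.mul_left uz'
      · exact sz.mul_left yz
      · exact (sz.mul_left uz').mul_left yz
    have h := Frame.conj_of_commute this
    rw [gz, ← eaz, ← ez] at h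
    exact absurd (F.ev_inj h) (by decide)
  have hww : D.hom 9 ⟨g * g, hwS⟩ = 1 := by
    refine hm1 _ ?_
    rw [hwrow]
    exact (by decide +kernel : ∀ u : Fin 32, lin 5 16 4 12 2 (rowT u) = rowT u → Frame.par 9 (rowT u) = false) w hwfix
  have hinv3 : ∀ h : K2, f2 ⟨g * h * g⁻¹, hn3 h h.2⟩ = f2 h := by
    intro h
    let c : K2 →* K2 := MonoidHom.mk' (fun x => ⟨g * x * g⁻¹, hn3 x x.2⟩) fun a b => Subtype.ext (by
      change g * ((a : G) * b) * g⁻¹ = _
      rw [Frame.conj_mul]; rfl)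
    have cs : ∀ s : D.Stab, f2 (c ⟨s, hSle s.2⟩) = D.hom 9 s := fun s => by
      rw [← A.hom_conj 9 hinvA s, ← f2st ⟨g * s.1 * g⁻¹, A.conj_mem s.2⟩]
      rfl
    have cu : f2 (c ⟨D.u1, huK⟩) = 1 := f2y
    have cy : f2 (c ⟨y, hyK⟩) = 1 := by
      rw [show c ⟨y, hyK⟩ = ⟨g * g, hSle hwS⟩ * ⟨D.u1, huK⟩ * ⟨g * g, hSle hwS⟩⁻¹ from Subtype.ext hgy, map_mul,
        map_mul, map_inv, f2u, f2st ⟨g * g, hwS⟩, hww, inv_one, mul_one, mul_one]
    change f2 (c h) = f2 h
    obtain ⟨s, hs⟩ := forms h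
    rw [f2val' h s hs]
    rcases hs with rfl | rfl | rfl | rfl <;> simp only [map_mul, cs, cu, cy, mul_one]
  have hnorm3 : ∀ h : K2, IsConj F.t ((h : G) * g) →
      ∃ s : D.Stab, IsConj F.t ((s : G) * g) ∧ f2 h = D.hom 9 s := by
    intro h hx
    obtain ⟨s, hs⟩ := forms h
    have hv := f2val' h s hs
    have bad : ∀ {v : G} (V : Act D v), (h : G) = (s : G) * v → V.sa = 2 → V.sz = 4 →
        (∀ k : D.Stab, ∀ hm : v * g * (v * g) ∈ D.Stab, (V.mul A).L ((V.mul A).L 1) = 1 → False) → False := by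
      intro v V e _ _ hne
      rw [e] at hx
      have hsq := sq_of_isConj F.t_sq hx
      have hm : v * g * (v * g) ∈ D.Stab := by
        have h1 : (s : G) * ((v * g) * s.1 * (v * g)⁻¹) ∈ D.Stab := D.Stab.mul_mem s.2 ((V.mul A).conj_mem s.2)
        have h2 : v * g * (v * g) = ((s : G) * ((v * g) * s.1 * (v * g)⁻¹))⁻¹ := by
          refine eq_inv_of_mul_eq_one_right ?_
          rw [← hsq]; group
        rw [h2]; exact D.Stab.inv_mem h1
      refine hne s hm ?_
      rw [← Act.L_mul]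
      exact Act.L_of_stab _ hm _
    rcases hs with e | e | e | e
    · subst e
      exact ⟨s, hx, hv⟩
    · exfalso
      refine bad U (by rw [e]; rfl) rfl rfl fun _ _ hL => ?_
      rw [Act.L_mul, Act.L_mul, hAL, hUL, hAL, hUL] at hL
      exact absurd hL (by decide +kernel)
    · exfalso
      refine bad Y (by rw [e]; rfl) rfl rfl fun _ _ hL => ?_
      rw [Act.L_mul, Act.L_mul, hAL, hYL, hAL, hYL] at hL
      exact absurd hL (by decide +kernel)
    · refine ⟨⟨D.u1 * s.1 * D.u1⁻¹, U.conj_mem s.2⟩, ?_, ?_⟩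
      · have e' : (h : G) = s * D.u1 * y := by rw [e]; rfl
        rw [e'] at hx
        have := (isConj_conj_iff (t := F.t) D.u1 _).mpr hx
        have e2 : D.u1 * ((s : G) * D.u1 * y * g) * D.u1⁻¹ = D.u1 * s.1 * D.u1⁻¹ * g := by
          calc D.u1 * ((s : G) * D.u1 * y * g) * D.u1⁻¹
              = D.u1 * (s : G) * D.u1 * g * (D.u1 * D.u1⁻¹) := by simp only [y]; group
            _ = D.u1 * s.1 * D.u1⁻¹ * g := by rw [mul_inv_cancel, mul_one, huinv]
        rwa [e2] at this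
      · rw [hv, U.hom_conj 9 hinvU]
  have c3 : ∀ h h' : K2, IsConj F.t ((h : G) * g) → IsConj F.t ((h' : G) * g) → f2 h = f2 h' := by
    intro h h' a b
    obtain ⟨s, hs, e⟩ := hnorm3 h a
    obtain ⟨s', hs', e'⟩ := hnorm3 h' b
    have r1 := D.row_coset_sq A hgg s hs
    have r2 := D.row_coset_sq A hgg s' hs'
    rw [hAL] at r1 r2
    rw [e, e']
    refine D.hom_eq 9 ((by decide +kernel : ∀ r r' : Fin 32,
      radd r (lin 5 16 4 12 2 r) = radd r' (lin 5 16 4 12 2 r') → Frame.par 9 r = Frame.par 9 r') _ _ ?_)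
    have key : ∀ a c : Fin 32, radd a c = 0 → a = c := by decide +kernel
    rw [key _ _ r1, key _ _ r2]
  have hg3m : g * g ∈ K2 := hSle hwS
  obtain ⟨f3, -, f3cnt, -⟩ := step_const F.t f2 (g := g) hn3 hg3m hgK3 hinv3
    (by rw [f2st ⟨g * g, hwS⟩]; exact hww) c3
  refine index_two_of_cnt F _ f3 32 1 ?_ odd_one ?_
  · rw [card_extend hgK3, card_extend hgK2, card_extend hgK1, D.card_Stab]
  · rw [f3cnt, f2cnt, f1cnt, D.cnt_hom]
    simp only [hrows]
    rw [show (Finset.univ.filter fun r : Fin 32 =>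
        (([1, 3, 5, 8, 10, 12, 21, 28] : List (Fin 32)).contains r && Frame.par 9 r) = true).card = 8
      by decide +kernel]

end NFData

end CfsgLib.InvCentS6
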