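import Cfsg.Agent.Lib.InvCentS6.Frame

/-!
The conjugacy class of the involution of a frame, inside its centralizer.
-/

set_option autoImplicit false

namespace CfsgLib.InvCentS6

variable {G : Type*} [Group G]

theorem isConj_conj (c u : G) : IsConj u (c * u * c⁻¹) := isConj_iff.mpr ⟨c, rfl⟩

theorem isConj_conj_iff {t : G} (c u : G) : IsConj t (c * u * c⁻¹) ↔ IsConj t u :=
  ⟨fun h => h.trans (isConj_conj c u).symm, fun h => h.trans (isConj_conj c u)⟩

theorem card_centralizer_eq [Finite G] {t u : G} (h : IsConj t u) :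
    Nat.card (Subgroup.centralizer ({u} : Set G)) = Nat.card (Subgroup.centralizer ({t} : Set G)) := by
  obtain ⟨c, hc⟩ := isConj_iff.mp h
  have e1 : ∀ g : G, g ∈ Subgroup.centralizer ({u} : Set G) ↔
      c⁻¹ * g * c ∈ Subgroup.centralizer ({t} : Set G) := by
    intro g
    rw [Subgroup.mem_centralizer_singleton_iff, Subgroup.mem_centralizer_singleton_iff, ← hc]
    constructor
    · intro e
      calc c⁻¹ * g * c * t = c⁻¹ * (g * (c * t * c⁻¹)) * c := by group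
        _ = c⁻¹ * (c * t * c⁻¹ * g) * c := by rw [e]
        _ = t * (c⁻¹ * g * c) := by group
    · intro e
      calc g * (c * t * c⁻¹) = c * (c⁻¹ * g * c * t) * c⁻¹ := by group
        _ = c * (t * (c⁻¹ * g * c)) * c⁻¹ := by rw [e]
        _ = c * t * c⁻¹ * g := by group
  exact Nat.card_congr
    { toFun := fun g => ⟨c⁻¹ * g.1 * c, (e1 g.1).mp g.2⟩
      invFun := fun g => ⟨c * g.1 * c⁻¹, (e1 _).mpr (by
        rw [show c⁻¹ * (c * g.1 * c⁻¹) * c = g.1 by group]; exact g.2)⟩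
      left_inv := fun g => by ext; simp only; group
      right_inv := fun g => by ext; simp only; group }

namespace Frame

variable (F : Frame G)

/-- The Sylow subgroup of the centralizer given by the frame. -/
def Tsub : Subgroup G where
  carrier := Set.range F.ev
  one_mem' := ⟨0, F.ev_zero⟩
  mul_mem' := by
    rintro _ _ ⟨v, rfl⟩ ⟨w, rfl⟩
    exact ⟨mulT v w, F.ev_mul v w⟩
  inv_mem' := by
    rintro _ ⟨v, rfl⟩
    exact ⟨invT v, (F.ev_inv v).symm⟩

theorem mem_Tsub {g : G} : g ∈ F.Tsub ↔ ∃ v, F.ev v = g := Iff.rfl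

theorem ev_mem (v : Fin 32) : F.ev v ∈ F.Tsub := ⟨v, rfl⟩

theorem card_Tsub : Nat.card F.Tsub = 32 := by
  have h : Nat.card (Set.range F.ev) = Nat.card (Fin 32) := (Nat.card_congr (Equiv.ofInjective _ F.ev_inj)).symm
  rw [Nat.card_fin] at h
  exact h

theorem Tsub_le_centralizer : F.Tsub ≤ Subgroup.centralizer ({F.t} : Set G) := by
  rintro _ ⟨v, rfl⟩
  exact Subgroup.mem_centralizer_singleton_iff.mpr (F.ev_comm_t v).eq

theorem mem_T' {g : G} (h1 : Commute g F.t) (h2 : Commute g F.a) (h3 : Commute g F.z) : g ∈ F.Tsub :=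
  let ⟨v, hv⟩ := F.mem_T g h1 h2 h3
  ⟨v, hv.symm⟩

theorem mem_Tsub_iff {g : G} : g ∈ F.Tsub ↔ Commute g F.t ∧ Commute g F.a ∧ Commute g F.z :=
  ⟨fun ⟨v, hv⟩ => hv ▸ ⟨F.ev_comm_t v, F.ev_comm_a v, F.ev_comm_z v⟩, fun h => F.mem_T' h.1 h.2.1 h.2.2⟩

/-- No 2-subgroup of a centralizer of a conjugate of `t` has order above 32. -/
theorem two_power_le [Finite G] {u : G} (hu : IsConj F.t u) (P : Subgroup G) (k : ℕ) (hP : Nat.card P = 2 ^ k)
    (hle : ∀ g ∈ P, Commute g u) : k ≤ 5 := by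
  obtain ⟨m, hm, hc⟩ := F.card_C
  have h1 : Nat.card P ∣ 2 ^ 5 * m := by
    rw [show (2 : ℕ) ^ 5 = 32 by norm_num, ← hc, ← card_centralizer_eq hu]
    exact Subgroup.card_dvd_of_le fun g hg => Subgroup.mem_centralizer_singleton_iff.mpr (hle g hg).eq
  have h2 : Nat.Coprime (Nat.card P) m := by
    rw [hP]
    exact Nat.Coprime.pow_left _ ((Nat.coprime_two_left).mpr hm)
  have h3 := h2.dvd_of_dvd_mul_right h1
  rw [hP] at h3
  exact (Nat.pow_dvd_pow_iff_le_right (by norm_num : 1 < 2)).mp h3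

theorem card_C_dvd [Finite G] : 32 ∣ Nat.card (Subgroup.centralizer ({F.t} : Set G)) :=
  let ⟨m, _, hc⟩ := F.card_C
  ⟨m, hc⟩

/-- The frame's Sylow subgroup as a Sylow subgroup of the centralizer. -/
theorem isPGroup_Tsub : IsPGroup 2 F.Tsub :=
  IsPGroup.of_card (n := 5) (by rw [F.card_Tsub]; norm_num)

theorem sylow_conj [Finite G] (P : Subgroup G) (hle : P ≤ Subgroup.centralizer ({F.t} : Set G))
    (hP : IsPGroup 2 P) : ∃ c, Commute c F.t ∧ ∀ g ∈ P, c * g * c⁻¹ ∈ F.Tsub := by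
  let C := Subgroup.centralizer ({F.t} : Set G)
  haveI : Fact (Nat.Prime 2) := ⟨Nat.prime_two⟩
  obtain ⟨m, hm, hc⟩ := F.card_C
  have hT : Nat.card (F.Tsub.subgroupOf C) = 32 := by
    rw [Nat.card_congr (Subgroup.subgroupOfEquivOfLe F.Tsub_le_centralizer).toEquiv, F.card_Tsub]
  have hidx : ¬ 2 ∣ (F.Tsub.subgroupOf C).index := by
    intro h
    have h2 := Subgroup.card_mul_index (F.Tsub.subgroupOf C)
    rw [hT] at h2
    change 32 * _ = Nat.card C at h2
    rw [show Nat.card C = 32 * m from hc] at h2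
    rw [Nat.eq_of_mul_eq_mul_left (by norm_num) h2] at h
    exact (Nat.not_even_iff_odd.mpr hm) (even_iff_two_dvd.mpr h)
  let S : Sylow 2 C := (IsPGroup.of_card (n := 5) (by rw [hT]; norm_num) : IsPGroup 2 (F.Tsub.subgroupOf C)).toSylow hidx
  obtain ⟨Q, hQ⟩ := (IsPGroup.comap_subtype (H := P) (K := C) hP).exists_le_sylow
  obtain ⟨c, hcQ⟩ := MulAction.exists_smul_eq C Q S
  refine ⟨c, Subgroup.mem_centralizer_singleton_iff.mp c.2, fun g hg => ?_⟩
  have h1 : (⟨g, hle hg⟩ : C) ∈ (Q : Subgroup C) := hQ (show g ∈ P from hg)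
  have h2 : c * ⟨g, hle hg⟩ * c⁻¹ ∈ ((c • Q : Sylow 2 C) : Subgroup C) := by
    rw [Sylow.coe_subgroup_smul]
    exact ⟨_, h1, rfl⟩
  rw [hcQ] at h2
  exact h2

/-- Representatives of the classes of involutions of the frame. -/
def repT (v : Fin 32) : Fin 32 :=
  if v ∈ ([8, 9, 12, 13] : List (Fin 32)) then (if v.val.testBit 0 then 3 else 2)
  else if v ∈ ([10, 11, 14, 15] : List (Fin 32)) then (if v.val.testBit 0 then 5 else 4)
  else if v ∈ ([16, 17, 20, 21] : List (Fin 32)) then (if v.val.testBit 0 then 5 else 4)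
  else if v ∈ ([18, 19, 22, 23] : List (Fin 32)) then (if v.val.testBit 0 then 7 else 6)
  else v

theorem conj_word (c : G) (v : Fin 32) :
    c * F.ev v * c⁻¹ = word (c * F.t * c⁻¹) (c * F.a * c⁻¹) (c * F.z * c⁻¹) (c * F.p * c⁻¹) (c * F.q * c⁻¹) v := by
  have hb : ∀ (u : G) (i : ℕ), bitPow (c * u * c⁻¹) v i = c * bitPow u v i * c⁻¹ := by
    intro u i
    unfold bitPow
    split <;> simp
  simp only [word, ev, hb]
  group

theorem exists_conj_rep (v : Fin 32) (hv : mulT v v = 0) :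
    ∃ c : G, Commute c F.t ∧ c * F.ev v * c⁻¹ = F.ev (repT v) := by
  have hx : Commute F.x F.t := mul_inv_eq_iff_eq_mul.mp F.x_t
  have hy : Commute F.y F.t := mul_inv_eq_iff_eq_mul.mp F.y_t
  have a1 : F.x * F.a * F.x⁻¹ = F.p := F.x_a
  have a2 : F.x * F.p * F.x⁻¹ = F.p * F.z := F.x_p
  have b1 : F.y * F.z * F.y⁻¹ = F.q := F.y_z
  obtain ⟨ht, ha, hz, haz, hp, hq⟩ := F.ev_gens
  have wx : ∀ w, F.x * F.ev w * F.x⁻¹ = F.ev (subT 1 8 (mulT (mulT 8 4) 2) (mulT 8 4) 0 w) ∨ w.val.testBit 4 := by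
    intro w
    by_cases h4 : w.val.testBit 4
    · exact Or.inr h4
    · refine Or.inl ?_
      rw [F.conj_word, F.x_t, a1, F.conj_z, a2, ← ht, ← hp, ← hz, ← ha, ← F.ev_mul, ← F.ev_mul, subT, ← F.word_ev]
      simp only [word, bitPow, h4, Bool.false_eq_true, if_false]
  have wy : ∀ w, F.y * F.ev w * F.y⁻¹ = F.ev (subT 1 2 16 0 (mulT 16 4) w) ∨ w.val.testBit 3 := by
    intro w
    by_cases h3 : w.val.testBit 3
    · exact Or.inr h3
    · refine Or.inl ?_
      rw [F.conj_word, F.y_t, F.y_a, F.y_z, F.y_q, ← ht, ← hq, ← hz, ← ha, ← F.ev_mul, subT, ← F.word_ev]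
      simp only [word, bitPow, h3, Bool.false_eq_true, if_false]
  have key : ∀ v : Fin 32, mulT v v = 0 → repT v = v ∨
      (v.val.testBit 4 = false ∧
        (subT 1 8 (mulT (mulT 8 4) 2) (mulT 8 4) 0 v = repT v ∨
          ((subT 1 8 (mulT (mulT 8 4) 2) (mulT 8 4) 0 v).val.testBit 4 = false ∧
            subT 1 8 (mulT (mulT 8 4) 2) (mulT 8 4) 0 (subT 1 8 (mulT (mulT 8 4) 2) (mulT 8 4) 0 v) = repT v))) ∨
      (v.val.testBit 3 = false ∧
        (subT 1 2 16 0 (mulT 16 4) v = repT v ∨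
          ((subT 1 2 16 0 (mulT 16 4) v).val.testBit 3 = false ∧
            subT 1 2 16 0 (mulT 16 4) (subT 1 2 16 0 (mulT 16 4) v) = repT v))) := by
    decide +kernel
  have two : ∀ (c u : G), c * c * u * (c * c)⁻¹ = c * (c * u * c⁻¹) * c⁻¹ := fun c u => by group
  rcases key v hv with h | ⟨h4, h | ⟨h4', h⟩⟩ | ⟨h3, h | ⟨h3', h⟩⟩
  · exact ⟨1, Commute.one_left _, by rw [h]; group⟩
  · exact ⟨F.x, hx, by rw [(wx v).resolve_right (by simp [h4]), h]⟩
  · exact ⟨F.x * F.x, hx.mul_left hx, by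
      rw [two, (wx v).resolve_right (by simp [h4]), (wx _).resolve_right (by simp [h4']), h]⟩
  · exact ⟨F.y, hy, by rw [(wy v).resolve_right (by simp [h3]), h]⟩
  · exact ⟨F.y * F.y, hy.mul_left hy, by
      rw [two, (wy v).resolve_right (by simp [h3]), (wy _).resolve_right (by simp [h3']), h]⟩

theorem repT_lt : ∀ v : Fin 32, mulT v v = 0 → repT v < 8 ∧ mulT (repT v) (repT v) = 0 ∧
    (repT v).val.testBit 0 = v.val.testBit 0 := by decide +kernel

theorem ev_conj_class (v : Fin 32) (hv : mulT v v = 0) : IsConj F.t (F.ev v) ↔ IsConj F.t (F.ev (repT v)) := by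
  obtain ⟨c, -, hc⟩ := F.exists_conj_rep v hv
  rw [← hc, isConj_conj_iff]

/-- Every involution of the centralizer is conjugate there into the centre of the Sylow subgroup. -/
theorem exists_center_rep [Finite G] {g : G} (hg : Commute g F.t) (hg2 : g * g = 1) :
    ∃ (c : G) (w : Fin 32), Commute c F.t ∧ w < 8 ∧ g = c * F.ev w * c⁻¹ := by
  have hP : IsPGroup 2 (Subgroup.zpowers g) := by
    intro x
    obtain ⟨k, hk⟩ := x.2
    refine ⟨1, Subtype.ext ?_⟩
    change ((x : G)) ^ (2 ^ 1) = 1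
    rw [pow_one, pow_two, ← hk, ← (Commute.refl g).mul_zpow, hg2, one_zpow]
  obtain ⟨c, hc, hmem⟩ := F.sylow_conj (Subgroup.zpowers g)
    (Subgroup.zpowers_le.mpr (Subgroup.mem_centralizer_singleton_iff.mpr hg.eq)) hP
  obtain ⟨v, hv⟩ := hmem g (Subgroup.mem_zpowers g)
  have hv2 : mulT v v = 0 := F.ev_inj (by
    rw [F.ev_mul, hv, F.ev_zero, show c * g * c⁻¹ * (c * g * c⁻¹) = c * (g * g) * c⁻¹ by group, hg2]; group)
  obtain ⟨d, hd, he⟩ := F.exists_conj_rep v hv2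
  refine ⟨(d * c)⁻¹, repT v, (hd.mul_left hc).inv_left, (repT_lt v hv2).1, ?_⟩
  rw [← he, hv]
  group

/-- The twisting hypothesis: the class of `t` meets the centre in the coset of `t`. -/
def Twisted : Prop := ∀ w : Fin 32, w < 8 → (IsConj F.t (F.ev w) ↔ w.val.testBit 0)

variable {F}

theorem Twisted.mem_T (h : F.Twisted) (v : Fin 32) :
    IsConj F.t (F.ev v) ↔ mulT v v = 0 ∧ v.val.testBit 0 := by
  constructor
  · intro hv
    have hv2 : mulT v v = 0 := F.ev_inj (by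
      obtain ⟨c, hc⟩ := isConj_iff.mp hv
      rw [F.ev_mul, F.ev_zero, ← hc, show c * F.t * c⁻¹ * (c * F.t * c⁻¹) = c * (F.t * F.t) * c⁻¹ by group, F.t_sq]
      group)
    refine ⟨hv2, ?_⟩
    rw [F.ev_conj_class v hv2, h _ (repT_lt v hv2).1, (repT_lt v hv2).2.2] at hv
    exact hv
  · rintro ⟨hv2, hb⟩
    rw [F.ev_conj_class v hv2, h _ (repT_lt v hv2).1, (repT_lt v hv2).2.2]
    exact hb

/-- In the twisted case exactly one of two involutions differing by `t` is a conjugate of `t`. -/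
theorem Twisted.rule [Finite G] (h : F.Twisted) {u w : G} (hu : IsConj F.t u) (hc : Commute u w) (hw : w * w = 1) :
    IsConj F.t w ↔ ¬ IsConj F.t (u * w) := by
  obtain ⟨c, rfl⟩ := isConj_iff.mp hu
  have e : ∀ g : G, IsConj F.t g ↔ IsConj F.t (c⁻¹ * g * c) := by
    intro g
    have := isConj_conj_iff (t := F.t) c (c⁻¹ * g * c)
    rw [show c * (c⁻¹ * g * c) * c⁻¹ = g by group] at this
    exact this
  have hg : Commute (c⁻¹ * w * c) F.t := by
    have h1 := hc.eq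
    calc c⁻¹ * w * c * F.t = c⁻¹ * (w * (c * F.t * c⁻¹)) * c := by group
      _ = c⁻¹ * (c * F.t * c⁻¹ * w) * c := by rw [h1]
      _ = F.t * (c⁻¹ * w * c) := by group
  obtain ⟨d, k, hd, hk, he⟩ := F.exists_center_rep hg (by
    rw [show c⁻¹ * w * c * (c⁻¹ * w * c) = c⁻¹ * (w * w) * c by group, hw]; group)
  have e2 : c⁻¹ * (c * F.t * c⁻¹ * w) * c = d * (F.t * F.ev k) * d⁻¹ := by
    calc c⁻¹ * (c * F.t * c⁻¹ * w) * c = F.t * (c⁻¹ * w * c) := by group
      _ = F.t * d * F.ev k * d⁻¹ := by rw [he]; group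
      _ = d * (F.t * F.ev k) * d⁻¹ := by rw [← hd.eq]; group
  rw [e w, e (c * F.t * c⁻¹ * w), e2, he, isConj_conj_iff, isConj_conj_iff, ← F.ev_gens.1, ← F.ev_mul,
    F.ev_gens.1, h k hk, h _ ((by decide +kernel : ∀ k : Fin 32, k < 8 → mulT 1 k < 8) k hk)]
  exact (by decide +kernel : ∀ k : Fin 32, k < 8 → (k.val.testBit 0 = true ↔ ¬ (mulT 1 k).val.testBit 0 = true)) k hk

end Frame

end CfsgLib.InvCentS6
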