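import Cfsg.Agent.Lib.InvCentS6.Stab

/-!
The possible configurations of conjugates of `t` in the stabiliser.
-/

set_option autoImplicit false

namespace CfsgLib.InvCentS6

/-- The known rows. -/
def baseRows (r : Fin 32) : Bool := r = 1 || r = 3 || r = 5

/-- Equality of parameters with given values. -/
def parIs (al be : Bool) (ka : Fin 32) (al' be' : Bool) (ka' : Fin 32) : Bool := al == al' && be == be' && ka == ka'

/-- The rows of the exceptional configurations. -/
def cfgRows (al be : Bool) (ka : Fin 32) : List (Fin 32) :=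
  if parIs al be ka false false 4 then [1, 3, 5, 8, 10, 12, 16, 18, 20, 25, 27, 29]
  else if parIs al be ka false true 6 then [1, 3, 5, 8, 10, 12, 21, 28]
  else if parIs al be ka true false 2 then [1, 3, 5, 11, 16, 18, 20, 26]
  else if parIs al be ka true true 4 then [1, 3, 5, 11, 21, 25]
  else []

/-- Whether some coordinate is odd on the rows, or the configuration is exceptional. -/
def good (o : Fin 32 → Bool) (al be : Bool) (ka : Fin 32) : Bool :=
  (([1, 2, 4, 8, 16] : List (Fin 32)).any fun m =>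
      (((List.finRange 32).filter fun r => o r && Frame.par m r).length % 2 == 1)) ||
    (cfgRows al be ka != [] && (List.finRange 32).all fun r => o r == (cfgRows al be ka).contains r)

/-- Exhaustive search over the undecided rows. -/
def search : List (Fin 32) → List (Fin 32 × Fin 32) → (Fin 32 → Bool) → Bool → Bool → Fin 32 → Bool
  | [], ps, o, al, be, ka => !(ps.all fun x => !o x.1 || (o x.2 != o (radd x.1 x.2))) || good o al be ka
  | r :: rs, ps, o, al, be, ka =>
    search rs ps (fun s => if s = r then true else o s) al be ka &&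
      search rs ps (fun s => if s = r then false else o s) al be ka

theorem search_sound (U : List (Fin 32)) (ps : List (Fin 32 × Fin 32)) (al be : Bool) (ka : Fin 32)
    (o o₀ : Fin 32 → Bool) (h : search U ps o₀ al be ka = true) (hagree : ∀ r, r ∉ U → o r = o₀ r)
    (hps : ∀ x ∈ ps, o x.1 = true → (o x.2 = true ↔ ¬ o (radd x.1 x.2) = true)) : good o al be ka = true := by
  induction U generalizing o₀ with
  | nil =>
    have e : o = o₀ := funext fun r => hagree r List.not_mem_nil
    subst e
    simp only [search, Bool.or_eq_true, Bool.not_eq_true'] at h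
    refine h.resolve_left fun hf => ?_
    rw [List.all_eq_false] at hf
    obtain ⟨x, hx, hne⟩ := hf
    have := hps x hx
    revert hne this
    cases o x.1 <;> cases o x.2 <;> cases o (radd x.1 x.2) <;> simp
  | cons r rs ih =>
    simp only [search, Bool.and_eq_true] at h
    cases hr : o r
    · refine ih _ h.2 fun s hs => ?_
      by_cases e : s = r
      · simp [e, hr]
      · simp only [if_neg e]; exact hagree s (fun hm => (List.mem_cons.mp hm).elim e hs)
    · refine ih _ h.1 fun s hs => ?_
      by_cases e : s = r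
      · simp [e, hr]
      · simp only [if_neg e]; exact hagree s (fun hm => (List.mem_cons.mp hm).elim e hs)

/-- Vanishing of the square of a row. -/
def sqRow (P : Par) (r : Fin 32) : Bool := mul128 P (lift r) (lift r) == mk128 0 false false

/-- Commuting rows. -/
def commRow (P : Par) (r s : Fin 32) : Bool := mul128 P (lift r) (lift s) == mul128 P (lift s) (lift r)

/-- Validity of the search data. -/
def deadOK (P : Par) (U : List (Fin 32)) (ps : List (Fin 32 × Fin 32)) : Bool :=
  ((List.finRange 32).all fun r => r < 8 || U.contains r || !sqRow P r ||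
      decide (16 ≤ ((List.finRange 32).filter fun s => commRow P r s).length)) &&
    (U.all fun r => !(r < 8)) && (ps.all fun x => sqRow P x.2 && commRow P x.1 x.2)

theorem cfg000 : search [10, 12, 18, 20, 31] [(3, 28), (3, 31), (5, 26), (5, 31), (10, 2), (10, 8), (10, 16), (10, 18), (10, 24), (10, 26), (12, 4), (12, 8), (12, 16), (12, 20), (12, 24), (12, 28), (18, 2), (18, 8), (18, 10), (18, 16), (18, 24), (18, 26), (20, 4), (20, 8), (20, 12), (20, 16), (20, 24), (20, 28), (31, 3), (31, 5), (31, 26), (31, 28)] baseRows false false 0 = true := by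
  decide +kernel

theorem dead000 : deadOK ⟨false, false, 0⟩ [10, 12, 18, 20, 31] [(3, 28), (3, 31), (5, 26), (5, 31), (10, 2), (10, 8), (10, 16), (10, 18), (10, 24), (10, 26), (12, 4), (12, 8), (12, 16), (12, 20), (12, 24), (12, 28), (18, 2), (18, 8), (18, 10), (18, 16), (18, 24), (18, 26), (20, 4), (20, 8), (20, 12), (20, 16), (20, 24), (20, 28), (31, 3), (31, 5), (31, 26), (31, 28)] = true := by
  decide +kernel

theorem cfg002 : search [10, 12, 16, 18, 20] [(10, 2), (10, 8), (12, 4), (12, 8), (16, 2), (16, 4), (16, 18), (16, 20), (18, 2), (18, 16), (20, 4), (20, 16)] baseRows false false 2 = true := by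
  decide +kernel

theorem dead002 : deadOK ⟨false, false, 2⟩ [10, 12, 16, 18, 20] [(10, 2), (10, 8), (12, 4), (12, 8), (16, 2), (16, 4), (16, 18), (16, 20), (18, 2), (18, 16), (20, 4), (20, 16)] = true := by
  decide +kernel

theorem cfg004 : search [8, 10, 12, 16, 18, 20, 25, 27, 29] [(3, 29), (3, 30), (5, 27), (5, 30), (8, 2), (8, 4), (8, 10), (8, 12), (10, 2), (10, 8), (10, 20), (10, 30), (12, 4), (12, 8), (12, 18), (12, 30), (16, 2), (16, 4), (16, 18), (16, 20), (18, 2), (18, 12), (18, 16), (18, 30), (20, 4), (20, 10), (20, 16), (20, 30), (25, 2), (25, 4), (25, 27), (25, 29), (27, 2), (27, 5), (27, 25), (27, 30), (29, 3), (29, 4), (29, 25), (29, 30)] baseRows false false 4 = true := by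
  decide +kernel

theorem dead004 : deadOK ⟨false, false, 4⟩ [8, 10, 12, 16, 18, 20, 25, 27, 29] [(3, 29), (3, 30), (5, 27), (5, 30), (8, 2), (8, 4), (8, 10), (8, 12), (10, 2), (10, 8), (10, 20), (10, 30), (12, 4), (12, 8), (12, 18), (12, 30), (16, 2), (16, 4), (16, 18), (16, 20), (18, 2), (18, 12), (18, 16), (18, 30), (20, 4), (20, 10), (20, 16), (20, 30), (25, 2), (25, 4), (25, 27), (25, 29), (27, 2), (27, 5), (27, 25), (27, 30), (29, 3), (29, 4), (29, 25), (29, 30)] = true := by
  decide +kernel

theorem cfg006 : search [8, 10, 12, 18, 20] [(8, 2), (8, 4), (8, 10), (8, 12), (10, 2), (10, 8), (12, 4), (12, 8), (18, 2), (18, 16), (20, 4), (20, 16)] baseRows false false 6 = true := by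
  decide +kernel

theorem dead006 : deadOK ⟨false, false, 6⟩ [8, 10, 12, 18, 20] [(8, 2), (8, 4), (8, 10), (8, 12), (10, 2), (10, 8), (12, 4), (12, 8), (18, 2), (18, 16), (20, 4), (20, 16)] = true := by
  decide +kernel

theorem cfg010 : search [10, 12, 18, 21, 24, 26] [(5, 16), (5, 21), (10, 2), (10, 8), (10, 16), (10, 18), (10, 24), (10, 26), (12, 4), (12, 8), (18, 2), (18, 8), (18, 10), (18, 16), (18, 24), (18, 26), (21, 5), (21, 16), (24, 2), (24, 8), (24, 10), (24, 16), (24, 18), (24, 26), (26, 2), (26, 8), (26, 10), (26, 16), (26, 18), (26, 24)] baseRows false true 0 = true := by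
  decide +kernel

theorem dead010 : deadOK ⟨false, true, 0⟩ [10, 12, 18, 21, 24, 26] [(5, 16), (5, 21), (10, 2), (10, 8), (10, 16), (10, 18), (10, 24), (10, 26), (12, 4), (12, 8), (18, 2), (18, 8), (18, 10), (18, 16), (18, 24), (18, 26), (21, 5), (21, 16), (24, 2), (24, 8), (24, 10), (24, 16), (24, 18), (24, 26), (26, 2), (26, 8), (26, 10), (26, 16), (26, 18), (26, 24)] = true := by
  decide +kernel

theorem cfg012 : search [10, 12, 16, 18, 21, 29, 30] [(3, 29), (3, 30), (5, 16), (5, 21), (10, 2), (10, 8), (12, 4), (12, 8), (12, 18), (12, 30), (16, 2), (16, 5), (16, 18), (16, 21), (18, 2), (18, 12), (18, 16), (18, 30), (21, 5), (21, 8), (21, 16), (21, 29), (29, 3), (29, 8), (29, 21), (29, 30), (30, 3), (30, 12), (30, 18), (30, 29)] baseRows false true 2 = true := by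
  decide +kernel

theorem dead012 : deadOK ⟨false, true, 2⟩ [10, 12, 16, 18, 21, 29, 30] [(3, 29), (3, 30), (5, 16), (5, 21), (10, 2), (10, 8), (12, 4), (12, 8), (12, 18), (12, 30), (16, 2), (16, 5), (16, 18), (16, 21), (18, 2), (18, 12), (18, 16), (18, 30), (21, 5), (21, 8), (21, 16), (21, 29), (29, 3), (29, 8), (29, 21), (29, 30), (30, 3), (30, 12), (30, 18), (30, 29)] = true := by
  decide +kernel

theorem cfg014 : search [8, 10, 12, 16, 18, 21, 25, 27] [(5, 16), (5, 21), (8, 2), (8, 4), (8, 10), (8, 12), (10, 2), (10, 8), (12, 4), (12, 8), (12, 21), (12, 25), (16, 2), (16, 5), (16, 18), (16, 21), (18, 2), (18, 16), (21, 5), (21, 12), (21, 16), (21, 25), (25, 2), (25, 12), (25, 21), (25, 27), (27, 2), (27, 25)] baseRows false true 4 = true := by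
  decide +kernel

theorem dead014 : deadOK ⟨false, true, 4⟩ [8, 10, 12, 16, 18, 21, 25, 27] [(5, 16), (5, 21), (8, 2), (8, 4), (8, 10), (8, 12), (10, 2), (10, 8), (12, 4), (12, 8), (12, 21), (12, 25), (16, 2), (16, 5), (16, 18), (16, 21), (18, 2), (18, 16), (21, 5), (21, 12), (21, 16), (21, 25), (25, 2), (25, 12), (25, 21), (25, 27), (27, 2), (27, 25)] = true := by
  decide +kernel

theorem cfg016 : search [8, 10, 12, 18, 21, 28, 31] [(3, 28), (3, 31), (5, 16), (5, 21), (8, 2), (8, 4), (8, 10), (8, 12), (10, 2), (10, 8), (10, 21), (10, 31), (12, 4), (12, 8), (12, 16), (12, 28), (18, 2), (18, 16), (21, 5), (21, 10), (21, 16), (21, 31), (28, 3), (28, 12), (28, 16), (28, 31), (31, 3), (31, 10), (31, 21), (31, 28)] baseRows false true 6 = true := by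
  decide +kernel

theorem dead016 : deadOK ⟨false, true, 6⟩ [8, 10, 12, 18, 21, 28, 31] [(3, 28), (3, 31), (5, 16), (5, 21), (8, 2), (8, 4), (8, 10), (8, 12), (10, 2), (10, 8), (10, 21), (10, 31), (12, 4), (12, 8), (12, 16), (12, 28), (18, 2), (18, 16), (21, 5), (21, 10), (21, 16), (21, 31), (28, 3), (28, 12), (28, 16), (28, 31), (31, 3), (31, 10), (31, 21), (31, 28)] = true := by
  decide +kernel

theorem cfg100 : search [11, 12, 18, 20, 24, 28] [(3, 8), (3, 11), (11, 3), (11, 8), (12, 4), (12, 8), (12, 16), (12, 20), (12, 24), (12, 28), (18, 2), (18, 16), (20, 4), (20, 8), (20, 12), (20, 16), (20, 24), (20, 28), (24, 4), (24, 8), (24, 12), (24, 16), (24, 20), (24, 28), (28, 4), (28, 8), (28, 12), (28, 16), (28, 20), (28, 24)] baseRows true false 0 = true := by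
  decide +kernel

theorem dead100 : deadOK ⟨true, false, 0⟩ [11, 12, 18, 20, 24, 28] [(3, 8), (3, 11), (11, 3), (11, 8), (12, 4), (12, 8), (12, 16), (12, 20), (12, 24), (12, 28), (18, 2), (18, 16), (20, 4), (20, 8), (20, 12), (20, 16), (20, 24), (20, 28), (24, 4), (24, 8), (24, 12), (24, 16), (24, 20), (24, 28), (28, 4), (28, 8), (28, 12), (28, 16), (28, 20), (28, 24)] = true := by
  decide +kernel

theorem cfg102 : search [11, 12, 16, 18, 20, 26, 31] [(3, 8), (3, 11), (5, 26), (5, 31), (11, 3), (11, 8), (11, 20), (11, 31), (12, 4), (12, 8), (16, 2), (16, 4), (16, 18), (16, 20), (18, 2), (18, 8), (18, 16), (18, 26), (20, 4), (20, 11), (20, 16), (20, 31), (26, 5), (26, 8), (26, 18), (26, 31), (31, 5), (31, 11), (31, 20), (31, 26)] baseRows true false 2 = true := by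
  decide +kernel

theorem dead102 : deadOK ⟨true, false, 2⟩ [11, 12, 16, 18, 20, 26, 31] [(3, 8), (3, 11), (5, 26), (5, 31), (11, 3), (11, 8), (11, 20), (11, 31), (12, 4), (12, 8), (16, 2), (16, 4), (16, 18), (16, 20), (18, 2), (18, 8), (18, 16), (18, 26), (20, 4), (20, 11), (20, 16), (20, 31), (26, 5), (26, 8), (26, 18), (26, 31), (31, 5), (31, 11), (31, 20), (31, 26)] = true := by
  decide +kernel

theorem cfg104 : search [8, 11, 12, 16, 18, 20, 25, 29] [(3, 8), (3, 11), (8, 3), (8, 4), (8, 11), (8, 12), (11, 3), (11, 8), (11, 18), (11, 25), (12, 4), (12, 8), (16, 2), (16, 4), (16, 18), (16, 20), (18, 2), (18, 11), (18, 16), (18, 25), (20, 4), (20, 16), (25, 4), (25, 11), (25, 18), (25, 29), (29, 4), (29, 25)] baseRows true false 4 = true := by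
  decide +kernel

theorem dead104 : deadOK ⟨true, false, 4⟩ [8, 11, 12, 16, 18, 20, 25, 29] [(3, 8), (3, 11), (8, 3), (8, 4), (8, 11), (8, 12), (11, 3), (11, 8), (11, 18), (11, 25), (12, 4), (12, 8), (16, 2), (16, 4), (16, 18), (16, 20), (18, 2), (18, 11), (18, 16), (18, 25), (20, 4), (20, 16), (25, 4), (25, 11), (25, 18), (25, 29), (29, 4), (29, 25)] = true := by
  decide +kernel

theorem cfg106 : search [8, 11, 12, 18, 20, 27, 30] [(3, 8), (3, 11), (5, 27), (5, 30), (8, 3), (8, 4), (8, 11), (8, 12), (11, 3), (11, 8), (11, 16), (11, 27), (12, 4), (12, 8), (12, 18), (12, 30), (18, 2), (18, 12), (18, 16), (18, 30), (20, 4), (20, 16), (27, 5), (27, 11), (27, 16), (27, 30), (30, 5), (30, 12), (30, 18), (30, 27)] baseRows true false 6 = true := by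
  decide +kernel

theorem dead106 : deadOK ⟨true, false, 6⟩ [8, 11, 12, 18, 20, 27, 30] [(3, 8), (3, 11), (5, 27), (5, 30), (8, 3), (8, 4), (8, 11), (8, 12), (11, 3), (11, 8), (11, 16), (11, 27), (12, 4), (12, 8), (12, 18), (12, 30), (18, 2), (18, 12), (18, 16), (18, 30), (20, 4), (20, 16), (27, 5), (27, 11), (27, 16), (27, 30), (30, 5), (30, 12), (30, 18), (30, 27)] = true := by
  decide +kernel

theorem cfg110 : search [11, 12, 18, 21, 24, 30] [(3, 8), (3, 11), (5, 16), (5, 21), (11, 3), (11, 8), (11, 21), (11, 30), (12, 4), (12, 8), (12, 18), (12, 30), (18, 2), (18, 12), (18, 16), (18, 30), (21, 5), (21, 11), (21, 16), (21, 30), (24, 8), (24, 16), (30, 11), (30, 12), (30, 18), (30, 21)] baseRows true true 0 = true := by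
  decide +kernel

theorem dead110 : deadOK ⟨true, true, 0⟩ [11, 12, 18, 21, 24, 30] [(3, 8), (3, 11), (5, 16), (5, 21), (11, 3), (11, 8), (11, 21), (11, 30), (12, 4), (12, 8), (12, 18), (12, 30), (18, 2), (18, 12), (18, 16), (18, 30), (21, 5), (21, 11), (21, 16), (21, 30), (24, 8), (24, 16), (30, 11), (30, 12), (30, 18), (30, 21)] = true := by
  decide +kernel

theorem cfg112 : search [11, 12, 16, 18, 21, 26, 29] [(3, 8), (3, 11), (5, 16), (5, 21), (11, 3), (11, 8), (12, 4), (12, 8), (16, 2), (16, 5), (16, 18), (16, 21), (18, 2), (18, 8), (18, 16), (18, 26), (21, 5), (21, 8), (21, 16), (21, 29), (26, 8), (26, 18), (29, 8), (29, 21)] baseRows true true 2 = true := by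
  decide +kernel

theorem dead112 : deadOK ⟨true, true, 2⟩ [11, 12, 16, 18, 21, 26, 29] [(3, 8), (3, 11), (5, 16), (5, 21), (11, 3), (11, 8), (12, 4), (12, 8), (16, 2), (16, 5), (16, 18), (16, 21), (18, 2), (18, 8), (18, 16), (18, 26), (21, 5), (21, 8), (21, 16), (21, 29), (26, 8), (26, 18), (29, 8), (29, 21)] = true := by
  decide +kernel

theorem cfg114 : search [8, 11, 12, 16, 18, 21, 25, 31] [(3, 8), (3, 11), (5, 16), (5, 21), (8, 3), (8, 4), (8, 11), (8, 12), (11, 3), (11, 8), (11, 18), (11, 25), (12, 4), (12, 8), (12, 21), (12, 25), (16, 2), (16, 5), (16, 18), (16, 21), (18, 2), (18, 11), (18, 16), (18, 25), (21, 5), (21, 12), (21, 16), (21, 25), (25, 11), (25, 12), (25, 18), (25, 21)] baseRows true true 4 = true := by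
  decide +kernel

theorem dead114 : deadOK ⟨true, true, 4⟩ [8, 11, 12, 16, 18, 21, 25, 31] [(3, 8), (3, 11), (5, 16), (5, 21), (8, 3), (8, 4), (8, 11), (8, 12), (11, 3), (11, 8), (11, 18), (11, 25), (12, 4), (12, 8), (12, 21), (12, 25), (16, 2), (16, 5), (16, 18), (16, 21), (18, 2), (18, 11), (18, 16), (18, 25), (21, 5), (21, 12), (21, 16), (21, 25), (25, 11), (25, 12), (25, 18), (25, 21)] = true := by
  decide +kernel

theorem cfg116 : search [8, 11, 12, 18, 21, 27, 28] [(3, 8), (3, 11), (5, 16), (5, 21), (8, 3), (8, 4), (8, 11), (8, 12), (11, 3), (11, 8), (11, 16), (11, 27), (12, 4), (12, 8), (12, 16), (12, 28), (18, 2), (18, 16), (21, 5), (21, 16), (27, 11), (27, 16), (28, 12), (28, 16)] baseRows true true 6 = true := by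
  decide +kernel

theorem dead116 : deadOK ⟨true, true, 6⟩ [8, 11, 12, 18, 21, 27, 28] [(3, 8), (3, 11), (5, 16), (5, 21), (8, 3), (8, 4), (8, 11), (8, 12), (11, 3), (11, 8), (11, 16), (11, 27), (12, 4), (12, 8), (12, 16), (12, 28), (18, 2), (18, 16), (21, 5), (21, 16), (27, 11), (27, 16), (28, 12), (28, 16)] = true := by
  decide +kernel

variable {G : Type*} [Group G] {F : Frame G}

namespace NFData

variable (D : NFData F)

theorem card_comm_dvd [Finite G] {u : G} (hu : IsConj F.t u) (H : Subgroup G) (hle : H ≤ D.Stab)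
    (hc : ∀ g ∈ H, Commute g u) : Nat.card H ≤ 32 := by
  obtain ⟨k, -, hk⟩ := (Nat.dvd_prime_pow Nat.prime_two).mp
    (show Nat.card H ∣ 2 ^ 7 by rw [show (2 : ℕ) ^ 7 = 128 by norm_num, ← D.card_Stab]; exact Subgroup.card_dvd_of_le hle)
  have := F.two_power_le hu H k hk hc
  rw [hk]
  calc 2 ^ k ≤ 2 ^ 5 := Nat.pow_le_pow_right (by norm_num) this
    _ = 32 := by norm_num

theorem o_base [Finite G] : ∀ r : Fin 32, r < 8 → D.o r = baseRows r := by
  intro r hr
  have hlow : ∀ r : Fin 32, r < 8 → mk128 (low (lift r)) false false = lift r ∧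
      (mulT (low (lift r)) (low (lift r)) = 0 ∧ (low (lift r)).val.testBit 0 = true ↔ baseRows r = true) := by
    decide +kernel
  apply Bool.eq_iff_iff.mpr
  rw [← row_lift r, ← D.o_iff, ← (hlow r hr).1, D.elt_ev, D.tw.mem_T, (hlow r hr).1, row_lift]
  exact (hlow r hr).2

theorem o_sq [Finite G] {r : Fin 32} (h : D.o r = true) : sqRow D.P r = true := by
  rw [← row_lift r, ← D.o_iff] at h
  have h2 := sq_of_isConj F.t_sq h
  rw [← D.elt_mul, ← F.ev_zero, ← D.elt_ev] at h2
  simp only [sqRow, beq_iff_eq]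
  exact D.elt_inj h2

theorem o_small [Finite G] {r : Fin 32} (h : D.o r = true)
    (hb : 16 ≤ ((List.finRange 32).filter fun s => commRow D.P r s).length) : False := by
  classical
  rw [← row_lift r, ← D.o_iff] at h
  let H := D.Stab ⊓ Subgroup.centralizer ({D.elt (lift r)} : Set G)
  let S := ((List.finRange 32).filter fun s => commRow D.P r s).toFinset
  have hS : 16 ≤ S.card := by
    rwa [List.toFinset_card_of_nodup ((List.nodup_finRange 32).filter _)]
  have hcount : 4 * S.card ≤ Nat.card H := by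
    rw [← show (Finset.univ.filter fun s => (decide (s ∈ S)) = true) = S by ext; simp, ← D.count_rows]
    refine Nat.card_le_card_of_injective (fun g => ⟨g.1.1, g.1.2, ?_⟩) fun g g' e => ?_
    · have hg : row (D.coord g.1) ∈ S := of_decide_eq_true g.2
      simp only [S, List.mem_toFinset, List.mem_filter, List.mem_finRange, true_and, commRow, beq_iff_eq] at hg
      have hc : Commute (D.elt (lift r)) (D.elt (lift (row (D.coord g.1)))) := by
        rw [commute_iff_eq, ← D.elt_mul, ← D.elt_mul, hg]
      obtain ⟨k, hk, e⟩ := D.exists_zeta (D.coord g.1)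
      change g.1.1 ∈ Subgroup.centralizer ({D.elt (lift r)} : Set G)
      rw [Subgroup.mem_centralizer_singleton_iff, ← D.elt_coord g.1, e]
      exact (hc.mul_right (D.zeta_comm hk _)).symm.eq
    · exact Subtype.ext (Subtype.ext (congrArg (fun z : H => (z : G)) e))
  have := D.card_comm_dvd h H inf_le_left fun g hg => Subgroup.mem_centralizer_singleton_iff.mp hg.2
  omega

theorem o_pair [Finite G] {r s : Fin 32} (hs : sqRow D.P s = true) (hc : commRow D.P r s = true)
    (h : D.o r = true) : D.o s = true ↔ ¬ D.o (radd r s) = true := by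
  rw [← row_lift r, ← D.o_iff] at h
  simp only [sqRow, commRow, beq_iff_eq] at hs hc
  have h1 : D.elt (lift s) * D.elt (lift s) = 1 := by
    rw [← D.elt_mul, hs, D.elt_ev, F.ev_zero]
  have h2 : Commute (D.elt (lift r)) (D.elt (lift s)) := by rw [commute_iff_eq, ← D.elt_mul, ← D.elt_mul, hc]
  have := D.tw.rule h h2 h1
  rw [← D.elt_mul, D.o_iff, D.o_iff, row_mul D.P D.phiA_ka.2, row_lift, row_lift] at this
  exact this

theorem good_of_data [Finite G] (al be : Bool) (ka : Fin 32) (hP : D.P = ⟨al, be, ka⟩) (U : List (Fin 32))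
    (ps : List (Fin 32 × Fin 32)) (hd : deadOK ⟨al, be, ka⟩ U ps = true)
    (hs : search U ps baseRows al be ka = true) : good D.o al be ka = true := by
  rw [← hP] at hd
  simp only [deadOK, Bool.and_eq_true, List.all_eq_true, Bool.or_eq_true, Bool.not_eq_true', decide_eq_true_eq,
    List.mem_finRange, forall_const] at hd
  obtain ⟨⟨h1, h2⟩, h3⟩ := hd
  refine search_sound U ps al be ka D.o baseRows hs (fun r hr => ?_) fun x hx hox =>
    D.o_pair (h3 x hx).1 (h3 x hx).2 hox
  by_cases h8 : r < 8
  · exact D.o_base r h8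
  · have hbase : baseRows r = false :=
      (by decide +kernel : ∀ r : Fin 32, ¬ r < 8 → baseRows r = false) r h8
    rw [hbase, Bool.eq_false_iff]
    intro ho
    rcases h1 r with ((h | h) | h) | h
    · exact h8 h
    · exact hr (List.contains_iff_mem.mp h)
    · exact absurd (D.o_sq ho) (by simp [h])
    · exact D.o_small ho h

/-- Either the stabiliser gives index two, or the configuration is exceptional. -/
theorem index_two_or_cfg [Finite G] :
    (∃ H : Subgroup G, H.index = 2) ∨
      (cfgRows D.P.al D.P.be D.P.ka ≠ [] ∧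
        ∀ r, D.o r = (cfgRows D.P.al D.P.be D.P.ka).contains r) := by
  have hgood : good D.o D.P.al D.P.be D.P.ka = true := by
    obtain ⟨al, be, ka, hP⟩ : ∃ al be ka, D.P = ⟨al, be, ka⟩ := ⟨_, _, _, rfl⟩
    have hk := D.hka
    rw [hP] at hk ⊢
    change ka = 0 ∨ ka = 2 ∨ ka = 4 ∨ ka = 6 at hk
    cases al <;> cases be <;> rcases hk with rfl | rfl | rfl | rfl
    · exact D.good_of_data _ _ _ hP _ _ dead000 cfg000
    · exact D.good_of_data _ _ _ hP _ _ dead002 cfg002
    · exact D.good_of_data _ _ _ hP _ _ dead004 cfg004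
    · exact D.good_of_data _ _ _ hP _ _ dead006 cfg006
    · exact D.good_of_data _ _ _ hP _ _ dead010 cfg010
    · exact D.good_of_data _ _ _ hP _ _ dead012 cfg012
    · exact D.good_of_data _ _ _ hP _ _ dead014 cfg014
    · exact D.good_of_data _ _ _ hP _ _ dead016 cfg016
    · exact D.good_of_data _ _ _ hP _ _ dead100 cfg100
    · exact D.good_of_data _ _ _ hP _ _ dead102 cfg102
    · exact D.good_of_data _ _ _ hP _ _ dead104 cfg104
    · exact D.good_of_data _ _ _ hP _ _ dead106 cfg106
    · exact D.good_of_data _ _ _ hP _ _ dead110 cfg110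
    · exact D.good_of_data _ _ _ hP _ _ dead112 cfg112
    · exact D.good_of_data _ _ _ hP _ _ dead114 cfg114
    · exact D.good_of_data _ _ _ hP _ _ dead116 cfg116
  simp only [good, Bool.or_eq_true, Bool.and_eq_true, List.any_eq_true, List.all_eq_true, beq_iff_eq,
    List.mem_finRange, forall_const, bne_iff_ne] at hgood
  rcases hgood with ⟨m, -, hm⟩ | ⟨h1, h2⟩
  · refine Or.inl (index_two_of_cnt F D.Stab (D.hom m) 4
      ((List.finRange 32).filter fun r => D.o r && Frame.par m r).length (by rw [D.card_Stab]) (Nat.odd_iff.mpr hm) ?_)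
    rw [D.cnt_hom]
    congr 1
    rw [← List.toFinset_card_of_nodup ((List.nodup_finRange 32).filter _), List.toFinset_filter,
      List.toFinset_finRange]
  · exact Or.inr ⟨h1, h2⟩

end NFData

end CfsgLib.InvCentS6
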