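import Cfsg.Agent.Lib.InvCentS6.Action

/-!
Tools shared by the exceptional configurations.
-/

set_option autoImplicit false

namespace CfsgLib.InvCentS6

theorem card_two_mul (R : Finset (Fin 32)) (m d : Fin 32) (hd : Frame.par m d = true)
    (hcl : ∀ r ∈ R, radd r d ∈ R) : R.card = 2 * (R.filter fun r => Frame.par m r = false).card := by
  have hpar := par_radd
  have hrr : ∀ r, radd (radd r d) d = r := fun r => by rw [radd_assoc, radd_self, radd_zero]
  have h1 : (R.filter fun r => ¬ Frame.par m r = false).card = (R.filter fun r => Frame.par m r = false).card := by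
    refine Finset.card_nbij' (fun r => radd r d) (fun r => radd r d) ?_ ?_ (fun r _ => hrr r) (fun r _ => hrr r)
    · intro r hr
      rw [Finset.mem_coe, Finset.mem_filter] at hr ⊢
      refine ⟨hcl r hr.1, ?_⟩
      rw [hpar, hd, (Bool.not_eq_false _).mp hr.2]
      rfl
    · intro r hr
      rw [Finset.mem_coe, Finset.mem_filter] at hr ⊢
      refine ⟨hcl r hr.1, ?_⟩
      rw [hpar, hd, hr.2]
      decide
  have := Finset.card_filter_add_card_filter_not (s := R) (fun r => Frame.par m r = false)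
  omega

theorem four_dvd_card (R : Finset (Fin 32)) (d1 d2 : Fin 32) (h1 : d1 ≠ 0) (h2 : d2 ≠ 0) (h12 : d1 ≠ d2)
    (hc1 : ∀ r ∈ R, radd r d1 ∈ R) (hc2 : ∀ r ∈ R, radd r d2 ∈ R) : 4 ∣ R.card := by
  obtain ⟨m1, m2, e1, e2, e3⟩ : ∃ m1 m2 : Fin 32, Frame.par m1 d1 = true ∧ Frame.par m1 d2 = false ∧
      Frame.par m2 d2 = true := by
    have k1 : ∀ d1 d2 : Fin 32, d1 = 0 ∨ d2 = 0 ∨ d1 = d2 ∨
        ∃ m1 : Fin 32, Frame.par m1 d1 = true ∧ Frame.par m1 d2 = false := by decide +kernel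
    have k2 : ∀ d : Fin 32, d = 0 ∨ ∃ m : Fin 32, Frame.par m d = true := by decide +kernel
    obtain ⟨m1, e1, e2⟩ := (((k1 d1 d2).resolve_left h1).resolve_left h2).resolve_left h12
    obtain ⟨m2, e3⟩ := (k2 d2).resolve_left h2
    exact ⟨m1, m2, e1, e2, e3⟩
  have hpar := par_radd
  rw [card_two_mul R m1 d1 e1 hc1, card_two_mul (R.filter fun r => Frame.par m1 r = false) m2 d2 e3 fun r hr => by
    rw [Finset.mem_filter] at hr ⊢
    exact ⟨hc2 r hr.1, by rw [hpar, hr.2, e2]; rfl⟩]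
  exact ⟨_, by ring⟩

variable {G : Type*} [Group G] {F : Frame G}

namespace Act

variable {D : NFData F} {g h : G}

theorem L_mul [Finite G] (A : Act D g) (B : Act D h) (r : Fin 32) : (A.mul B).L r = A.L (B.L r) := by
  have := A.row_conj ⟨h * D.elt (lift r) * h⁻¹, B.conj_mem (D.elt_mem _)⟩
  refine Eq.trans ?_ this
  change row (D.coord ⟨g * h * D.elt (lift r) * (g * h)⁻¹, _⟩) = _
  congr 2
  apply Subtype.ext
  change g * h * D.elt (lift r) * (g * h)⁻¹ = g * (h * D.elt (lift r) * h⁻¹) * g⁻¹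
  group

theorem L_of_stab [Finite G] (A : Act D g) (hg : g ∈ D.Stab) (r : Fin 32) : A.L r = r := by
  obtain ⟨w, rfl⟩ := hg
  have e : (⟨D.elt w * D.elt (lift r) * (D.elt w)⁻¹, A.conj_mem (D.elt_mem _)⟩ : D.Stab) =
      ⟨D.elt w, D.elt_mem _⟩ * ⟨D.elt (lift r), D.elt_mem _⟩ * ⟨D.elt w, D.elt_mem _⟩⁻¹ := rfl
  have h1 : mul128 D.P w (D.coord (⟨D.elt w, D.elt_mem _⟩⁻¹ : D.Stab)) = mk128 0 false false :=
    D.elt_inj (by rw [D.elt_mul, D.elt_coord, D.elt_ev, F.ev_zero]; exact mul_inv_cancel _)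
  have h2 := congrArg row h1
  rw [row_mul D.P D.phiA_ka.2, (by decide +kernel : row (mk128 0 false false) = 0)] at h2
  rw [L, e, D.coord_mul, D.coord_mul, D.coord_elt, D.coord_elt, row_mul D.P D.phiA_ka.2, row_mul D.P D.phiA_ka.2,
    row_lift, radd_comm (row w), radd_assoc, h2, radd_zero]

/-- An element fixing `Z0` and the row of `t` lies in the stabiliser. -/
theorem mem_of_row_one [Finite G] (A : Act D g) (hs : A.sa = 2 ∧ A.sz = 4) (h1 : A.L 1 = 1) : g ∈ D.Stab := by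
  obtain ⟨ha', hz'⟩ : g * F.a * g⁻¹ = F.a ∧ g * F.z * g⁻¹ = F.z := by
    constructor
    · rw [A.ha', hs.1, F.ev_gens.2.1]
    · rw [A.hz', hs.2, F.ev_gens.2.2.1]
  refine D.mem_Stab' (Frame.commute_of_conj ha') (Frame.commute_of_conj hz') ?_
  obtain ⟨k, hk, e⟩ := D.exists_zeta A.v
  refine ⟨k, hk, ?_⟩
  rw [A.L_one] at h1
  rw [F.ev_gens.1, A.ht', e, h1, (by decide +kernel : lift 1 = mk128 1 false false), D.elt_ev, F.ev_mul]

theorem mul_sigma_id [Finite G] (A : Act D g) (B : Act D h) (hA : A.sa = 2 ∧ A.sz = 4) (hB : B.sa = 2 ∧ B.sz = 4) :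
    (A.mul B).sa = 2 ∧ (A.mul B).sz = 4 := by
  change sigT A.sa A.sz B.sa = 2 ∧ sigT A.sa A.sz B.sz = 4
  rw [hA.1, hA.2, hB.1, hB.2]
  decide +kernel

/-- Conjugates in the coset, full over `Z0`, come in multiples of sixteen. -/
theorem coset_count [Finite G] (A : Act D g) (m : Fin 32) (hinv : ∀ r, Frame.par m (A.L r) = Frame.par m r)
    (hfull : ∀ x : D.Stab, IsConj F.t ((x : G) * g) → ∀ k : Fin 32, (k = 0 ∨ k = 2 ∨ k = 4 ∨ k = 6) →
      IsConj F.t ((x : G) * g * F.ev k))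
    (s1 s2 : Fin 32) (hd1 : radd s1 (A.L s1) ≠ 0) (hd2 : radd s2 (A.L s2) ≠ 0)
    (hd12 : radd s1 (A.L s1) ≠ radd s2 (A.L s2)) :
    ∃ j : ℕ, Nat.card {x : D.Stab // IsConj F.t ((x : G) * g) ∧ D.hom m x ≠ 1} = 16 * j := by
  classical
  let p : Fin 32 → Bool := fun r => decide (IsConj F.t (D.elt (lift r) * g)) && Frame.par m r
  have hrow : ∀ x : D.Stab, IsConj F.t ((x : G) * g) ↔ IsConj F.t (D.elt (lift (row (D.coord x))) * g) := by
    intro x
    obtain ⟨k, hk, e⟩ := D.exists_zeta (D.coord x)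
    rw [← D.elt_coord x, e]
    have hback : ∀ k : Fin 32, (k = 0 ∨ k = 2 ∨ k = 4 ∨ k = 6) → ∃ k' : Fin 32,
        (k' = 0 ∨ k' = 2 ∨ k' = 4 ∨ k' = 6) ∧ F.ev k * g = g * F.ev k' := by
      intro k hk
      obtain ⟨k', hk', e'⟩ := A.conj_back hk
      exact ⟨k', hk', by rw [← e']; group⟩
    obtain ⟨k', hk', e'⟩ := hback k hk
    have hsq : F.ev k' * F.ev k' = 1 := by
      rw [← F.ev_mul, (by decide +kernel : ∀ k : Fin 32, k = 0 ∨ k = 2 ∨ k = 4 ∨ k = 6 → mulT k k = 0) k' hk',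
        F.ev_zero]
    have e2 : D.elt (lift (row (D.coord x))) * F.ev k * g = D.elt (lift (row (D.coord x))) * g * F.ev k' := by
      rw [mul_assoc, e', ← mul_assoc]
    rw [e2]
    constructor
    · intro hu
      have := hfull ⟨D.elt (lift (row (D.coord x))) * F.ev k,
        D.Stab.mul_mem (D.elt_mem _) (D.elt_ev k ▸ D.elt_mem _)⟩ (by rwa [e2]) k' hk'
      rw [e2, mul_assoc, hsq, mul_one] at this
      exact this
    · exact fun hu => hfull ⟨_, D.elt_mem _⟩ hu k' hk'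
  have hN : Nat.card {x : D.Stab // IsConj F.t ((x : G) * g) ∧ D.hom m x ≠ 1}
      = 4 * (Finset.univ.filter fun r => p r = true).card := by
    rw [← D.count_rows p]
    refine Nat.card_congr (Equiv.subtypeEquivRight fun x => ?_)
    rw [hrow, D.hom_ne]
    simp [p]
  have htr : ∀ s r : Fin 32, p r = true → p (radd r (radd s (A.L s))) = true := by
    intro s r hr
    simp only [p, Bool.and_eq_true, decide_eq_true_eq] at hr ⊢
    have hpar := par_radd
    refine ⟨?_, by rw [hpar, hpar, hinv, Bool.xor_self, Bool.xor_false, hr.2]⟩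
    let h : D.Stab := ⟨D.elt (lift s), D.elt_mem _⟩
    let y : D.Stab := h * ⟨D.elt (lift r), D.elt_mem _⟩ * ⟨g * (h⁻¹ : D.Stab).1 * g⁻¹, A.conj_mem (h⁻¹).2⟩
    have e : (y : G) * g = D.elt (lift s) * (D.elt (lift r) * g) * (D.elt (lift s))⁻¹ := by
      change D.elt (lift s) * D.elt (lift r) * (g * (D.elt (lift s))⁻¹ * g⁻¹) * g = _
      group
    have hy : row (D.coord y) = radd r (radd s (A.L s)) := by
      have h1 : mul128 D.P (D.coord h) (D.coord h⁻¹) = mk128 0 false false :=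
        D.elt_inj (by rw [D.elt_mul, D.elt_coord, D.elt_coord, D.elt_ev, F.ev_zero]; exact mul_inv_cancel _)
      have h2 := congrArg row h1
      rw [row_mul D.P D.phiA_ka.2, (by decide +kernel : row (mk128 0 false false) = 0), D.coord_elt, row_lift] at h2
      have h3 : row (D.coord h⁻¹) = s := by
        have := radd_left s (row (D.coord h⁻¹))
        rw [h2, radd_zero] at this
        exact this.symm
      rw [D.coord_mul, D.coord_mul, row_mul D.P D.phiA_ka.2, row_mul D.P D.phiA_ka.2, A.row_conj, h3, D.coord_elt,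
        D.coord_elt, row_lift, row_lift, radd_comm s r, radd_assoc]
    rw [← hy, ← hrow, e, isConj_conj_iff]
    exact hr.1
  obtain ⟨j, hj⟩ := four_dvd_card (Finset.univ.filter fun r => p r = true) _ _ hd1 hd2 hd12
    (fun r hr => by simpa using htr s1 r (by simpa using hr))
    (fun r hr => by simpa using htr s2 r (by simpa using hr))
  exact ⟨j, by rw [hN, hj]; ring⟩

/-- Equations on rows satisfied by the induced map. -/
def chk (P : Par) (sa sz : Fin 32) (rows : List (Fin 32)) (a1 a2 a4 a8 a16 r : Fin 32) : Bool :=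
  qRow P (lin a1 a2 a4 a8 a16 r) == sigT sa sz (qRow P r) &&
    (rows.contains (lin a1 a2 a4 a8 a16 r) == rows.contains r)

/-- The search for the induced map with given candidates. -/
def uniq (P : Par) (sa sz : Fin 32) (rows : List (Fin 32)) (a1 : Fin 32) (l2 l4 : List (Fin 32))
    (e2 e4 e8 e16 : Fin 32) : Bool :=
  l2.all fun a2 => !(([2, 3] : List (Fin 32)).all (chk P sa sz rows a1 a2 0 0 0)) ||
    l4.all fun a4 => !(([4, 5, 6, 7] : List (Fin 32)).all (chk P sa sz rows a1 a2 a4 0 0)) ||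
      (List.finRange 32).all fun a8 =>
        !(([8, 9, 10, 11, 12, 13, 14, 15] : List (Fin 32)).all (chk P sa sz rows a1 a2 a4 a8 0)) ||
          (List.finRange 32).all fun a16 =>
            !((List.finRange 32).all (chk P sa sz rows a1 a2 a4 a8 a16)) ||
              (a2 == e2 && a4 == e4 && a8 == e8 && a16 == e16)

theorem L_eq_of_uniq [Finite G] (A : Act D g) (P : Par) (hP : D.P = P) (rows : List (Fin 32))
    (hrows : ∀ r, D.o r = rows.contains r) (sa sz a1 : Fin 32) (hsa : A.sa = sa) (hsz : A.sz = sz)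
    (h1 : A.L 1 = a1) (l2 l4 : List (Fin 32)) (h2 : A.L 2 ∈ l2) (h4 : A.L 4 ∈ l4) (e2 e4 e8 e16 : Fin 32)
    (hu : uniq P sa sz rows a1 l2 l4 e2 e4 e8 e16 = true) (r : Fin 32) :
    A.L r = lin a1 e2 e4 e8 e16 r := by
  have hall : ∀ r, chk P sa sz rows a1 (A.L 2) (A.L 4) (A.L 8) (A.L 16) r = true := by
    intro r
    rw [← h1]
    simp only [chk, Bool.and_eq_true, beq_iff_eq, ← A.L_eq_lin, ← hP, ← hsa, ← hsz, ← hrows]
    exact ⟨A.L_q r, A.L_o r⟩
  have hlow : ∀ (a b c d e : Fin 32) (r : Fin 32), r < 16 → lin a b c d e r = lin a b c d 0 r ∧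
      (r < 8 → lin a b c d e r = lin a b c 0 0 r) ∧ (r < 4 → lin a b c d e r = lin a b 0 0 0 r) := by
    intro a b c d e r hr
    have h4 : ∀ r : Fin 32, r < 16 → r.val.testBit 4 = false := by decide +kernel
    have h3 : ∀ r : Fin 32, r < 8 → r.val.testBit 3 = false := by decide +kernel
    have h2 : ∀ r : Fin 32, r < 4 → r.val.testBit 2 = false := by decide +kernel
    refine ⟨?_, fun h8 => ?_, fun h4' => ?_⟩
    · simp only [lin, h4 r hr, Bool.false_eq_true, if_false]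
    · simp only [lin, h4 r hr, h3 r h8, Bool.false_eq_true, if_false]
    · have h8 : r < 8 := lt_trans h4' (by decide)
      simp only [lin, h4 r hr, h3 r h8, h2 r h4', Bool.false_eq_true, if_false]
  simp only [uniq, List.all_eq_true, Bool.or_eq_true, Bool.not_eq_true', List.mem_finRange, forall_const,
    List.all_eq_false] at hu
  have d2 : ∀ x : Fin 32, x ∈ ([2, 3] : List (Fin 32)) → x < 4 := by decide +kernel
  have d4 : ∀ x : Fin 32, x ∈ ([4, 5, 6, 7] : List (Fin 32)) → x < 8 := by decide +kernel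
  have d8 : ∀ x : Fin 32, x ∈ ([8, 9, 10, 11, 12, 13, 14, 15] : List (Fin 32)) → x < 16 := by decide +kernel
  rcases hu _ h2 with ⟨x, hx, hne⟩ | hu
  · refine absurd ?_ hne
    have := hall x
    simp only [chk] at this ⊢
    rwa [(hlow _ _ _ _ _ x (lt_trans (d2 x hx) (by decide))).2.2 (d2 x hx)] at this
  rcases hu _ h4 with ⟨x, hx, hne⟩ | hu
  · refine absurd ?_ hne
    have := hall x
    simp only [chk] at this ⊢
    rwa [(hlow _ _ _ _ _ x (lt_trans (d4 x hx) (by decide))).2.1 (d4 x hx)] at this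
  rcases hu (A.L 8) with ⟨x, hx, hne⟩ | hu
  · refine absurd ?_ hne
    have := hall x
    simp only [chk] at this ⊢
    rwa [(hlow _ _ _ _ _ x (d8 x hx)).1] at this
  rcases hu (A.L 16) with ⟨x, hne⟩ | hu
  · exact absurd (hall x) hne.2
  simp only [Bool.and_eq_true, beq_iff_eq] at hu
  rw [A.L_eq_lin, h1, hu.1.1.1, hu.1.1.2, hu.1.2, hu.2]

/-- The value of a functional on a conjugate. -/
theorem hom_conj [Finite G] (A : Act D g) (m : Fin 32) (hinv : ∀ r, Frame.par m (A.L r) = Frame.par m r)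
    (x : D.Stab) : D.hom m ⟨g * x.1 * g⁻¹, A.conj_mem x.2⟩ = D.hom m x :=
  D.hom_eq m (by rw [A.row_conj, hinv])

end Act

namespace NFData

variable (D : NFData F)

theorem cfg_length [Finite G] (m : Fin 32) :
    cnt F.t D.Stab (D.hom m) = 4 * (Finset.univ.filter fun r => (D.o r && Frame.par m r) = true).card :=
  D.cnt_hom m

/-- The conjugate of the first canonical involution by `x`. -/
def u1 : G := F.x * D.ha * F.x⁻¹

theorem u1_t : D.u1 * F.t * D.u1⁻¹ = F.t * F.p := by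
  have hx : F.x⁻¹ * F.t * F.x = F.t := by
    calc F.x⁻¹ * F.t * F.x = F.x⁻¹ * (F.x * F.t * F.x⁻¹) * F.x := by rw [F.x_t]
      _ = F.t := by group
  calc D.u1 * F.t * D.u1⁻¹ = F.x * (D.ha * (F.x⁻¹ * F.t * F.x) * D.ha⁻¹) * F.x⁻¹ := by unfold u1; group
    _ = F.t * F.p := by rw [hx, D.hA.ht, Frame.conj_mul, F.x_t, F.x_a]

theorem u1_p : D.u1 * F.p * D.u1⁻¹ = F.p := by
  rw [← F.x_a]
  calc D.u1 * (F.x * F.a * F.x⁻¹) * D.u1⁻¹ = F.x * (D.ha * F.a * D.ha⁻¹) * F.x⁻¹ := by unfold u1; group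
    _ = F.x * F.a * F.x⁻¹ := by rw [D.hA.ca]

theorem u1_az : D.u1 * (F.a * F.z) * D.u1⁻¹ = F.a * F.z := by
  have hx : F.x * (F.a * F.z) * F.x⁻¹ = F.a * F.z := by
    rw [Frame.conj_mul, F.x_a, F.conj_z]
    obtain ⟨ht, ha, hz, haz, hp, hq⟩ := F.ev_gens
    simp only [← ha, ← hz, ← hp, ← F.ev_mul]
    exact F.ev_rel (by decide +kernel)
  calc D.u1 * (F.a * F.z) * D.u1⁻¹ = D.u1 * (F.x * (F.a * F.z) * F.x⁻¹) * D.u1⁻¹ := by rw [hx]
    _ = F.x * (D.ha * (F.a * F.z) * D.ha⁻¹) * F.x⁻¹ := by unfold u1; group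
    _ = F.a * F.z := by rw [Frame.conj_mul D.ha, D.hA.ca, D.hA.cz, hx]

theorem u1_pz : D.u1 * (F.p * F.z) * D.u1⁻¹ = if D.P.al then F.p * F.z * F.p else F.p * F.z := by
  rw [← F.x_p]
  calc D.u1 * (F.x * F.p * F.x⁻¹) * D.u1⁻¹ = F.x * (D.ha * F.p * D.ha⁻¹) * F.x⁻¹ := by unfold u1; group
    _ = _ := by
      rw [D.hA.hp]
      cases D.P.al
      · simp
      · simp only [if_true]
        rw [Frame.conj_mul, F.x_a]

theorem u1_sq : D.u1 * D.u1 = 1 := by
  calc D.u1 * D.u1 = F.x * (D.ha * D.ha) * F.x⁻¹ := by unfold u1; group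
    _ = 1 := by rw [D.hA.sq]; group

theorem ha_elt : D.elt (mk128 0 true false) = D.ha := by
  simp [elt, mk128_proj, F.ev_zero]

theorem u1_conj [Finite G] (h8 : D.o 8 = true) : IsConj F.t D.u1 := by
  unfold u1
  rw [isConj_conj_iff, ← D.ha_elt, D.o_iff, (by decide +kernel : row (mk128 0 true false) = 8)]
  exact h8

/-- The action data of the first conjugate when `p` is centralised. -/
def u1Act (hal : D.P.al = false) : Act D D.u1 where
  sa := 2
  sz := 4
  v := mk128 9 false false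
  hs := Or.inl rfl
  ha' := by
    have e1 := D.u1_pz
    rw [hal, if_neg (by simp), Frame.conj_mul, D.u1_p] at e1
    have hz : D.u1 * F.z * D.u1⁻¹ = F.z := mul_left_cancel e1
    have e2 := D.u1_az
    rw [Frame.conj_mul, hz] at e2
    rw [F.ev_gens.2.1]
    exact mul_right_cancel e2
  hz' := by
    have e1 := D.u1_pz
    rw [hal, if_neg (by simp), Frame.conj_mul, D.u1_p] at e1
    rw [F.ev_gens.2.2.1]
    exact mul_left_cancel e1
  ht' := by
    rw [D.u1_t, D.elt_ev, ← F.ev_gens.1, ← F.ev_gens.2.2.2.2.1, ← F.ev_mul]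
    exact F.ev_rel (by decide +kernel)

end NFData

/-- A central element of a Sylow subgroup of a conjugate centralizer squares to one. -/
theorem central_sq [Finite G] {u : G} (hu : IsConj F.t u) (K : Subgroup G) (hK : Nat.card K = 32)
    (hle : ∀ g ∈ K, Commute g u) {w : G} (hw : w ∈ K) (hcen : ∀ g ∈ K, Commute w g) : w * w = 1 := by
  obtain ⟨c, rfl⟩ := isConj_iff.mp hu
  let φ : G ≃* G := MulAut.conj c⁻¹
  have hφ : ∀ g, φ g = c⁻¹ * g * c := fun g => by simp [φ]
  have hle' : K.map φ.toMonoidHom ≤ Subgroup.centralizer ({F.t} : Set G) := by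
    rintro _ ⟨g, hg, rfl⟩
    rw [Subgroup.mem_centralizer_singleton_iff]
    change φ g * F.t = F.t * φ g
    rw [hφ]
    have h1 := (hle g hg).eq
    calc c⁻¹ * g * c * F.t = c⁻¹ * (g * (c * F.t * c⁻¹)) * c := by group
      _ = c⁻¹ * (c * F.t * c⁻¹ * g) * c := by rw [h1]
      _ = F.t * (c⁻¹ * g * c) := by group
  obtain ⟨d, -, hmem⟩ := F.sylow_conj _ hle' ((IsPGroup.of_card (n := 5) (by rw [hK]; norm_num)).map _)
  let ψ : K → F.Tsub := fun g => ⟨d * (c⁻¹ * g.1 * c) * d⁻¹, hmem _ ⟨g.1, g.2, hφ g.1⟩⟩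
  have hinj : Function.Injective ψ := fun g g' e => by
    have e1 := congrArg Subtype.val e
    exact Subtype.ext (mul_left_cancel (mul_right_cancel (mul_left_cancel (mul_right_cancel e1))))
  have hbij : Function.Bijective ψ :=
    (Nat.bijective_iff_injective_and_card ψ).mpr ⟨hinj, by rw [hK, F.card_Tsub]⟩
  obtain ⟨r, hr⟩ := (ψ ⟨w, hw⟩).2
  have hr' : F.ev r = d * (c⁻¹ * w * c) * d⁻¹ := hr
  have hcomm : ∀ v, mulT r v = mulT v r := by
    intro v
    rw [← F.ev_commute_iff]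
    obtain ⟨g, hg⟩ := hbij.2 ⟨F.ev v, F.ev_mem v⟩
    have e1 : d * (c⁻¹ * g.1 * c) * d⁻¹ = F.ev v := congrArg Subtype.val hg
    rw [hr', ← e1]
    exact Frame.commute_conj (by
      have := Frame.commute_conj (c := c⁻¹) (hcen g.1 g.2)
      rwa [inv_inv] at this)
  have hr2 : mulT r r = 0 :=
    (by decide +kernel : ∀ r : Fin 32, (∀ v, mulT r v = mulT v r) → mulT r r = 0) r hcomm
  have e2 : d * (c⁻¹ * (w * w) * c) * d⁻¹ = 1 := by
    rw [← F.ev_zero, ← hr2, F.ev_mul, hr']; group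
  calc w * w = c * (d⁻¹ * (d * (c⁻¹ * (w * w) * c) * d⁻¹) * d) * c⁻¹ := by group
    _ = 1 := by rw [e2]; group

end CfsgLib.InvCentS6
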