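import Cfsg.Agent.Lib.InvCentS6.FakeStab
import Cfsg.Agent.Lib.InvCentS6.Gen

/-!
The fake case gives a subgroup of index two.
-/

set_option autoImplicit false

namespace CfsgLib.InvCentS6

namespace Fake

/-- The action of the normalising element on rows. -/
def sig (r : Fin 16) : Fin 16 := lin 1 4 2 8 r

/-- A set of rows closed under two translations has cardinality divisible by four. -/
theorem four_dvd (R : Finset (Fin 16)) (d1 d2 : Fin 16) (h1 : d1 ≠ 0) (h2 : d2 ≠ 0) (h12 : d1 ≠ d2)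
    (hc1 : ∀ r ∈ R, radd r d1 ∈ R) (hc2 : ∀ r ∈ R, radd r d2 ∈ R) : 4 ∣ R.card := by
  let e : Fin 16 ↪ Fin 32 := Fin.castLEEmb (by norm_num)
  have he : ∀ r s : Fin 16, CfsgLib.InvCentS6.radd (e r) (e s) = e (radd r s) := by decide +kernel
  rw [← Finset.card_map e]
  refine four_dvd_card (R.map e) (e d1) (e d2) ?_ ?_ (fun h => h12 (e.injective h)) ?_ ?_
  · exact fun h => h1 (e.injective (h.trans (by decide +kernel : (0 : Fin 32) = e 0)))
  · exact fun h => h2 (e.injective (h.trans (by decide +kernel : (0 : Fin 32) = e 0)))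
  · intro r hr
    obtain ⟨s, hs, rfl⟩ := Finset.mem_map.mp hr
    rw [he]
    exact Finset.mem_map_of_mem e (hc1 s hs)
  · intro r hr
    obtain ⟨s, hs, rfl⟩ := Finset.mem_map.mp hr
    rw [he]
    exact Finset.mem_map_of_mem e (hc2 s hs)

variable {G : Type*} [Group G] {F : Frame G} (D : FKData F)

theorem gN : Nrm D D.g where
  za := Or.inr D.g_a
  zz := D.g_z
  tt := by
    rw [D.g_t, ← F.ev_gens.1, ← F.ev_gens.2.1, ← F.ev_mul]
    exact ev_mem D _

theorem gL [Finite G] (r : Fin 16) : (gN D).L r = sig r := by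
  obtain ⟨ht, ha, hz, haz, hp, hq⟩ := F.ev_gens
  have l1 : (gN D).L 1 = 1 := by
    have := (gN D).L_of_conj 1 3 (by
      rw [ht, D.g_t, ← ht, ← ha, ← F.ev_mul]; exact F.ev_rel (by decide +kernel))
    rwa [(by decide +kernel : row (mk 1 false) = 1), (by decide +kernel : row (mk 3 false) = 1)] at this
  have l2 : (gN D).L 2 = 4 := by
    obtain ⟨k, hk, e⟩ := D.g_p
    have := (gN D).L_of_conj 8 (mulT (Frame.subT 0 2 4 0 0 k) 16) (by rw [hp, e, F.ev_mul, hq])
    rwa [(by decide +kernel : row (mk 8 false) = 2), (by decide +kernel : ∀ k : Fin 32,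
      k = 0 ∨ k = 2 ∨ k = 4 ∨ k = 6 → row (mk (mulT (Frame.subT 0 2 4 0 0 k) 16) false) = 4) k hk] at this
  have l4 : (gN D).L 4 = 2 := by
    obtain ⟨k, hk, e⟩ := D.g_q
    have := (gN D).L_of_conj 16 (mulT (Frame.subT 0 2 4 0 0 k) 8) (by rw [hq, e, F.ev_mul, hp])
    rwa [(by decide +kernel : row (mk 16 false) = 4), (by decide +kernel : ∀ k : Fin 32,
      k = 0 ∨ k = 2 ∨ k = 4 ∨ k = 6 → row (mk (mulT (Frame.subT 0 2 4 0 0 k) 8) false) = 2) k hk] at this
  have l8 : (gN D).L 8 = 8 := by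
    have e : D.g * elt D (lift 8) * D.g⁻¹ = elt D (lift 8) := by
      rw [(by decide +kernel : lift 8 = mk 0 true)]
      simp only [elt, mk_proj, if_true, F.ev_zero, one_mul, h]
      group
    rw [Nrm.L, rho_of_eq D _ (elt_mem D _) e, rho_elt, row_lift]
  rw [Nrm.L_eq_lin, l1, l2, l4, l8]
  rfl

theorem hsq_mem : D.g * D.g ∈ Th D := by
  have : D.g * D.g = elt D (mk 0 true) := by simp [elt, mk_proj, F.ev_zero, h]
  rw [this]
  exact elt_mem D _

theorem rho_hsq : rho D ⟨D.g * D.g, hsq_mem D⟩ = 8 := by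
  rw [rho_of_eq D (hsq_mem D) (elt_mem D (mk 0 true)) (by simp [elt, mk_proj, F.ev_zero, h]), rho_elt]
  decide +kernel

theorem g_not_mem : D.g ∉ Th D := by
  rintro ⟨v, hv⟩
  have e := Frame.conj_of_commute (elt_fix D v).1
  rw [hv, D.g_a] at e
  have e' : F.z = 1 := mul_left_cancel (e.trans (mul_one F.a).symm)
  rw [← F.ev_gens.2.2.1, ← F.ev_zero] at e'
  exact absurd (F.ev_inj e') (by decide)

/-- The cosets of `g` contain no conjugate of `t`. -/
theorem no_conj_g [Finite G] (x : Th D) : ¬ IsConj F.t ((x : G) * D.g) := by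
  intro hx
  have := row_coset_sq D (gN D) (hsq_mem D) x hx
  rw [gL, rho_hsq] at this
  exact (by decide +kernel : ∀ r, radd (radd r (sig r)) 8 ≠ 0) _ this

theorem o_base [Finite G] (r : Fin 16) (hr : r < 8) : o D r = ([1, 3, 5] : List (Fin 16)).contains r := by
  classical
  have hlow : ∀ r : Fin 16, r < 8 → lift r = mk (low (lift r)) false ∧
      (mulT (low (lift r)) (low (lift r)) = 0 ∧ (low (lift r)).val.testBit 0 = true ↔
        ([1, 3, 5] : List (Fin 16)).contains r = true) := by decide +kernel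
  obtain ⟨e1, e2⟩ := hlow r hr
  apply Bool.eq_iff_iff.mpr
  rw [o, decide_eq_true_iff, e1, elt_ev, D.tw.mem_T]
  exact e2

theorem o_sq [Finite G] {r : Fin 16} (hr : o D r = true) : sqr D.s r = 0 := by
  classical
  rw [o, decide_eq_true_iff] at hr
  refine F.ev_inj ?_
  have := sq_eq D ⟨elt D (lift r), elt_mem D _⟩
  rw [rho_elt, row_lift] at this
  rw [F.ev_zero, ← this]
  exact sq_of_isConj F.t_sq hr

theorem o_pair [Finite G] {r u : Fin 16} (hc : mul D.s (lift r) (lift u) = mul D.s (lift u) (lift r))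
    (hu : sqr D.s u = 0) (hr : o D r = true) : o D u = true ↔ ¬ o D (radd r u) = true := by
  classical
  rw [o, decide_eq_true_iff] at hr
  have h1 : elt D (lift u) * elt D (lift u) = 1 := by
    have := sq_eq D ⟨elt D (lift u), elt_mem D _⟩
    rw [rho_elt, row_lift, hu, F.ev_zero] at this
    exact this
  have h2 : Commute (elt D (lift r)) (elt D (lift u)) := by rw [commute_iff_eq, ← elt_mul, ← elt_mul, hc]
  have h3 := D.tw.rule hr h2 h1
  have e : elt D (lift r) * elt D (lift u) =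
      ((⟨elt D (lift r), elt_mem D _⟩ * ⟨elt D (lift u), elt_mem D _⟩ : Th D) : G) := rfl
  rw [e, o_iff, rho_mul, rho_elt, rho_elt, row_lift, row_lift,
    show elt D (lift u) = ((⟨elt D (lift u), elt_mem D _⟩ : Th D) : G) from rfl, o_iff, rho_elt, row_lift] at h3
  exact h3

theorem o_sig [Finite G] (r : Fin 16) : o D (sig r) = o D r := by
  rw [← gL D, o_L]

/-- Transfer to the subgroup generated by the stabiliser and the normalising element. -/
theorem first_step [Finite G]
    (hodd : Odd (Finset.univ.filter fun r => (o D r && par 1 r) = true).card) :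
    ∃ H : Subgroup G, H.index = 2 := by
  have hn : ∀ x ∈ Th D, D.g * x * D.g⁻¹ ∈ Th D := fun x hx => (gN D).conj_mem hx
  obtain ⟨f, -, fcnt, -⟩ := step_const F.t (hom D 1) (g := D.g) hn (hsq_mem D) (g_not_mem D)
    (hom_conj D (gN D) 1 fun r => by
      rw [gL]; exact (by decide +kernel : ∀ r, par 1 (sig r) = par 1 r) r)
    (hom_eq_one D 1 _ (by rw [rho_hsq]; decide +kernel))
    (fun x x' hx _ => absurd hx (no_conj_g D x))
  refine index_two_of_cnt F _ f 4 _ ?_ hodd ?_
  · rw [card_extend (g_not_mem D), card_Th]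
  · rw [fcnt, cnt_hom]

theorem card_of_rows [Finite G] (l : List (Fin 16)) (m : Fin 16) (hl : ∀ r, o D r = l.contains r) :
    (Finset.univ.filter fun r => (o D r && par m r) = true).card =
      (Finset.univ.filter fun r => (l.contains r && par m r) = true).card := by
  congr 1
  ext r
  simp [hl]

/-- Either index two, or one of two configurations. -/
theorem cfg [Finite G] : (∃ H : Subgroup G, H.index = 2) ∨
    (D.s = 0 ∧ ∀ r, o D r = ([1, 3, 5, 15] : List (Fin 16)).contains r) ∨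
    (D.s = 4 ∧ ∀ r, o D r = ([1, 3, 5, 9, 11, 13] : List (Fin 16)).contains r) := by
  have hsig10 : o D 12 = o D 10 := by rw [← o_sig D 10]; rfl
  have hsig11 : o D 13 = o D 11 := by rw [← o_sig D 11]; rfl
  have b5 : o D 5 = true := by rw [o_base D 5 (by decide)]; rfl
  have b3 : o D 3 = true := by rw [o_base D 3 (by decide)]; rfl
  have b2 : o D 2 = false := by rw [o_base D 2 (by decide)]; rfl
  rcases D.hs with hs | hs
  · have hz : ∀ r : Fin 16, sqr D.s r ≠ 0 → o D r = false := fun r h =>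
      Bool.eq_false_iff.mpr fun h' => h (o_sq D h')
    rw [hs] at hz
    by_cases h15 : o D 15 = true
    · have h10 : o D 10 = false := by
        have := o_pair D (r := 15) (u := 10) (by rw [hs]; decide +kernel) (by rw [hs]; decide +kernel) h15
        rw [show radd 15 10 = 5 by decide +kernel, b5] at this
        simpa using this
      have h8 : o D 8 = false := by
        refine Bool.eq_false_iff.mpr fun h => ?_
        have := o_pair D (r := 8) (u := 2) (by rw [hs]; decide +kernel) (by rw [hs]; decide +kernel) h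
        rw [show radd 8 2 = 10 by decide +kernel, h10, b2] at this
        simp at this
      refine Or.inr (Or.inl ⟨hs, fun r => ?_⟩)
      rcases (by decide +kernel : ∀ r : Fin 16, r < 8 ∨ sqr 0 r ≠ 0 ∨ r = 8 ∨ r = 10 ∨ r = 12 ∨ r = 15) r with
        h | h | rfl | rfl | rfl | rfl
      · rw [o_base D r h]
        exact (by decide +kernel : ∀ r : Fin 16, r < 8 →
          ([1, 3, 5] : List (Fin 16)).contains r = ([1, 3, 5, 15] : List (Fin 16)).contains r) r h
      · rw [hz r h]
        exact (by decide +kernel : ∀ r : Fin 16, sqr 0 r ≠ 0 →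
          false = ([1, 3, 5, 15] : List (Fin 16)).contains r) r h
      · rw [h8]; rfl
      · rw [h10]; rfl
      · rw [hsig10, h10]; rfl
      · rw [h15]; rfl
    · refine Or.inl (first_step D ?_)
      have e : ∀ r, (o D r && par 1 r) = ((([1, 3, 5] : List (Fin 16)).contains r) && par 1 r) := by
        intro r
        rcases (by decide +kernel : ∀ r : Fin 16, r < 8 ∨ sqr 0 r ≠ 0 ∨ par 1 r = false ∨ r = 15) r with
          h | h | h | rfl
        · rw [o_base D r h]
        · rw [hz r h]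
          exact (by decide +kernel : ∀ r : Fin 16, sqr 0 r ≠ 0 →
            (false && par 1 r) = ((([1, 3, 5] : List (Fin 16)).contains r) && par 1 r)) r h
        · rw [h, Bool.and_false, Bool.and_false]
        · rw [Bool.eq_false_iff.mpr h15]; rfl
      simp only [e]
      decide +kernel
  · have hz : ∀ r : Fin 16, sqr D.s r ≠ 0 → o D r = false := fun r h =>
      Bool.eq_false_iff.mpr fun h' => h (o_sq D h')
    rw [hs] at hz
    by_cases h9 : o D 9 = true
    · have h11 : o D 11 = true := by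
        have := o_pair D (r := 9) (u := 11) (by rw [hs]; decide +kernel) (by rw [hs]; decide +kernel) h9
        rw [show radd 9 11 = 2 by decide +kernel, b2] at this
        simpa using this
      have h14 : o D 14 = false := by
        have := o_pair D (r := 3) (u := 14) (by rw [hs]; decide +kernel) (by rw [hs]; decide +kernel) b3
        rw [show radd 3 14 = 13 by decide +kernel, hsig11, h11] at this
        simpa using this
      refine Or.inr (Or.inr ⟨hs, fun r => ?_⟩)
      rcases (by decide +kernel : ∀ r : Fin 16, r < 8 ∨ sqr 4 r ≠ 0 ∨ r = 9 ∨ r = 11 ∨ r = 13 ∨ r = 14) r with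
        h | h | rfl | rfl | rfl | rfl
      · rw [o_base D r h]
        exact (by decide +kernel : ∀ r : Fin 16, r < 8 →
          ([1, 3, 5] : List (Fin 16)).contains r = ([1, 3, 5, 9, 11, 13] : List (Fin 16)).contains r) r h
      · rw [hz r h]
        exact (by decide +kernel : ∀ r : Fin 16, sqr 4 r ≠ 0 →
          false = ([1, 3, 5, 9, 11, 13] : List (Fin 16)).contains r) r h
      · rw [h9]; rfl
      · rw [h11]; rfl
      · rw [hsig11, h11]; rfl
      · rw [h14]; rfl
    · refine Or.inl (first_step D ?_)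
      have e : ∀ r, (o D r && par 1 r) = ((([1, 3, 5] : List (Fin 16)).contains r ||
          (o D 11 && ([11, 13] : List (Fin 16)).contains r)) && par 1 r) := by
        intro r
        rcases (by decide +kernel : ∀ r : Fin 16, r < 8 ∨ sqr 4 r ≠ 0 ∨ par 1 r = false ∨ r = 9 ∨ r = 11 ∨ r = 13) r
          with h | h | h | rfl | rfl | rfl
        · rw [o_base D r h, (by decide +kernel : ∀ r : Fin 16, r < 8 → ([11, 13] : List (Fin 16)).contains r = false) r h,
            Bool.and_false, Bool.or_false]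
        · rw [hz r h, (by decide +kernel : ∀ r : Fin 16, sqr 4 r ≠ 0 → ([11, 13] : List (Fin 16)).contains r = false) r h,
            Bool.and_false, Bool.or_false]
          exact (by decide +kernel : ∀ r : Fin 16, sqr 4 r ≠ 0 →
            (false && par 1 r) = ((([1, 3, 5] : List (Fin 16)).contains r) && par 1 r)) r h
        · rw [h, Bool.and_false, Bool.and_false]
        · rw [Bool.eq_false_iff.mpr h9]; cases o D 11 <;> rfl
        · cases o D 11 <;> rfl
        · rw [hsig11]; cases o D 11 <;> rfl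
      simp only [e]
      cases o D 11 <;> decide +kernel

/-- The third element of order two on rows. -/
theorem piN : Nrm D (F.x * h D * F.x⁻¹) ∧ F.x * h D * F.x⁻¹ * F.a * (F.x * h D * F.x⁻¹)⁻¹ = F.a ∧
    F.x * h D * F.x⁻¹ * F.p * (F.x * h D * F.x⁻¹)⁻¹ = F.p ∧
    F.x * h D * F.x⁻¹ * F.t * (F.x * h D * F.x⁻¹)⁻¹ = F.ev 15 := by
  obtain ⟨ht, ha, hz, haz, hp, hq⟩ := F.ev_gens
  let c := F.x * h D * F.x⁻¹
  have cc : ∀ u u' : G, h D * u * (h D)⁻¹ = u' → c * (F.x * u * F.x⁻¹) * c⁻¹ = F.x * u' * F.x⁻¹ := by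
    intro u u' e; rw [← e]; simp only [c]; group
  have hpz : h D * (F.p * F.z) * (h D)⁻¹ = F.p * F.z := by
    rw [Frame.conj_mul, show h D * F.p * (h D)⁻¹ = F.p from D.h_p, h_z]
  have pa : c * F.a * c⁻¹ = F.a := by
    have := cc _ _ hpz
    rwa [F.x_pz] at this
  have pp : c * F.p * c⁻¹ = F.p := by
    have := cc _ _ (h_a D)
    rwa [F.x_a] at this
  have pz : c * F.z * c⁻¹ = F.z := by
    have := cc _ _ (show h D * F.p * (h D)⁻¹ = F.p from D.h_p)
    rw [F.x_p, Frame.conj_mul, pp] at this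
    exact mul_left_cancel this
  have pt : c * F.t * c⁻¹ = F.ev 15 := by
    have := cc _ _ (h_t D)
    rw [F.x_t, Frame.conj_mul, F.x_t, F.conj_z] at this
    rw [this, ← ht, ← hp, ← hz, ← ha, ← F.ev_mul, ← F.ev_mul, ← F.ev_mul]
    exact F.ev_rel (by decide +kernel)
  exact ⟨⟨Or.inl pa, pz, pt ▸ ev_mem D 15⟩, pa, pp, pt⟩

/-- The row map of the third element, given the configuration. -/
theorem piL [Finite G] (rows : List (Fin 16)) (hrows : ∀ r, o D r = rows.contains r) (e4 e8 : Fin 16)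
    (hu : ∀ a4 a8 : Fin 16,
      ((List.finRange 16).all fun r => sqr D.s (lin 3 2 a4 a8 r) == sqr D.s r &&
        rows.contains (lin 3 2 a4 a8 r) == rows.contains r) = true → a4 = e4 ∧ a8 = e8) (r : Fin 16) :
    (piN D).1.L r = lin 3 2 e4 e8 r := by
  obtain ⟨A, pa, pp, pt⟩ := piN D
  change A.L r = _
  have l1 : A.L 1 = 3 := by
    have := A.L_of_conj 1 15 (by rw [F.ev_gens.1]; exact pt)
    rwa [(by decide +kernel : row (mk 1 false) = 1), (by decide +kernel : row (mk 15 false) = 3)] at this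
  have l2 : A.L 2 = 2 := by
    have := A.L_of_conj 8 8 (by rw [F.ev_gens.2.2.2.2.1]; exact pp)
    rwa [(by decide +kernel : row (mk 8 false) = 2)] at this
  obtain ⟨h4, h8⟩ := hu (A.L 4) (A.L 8) (by
    simp only [List.all_eq_true, Bool.and_eq_true, beq_iff_eq]
    intro r _
    rw [← l1, ← l2, ← A.L_eq_lin, A.L_sqr pa, ← hrows, ← hrows, o_L]
    exact ⟨rfl, rfl⟩)
  rw [A.L_eq_lin, l1, l2, h4, h8]

/-- The conjugate of the third element. -/
theorem pi'N [Finite G] : Nrm D (D.g * (F.x * h D * F.x⁻¹) * D.g⁻¹) ∧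
    D.g * (F.x * h D * F.x⁻¹) * D.g⁻¹ * F.a * (D.g * (F.x * h D * F.x⁻¹) * D.g⁻¹)⁻¹ = F.a := by
  obtain ⟨A, pa, -, -⟩ := piN D
  refine ⟨(gN D).conj_nrm A, ?_⟩
  have caz : D.g * (F.a * F.z) * D.g⁻¹ = F.a := by
    rw [Frame.conj_mul, D.g_a, D.g_z, mul_assoc, F.z_sq, mul_one]
  have g_az : D.g⁻¹ * F.a * D.g = F.a * F.z := by
    calc D.g⁻¹ * F.a * D.g = D.g⁻¹ * (D.g * (F.a * F.z) * D.g⁻¹) * D.g := by rw [caz]
      _ = _ := by group
  have paz : F.x * h D * F.x⁻¹ * (F.a * F.z) * (F.x * h D * F.x⁻¹)⁻¹ = F.a * F.z := by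
    rw [Frame.conj_mul, pa, A.zz]
  calc _ = D.g * (F.x * h D * F.x⁻¹ * (D.g⁻¹ * F.a * D.g) * (F.x * h D * F.x⁻¹)⁻¹) * D.g⁻¹ := by group
    _ = F.a := by rw [g_az, paz, caz]

theorem pi'L [Finite G] (L : Fin 16 → Fin 16) (hL : ∀ r, (piN D).1.L r = L r) (r : Fin 16) :
    (pi'N D).1.L r = sig (L (sig r)) := by
  have e := Nrm.L_congr ((pi'N D).1.mul (gN D)) ((gN D).mul (piN D).1) (by group) (sig r)
  rw [Nrm.L_mul (pi'N D).1 (gN D), Nrm.L_mul (gN D) (piN D).1, gL, gL, hL,
    (by decide +kernel : ∀ r, sig (sig r) = r) r] at e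
  exact e

/-- The general second step. -/
theorem second_step [Finite G] {c : G} (A : Nrm D c) (hca : c * F.a * c⁻¹ = F.a) (L : Fin 16 → Fin 16)
    (hL : ∀ r, A.L r = L r) (m : Fin 16)
    (hLL : L (L 1) = 1) (hL1 : L 1 ≠ 1) (hcomm : sig (L (sig 1)) = L 1)
    (hLinv : ∀ r, par m (L r) = par m r) (hsig : ∀ r, par m (sig r) = par m r) (hm8 : par m 8 = false)
    (hfix : ∀ r, L r = r → par m r = false)
    (hgam : ∀ r u, L u = u → sig u = radd (radd r (L r)) u → par m r = false)
    (s1 s2 : Fin 16) (hd1 : radd s1 (L s1) ≠ 0) (hd2 : radd s2 (L s2) ≠ 0)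
    (hd12 : radd s1 (L s1) ≠ radd s2 (L s2))
    (hn : (Finset.univ.filter fun r => (o D r && par m r) = true).card % 4 = 2)
    (hout : ∀ x x' : Th D, IsConj F.t ((x : G) * (c * D.g)) → IsConj F.t ((x' : G) * (c * D.g)) →
      par m (rho D x) = par m (rho D x')) :
    ∃ H : Subgroup G, H.index = 2 := by
  classical
  have hc2 : c * c ∈ Th D := by
    refine (A.mul A).mem_of_row_one ?_ ?_
    · calc c * c * F.a * (c * c)⁻¹ = c * (c * F.a * c⁻¹) * c⁻¹ := by group
        _ = F.a := by rw [hca, hca]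
    · rw [Nrm.L_mul A A, hL, hL, hLL]
  have hcT : c ∉ Th D := fun hc => hL1 (by rw [← hL]; exact A.L_of_mem hc 1)
  have hnc : ∀ x ∈ Th D, c * x * c⁻¹ ∈ Th D := fun x hx => A.conj_mem hx
  have hw : L (rho D ⟨c * c, hc2⟩) = rho D ⟨c * c, hc2⟩ := by
    rw [← hL, ← A.row_conj]
    exact rho_of_eq D _ _ (by change c * (c * c) * c⁻¹ = c * c; group)
  have hinvc : ∀ x : Th D, hom D m ⟨c * x.1 * c⁻¹, hnc x x.2⟩ = hom D m x :=
    hom_conj D A m fun r => by rw [hL]; exact hLinv r
  have hc2one : hom D m ⟨c * c, hc2⟩ = 1 := hom_eq_one D m _ (hfix _ hw)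
  obtain ⟨f1, f1res, f1out⟩ := exists_extend_hom (hn := hnc) (hg := hc2) hcT (hom D m) hinvc hc2one 1
  have f1val : ∀ (x : extend (Th D) c hnc hc2) (s : Th D), ((x : G) = s ∨ (x : G) = s * c) → f1 x = hom D m s := by
    intro x s hx
    rcases hx with e | e
    · rw [← f1res s]; exact congrArg f1 (Subtype.ext e)
    · have := f1out s
      rw [mul_one] at this
      rw [← this]; exact congrArg f1 (Subtype.ext e)
  -- the conjugate of the new element
  have hgam1 : D.g * c * D.g⁻¹ * c ∈ Th D := by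
    refine (((gN D).conj_nrm A).mul A).mem_of_row_one ?_ ?_
    · have caz : D.g * (F.a * F.z) * D.g⁻¹ = F.a := by
        rw [Frame.conj_mul, D.g_a, D.g_z, mul_assoc, F.z_sq, mul_one]
      have g_az : D.g⁻¹ * F.a * D.g = F.a * F.z := by
        calc D.g⁻¹ * F.a * D.g = D.g⁻¹ * (D.g * (F.a * F.z) * D.g⁻¹) * D.g := by rw [caz]
          _ = _ := by group
      calc D.g * c * D.g⁻¹ * c * F.a * (D.g * c * D.g⁻¹ * c)⁻¹
          = D.g * (c * (D.g⁻¹ * (c * F.a * c⁻¹) * D.g) * c⁻¹) * D.g⁻¹ := by group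
        _ = F.a := by rw [hca, g_az, Frame.conj_mul c, hca, A.zz, caz]
    · have e := Nrm.L_congr (((gN D).conj_nrm A).mul (gN D)) ((gN D).mul A) (by group) (sig (L 1))
      rw [Nrm.L_mul ((gN D).conj_nrm A) (gN D), Nrm.L_mul (gN D) A, gL, gL,
        (by decide +kernel : ∀ r, sig (sig r) = r) (L 1), hL] at e
      rw [Nrm.L_mul ((gN D).conj_nrm A) A, hL, e]
      have hs : sig (L 1) = L 1 := hcomm
      rw [hs, hLL]
      decide +kernel
  let γ : Th D := ⟨D.g * c * D.g⁻¹ * c, hgam1⟩ * ⟨c * c, hc2⟩⁻¹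
  have hγ : D.g * c * D.g⁻¹ = (γ : G) * c := by
    change _ = D.g * c * D.g⁻¹ * c * (c * c)⁻¹ * c
    group
  have hγpar : par m (rho D γ) = false := by
    refine hgam (rho D γ) (rho D ⟨c * c, hc2⟩) hw ?_
    rw [← gL D, ← (gN D).row_conj, ← hL (rho D γ), ← A.row_conj, ← rho_mul, ← rho_mul]
    refine rho_of_eq D _ _ ?_
    calc D.g * (c * c) * D.g⁻¹ = D.g * c * D.g⁻¹ * (D.g * c * D.g⁻¹) := by group
      _ = (γ : G) * (c * (γ : G) * c⁻¹) * (c * c) := by rw [hγ]; group
  have hn2 : ∀ x ∈ extend (Th D) c hnc hc2, D.g * x * D.g⁻¹ ∈ extend (Th D) c hnc hc2 := by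
    intro x hx
    rcases hx with hx | hx
    · exact le_extend ((gN D).conj_mem hx)
    · refine Or.inr ?_
      rw [show D.g * x * D.g⁻¹ * c⁻¹ = D.g * (x * c⁻¹) * D.g⁻¹ * ((D.g * c * D.g⁻¹) * c⁻¹) by group, hγ,
        mul_inv_cancel_right]
      exact (Th D).mul_mem ((gN D).conj_mem hx) γ.2
  have hg2 : D.g * D.g ∈ extend (Th D) c hnc hc2 := le_extend (hsq_mem D)
  have hgK : D.g ∉ extend (Th D) c hnc hc2 := by
    intro hx
    have hh : D.g * F.a * D.g⁻¹ = F.a := by
      rcases hx with hx | hx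
      · exact absurd hx (g_not_mem D)
      · obtain ⟨v, hv⟩ := hx
        have e : D.g = elt D v * c := by rw [hv, inv_mul_cancel_right]
        calc D.g * F.a * D.g⁻¹ = elt D v * (c * F.a * c⁻¹) * (elt D v)⁻¹ := by rw [e]; group
          _ = F.a := by rw [hca, Frame.conj_of_commute (elt_fix D v).1]
    rw [D.g_a] at hh
    have e' : F.z = 1 := mul_left_cancel (hh.trans (mul_one F.a).symm)
    rw [← F.ev_gens.2.2.1, ← F.ev_zero] at e'
    exact absurd (F.ev_inj e') (by decide)
  have hinv2 : ∀ x : extend (Th D) c hnc hc2, f1 ⟨D.g * x * D.g⁻¹, hn2 x x.2⟩ = f1 x := by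
    intro x
    have hi := hom_conj D (gN D) m fun r => by rw [gL]; exact hsig r
    rcases x.2 with hx | hx
    · rw [f1val x ⟨_, hx⟩ (Or.inl rfl), f1val _ ⟨_, (gN D).conj_mem hx⟩ (Or.inl rfl)]
      exact hi ⟨_, hx⟩
    · rw [f1val x ⟨_, hx⟩ (Or.inr (inv_mul_cancel_right _ _).symm),
        f1val _ (⟨_, (gN D).conj_mem hx⟩ * γ) (Or.inr ?_), map_mul, hom_eq_one D m γ hγpar, mul_one]
      · exact hi ⟨_, hx⟩
      · change D.g * x.1 * D.g⁻¹ = D.g * (x.1 * c⁻¹) * D.g⁻¹ * (γ : G) * c
        rw [mul_assoc _ (γ : G), ← hγ]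
        group
  have hconst : ∀ x x' : extend (Th D) c hnc hc2, IsConj F.t ((x : G) * D.g) → IsConj F.t ((x' : G) * D.g) →
      f1 x = f1 x' := by
    intro x x' a b
    rcases x.2 with hx | hx
    · exact absurd a (no_conj_g D ⟨_, hx⟩)
    rcases x'.2 with hx' | hx'
    · exact absurd b (no_conj_g D ⟨_, hx'⟩)
    rw [f1val x ⟨_, hx⟩ (Or.inr (inv_mul_cancel_right _ _).symm),
      f1val x' ⟨_, hx'⟩ (Or.inr (inv_mul_cancel_right _ _).symm)]
    refine hom_eq D m (hout _ _ ?_ ?_)
    · change IsConj F.t (x.1 * c⁻¹ * (c * D.g))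
      rwa [← mul_assoc, inv_mul_cancel_right]
    · change IsConj F.t (x'.1 * c⁻¹ * (c * D.g))
      rwa [← mul_assoc, inv_mul_cancel_right]
  obtain ⟨f2, -, f2cnt, -⟩ := step_const F.t f1 (g := D.g) hn2 hg2 hgK hinv2
    (by rw [f1val _ ⟨_, hsq_mem D⟩ (Or.inl rfl)]; exact hom_eq_one D m _ (by rw [rho_hsq]; exact hm8)) hconst
  -- the coset of the new element
  let p : Fin 16 → Bool := fun r => decide (IsConj F.t (elt D (lift r) * c)) && par m r
  have hfix0 : ∀ k : Fin 32, (k = 0 ∨ k = 2 ∨ k = 4 ∨ k = 6) → Commute c (F.ev k) := by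
    intro k hk
    have c1 : Commute c F.a := Frame.commute_of_conj hca
    have c2 : Commute c F.z := Frame.commute_of_conj A.zz
    obtain ⟨ht, ha, hz, haz, hp, hq⟩ := F.ev_gens
    rcases hk with rfl | rfl | rfl | rfl
    · rw [F.ev_zero]; exact Commute.one_right _
    · rwa [ha]
    · rwa [hz]
    · rw [haz]; exact c1.mul_right c2
  have hrow : ∀ x : Th D, IsConj F.t ((x : G) * c) ↔ IsConj F.t (elt D (lift (rho D x)) * c) := by
    intro x
    obtain ⟨k, hk, e⟩ := exists_zeta D x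
    have hcm : Commute (elt D (lift (rho D x)) * c) (F.ev k) :=
      (zeta_comm D hk ⟨_, elt_mem D _⟩).mul_left (hfix0 k hk)
    have hk2 : F.ev k * F.ev k = 1 := by
      rw [← F.ev_mul, (by decide +kernel : ∀ k : Fin 32, k = 0 ∨ k = 2 ∨ k = 4 ∨ k = 6 → mulT k k = 0) k hk,
        F.ev_zero]
    rw [e, mul_assoc _ (F.ev k), ← (hfix0 k hk).eq, ← mul_assoc]
    constructor
    · intro hu
      have := conj_mul_zeta D hu hk (hcm.mul_left (Commute.refl _))
      rwa [mul_assoc, hk2, mul_one] at this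
    · exact fun hu => conj_mul_zeta D hu hk hcm
  have htr : ∀ s r : Fin 16, p r = true → p (radd r (radd s (L s))) = true := by
    intro s r hr
    simp only [p, Bool.and_eq_true, decide_eq_true_eq] at hr ⊢
    refine ⟨?_, by rw [par_radd, par_radd, hLinv, Bool.xor_self, Bool.xor_false, hr.2]⟩
    let w : Th D := ⟨elt D (lift s), elt_mem D _⟩
    let y : Th D := w * ⟨elt D (lift r), elt_mem D _⟩ * ⟨c * (w⁻¹ : Th D).1 * c⁻¹, A.conj_mem (w⁻¹).2⟩
    have e : (y : G) * c = elt D (lift s) * (elt D (lift r) * c) * (elt D (lift s))⁻¹ := by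
      change elt D (lift s) * elt D (lift r) * (c * (elt D (lift s))⁻¹ * c⁻¹) * c = _
      group
    have hy : rho D y = radd r (radd s (L s)) := by
      rw [rho_mul, rho_mul, A.row_conj, rho_inv, rho_elt, rho_elt, row_lift, row_lift, hL, radd_comm s r,
        radd_assoc]
    rw [← hy, ← hrow, e, isConj_conj_iff]
    exact hr.1
  obtain ⟨j, hj⟩ := four_dvd (Finset.univ.filter fun r => p r = true) _ _ hd1 hd2 hd12
    (fun r hr => by simpa using htr s1 r (by simpa using hr))
    (fun r hr => by simpa using htr s2 r (by simpa using hr))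
  have hN : Nat.card {x : Th D // IsConj F.t ((x : G) * c) ∧ hom D m x * 1 ≠ 1} = 16 * j := by
    have e : Nat.card {x : Th D // IsConj F.t ((x : G) * c) ∧ hom D m x * 1 ≠ 1}
        = Nat.card {x : Th D // p (rho D x) = true} := by
      refine Nat.card_congr (Equiv.subtypeEquivRight fun x => ?_)
      rw [hrow, mul_one, hom_ne]
      simp [p]
    rw [e, count_rows, hj]; ring
  refine index_two_of_cnt F _ f2 8 ((Finset.univ.filter fun r => (o D r && par m r) = true).card / 2 + 2 * j) ?_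
    (Nat.odd_iff.mpr (by omega)) ?_
  · rw [card_extend hgK, card_extend hcT, card_Th]
  · rw [f2cnt]
    unfold cnt
    rw [count_extend hcT F.t (hom D m) f1 f1res 1 f1out, hN]
    have := cnt_hom D m
    unfold cnt at this
    rw [this]
    omega

/-- The square of the third element, in rows. -/
theorem pi_sq [Finite G] :
    F.x * h D * F.x⁻¹ * (F.x * h D * F.x⁻¹) = if D.s = 0 then 1 else F.ev 14 := by
  obtain ⟨ht, ha, hz, haz, hp, hq⟩ := F.ev_gens
  have e : F.x * h D * F.x⁻¹ * (F.x * h D * F.x⁻¹) = F.x * F.ev D.s * F.x⁻¹ := by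
    rw [← D.h_sq]; simp only [h]; group
  rw [e]
  rcases D.hs with hs | hs <;> rw [hs]
  · rw [if_pos rfl, F.ev_zero]; group
  · rw [if_neg (by decide), hz, F.conj_z, ← hp, ← hz, ← ha, ← F.ev_mul, ← F.ev_mul]
    exact F.ev_rel (by decide +kernel)

theorem case_one [Finite G] (hs : D.s = 0) (hrows : ∀ r, o D r = ([1, 3, 5, 15] : List (Fin 16)).contains r) :
    ∃ H : Subgroup G, H.index = 2 := by
  obtain ⟨A, pa, -, -⟩ := piN D
  obtain ⟨B, pa'⟩ := pi'N D
  have hA : ∀ r, A.L r = lin 3 2 12 8 r :=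
    piL D _ hrows 12 8 (by rw [hs]; decide +kernel)
  have hB : ∀ r, B.L r = sig (lin 3 2 12 8 (sig r)) := pi'L D _ hA
  let π := F.x * h D * F.x⁻¹
  let π' := D.g * π * D.g⁻¹
  have hL : ∀ r, (A.mul B).L r = lin 15 10 12 8 r := by
    intro r
    rw [Nrm.L_mul A B, hA, hB]
    exact (by decide +kernel : ∀ r, lin 3 2 12 8 (sig (lin 3 2 12 8 (sig r))) = lin 15 10 12 8 r) r
  have h2 : π * π = 1 := by rw [pi_sq, if_pos hs]
  have h2' : π' * π' = 1 := by
    calc π' * π' = D.g * (π * π) * D.g⁻¹ := by simp only [π']; group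
      _ = 1 := by rw [h2]; group
  refine second_step D (A.mul B) ?_ _ hL 6 (by decide +kernel) (by decide +kernel) (by decide +kernel)
    (by decide +kernel) (by decide +kernel) (by decide +kernel) (by decide +kernel) (by decide +kernel)
    1 2 (by decide +kernel) (by decide +kernel) (by decide +kernel) ?_ ?_
  · change π * π' * F.a * (π * π')⁻¹ = F.a
    calc _ = π * (π' * F.a * π'⁻¹) * π⁻¹ := by group
      _ = F.a := by rw [show π' * F.a * π'⁻¹ = F.a from pa']; exact pa
  · rw [card_of_rows D _ 6 hrows]; decide +kernel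
  · intro x x' hx _
    exfalso
    have hh : π⁻¹ * h D * π * (h D)⁻¹ ∈ Th D :=
      (Th D).mul_mem (A.inv_conj_mem (show h D ∈ Th D from hsq_mem D))
        ((Th D).inv_mem (show h D ∈ Th D from hsq_mem D))
    have h8 : h D ∈ Th D := hsq_mem D
    have e : π * π' * D.g * (π * π' * D.g) = π * (π' * π') * (h D * π * (h D)⁻¹) * h D := by
      simp only [π', π, h]; group
    rw [h2', mul_one] at e
    have e2 : π * π' * D.g * (π * π' * D.g) = (π * π) * (π⁻¹ * h D * π * (h D)⁻¹) * h D := by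
      rw [e]; group
    rw [h2, one_mul] at e2
    have hm : π * π' * D.g * (π * π' * D.g) ∈ Th D := by rw [e2]; exact (Th D).mul_mem hh h8
    have hr : rho D ⟨π * π' * D.g * (π * π' * D.g), hm⟩ = 8 := by
      rw [rho_of_eq D hm ((Th D).mul_mem hh h8) e2]
      have e3 : (⟨π⁻¹ * h D * π * (h D)⁻¹ * h D, (Th D).mul_mem hh h8⟩ : Th D) =
          ⟨π⁻¹ * h D * π, A.inv_conj_mem h8⟩ := Subtype.ext (inv_mul_cancel_right _ _)
      rw [e3]
      have e4 := A.row_conj ⟨π⁻¹ * h D * π, A.inv_conj_mem h8⟩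
      rw [hA, rho_of_eq D _ (hsq_mem D) (by change π * (π⁻¹ * h D * π) * π⁻¹ = D.g * D.g; simp only [h]; group),
        rho_hsq] at e4
      exact (by decide +kernel : ∀ r, 8 = lin 3 2 12 8 r → r = 8) _ e4
    have := row_coset_sq D ((A.mul B).mul (gN D)) hm x hx
    rw [hr, Nrm.L_mul (A.mul B) (gN D), gL, hL] at this
    exact (by decide +kernel : ∀ r, radd (radd r (lin 15 10 12 8 (sig r))) 8 ≠ 0) _ this

theorem case_three [Finite G] (hs : D.s = 4)
    (hrows : ∀ r, o D r = ([1, 3, 5, 9, 11, 13] : List (Fin 16)).contains r) :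
    ∃ H : Subgroup G, H.index = 2 := by
  obtain ⟨A, pa, -, -⟩ := piN D
  obtain ⟨B, pa'⟩ := pi'N D
  have hA : ∀ r, A.L r = lin 3 2 14 8 r :=
    piL D _ hrows 14 8 (by rw [hs]; decide +kernel)
  have hB : ∀ r, B.L r = sig (lin 3 2 14 8 (sig r)) := pi'L D _ hA
  let π := F.x * h D * F.x⁻¹
  let π' := D.g * π * D.g⁻¹
  let C := (A.mul B).mul A
  have hL : ∀ r, C.L r = lin 9 4 2 8 r := by
    intro r
    rw [Nrm.L_mul (A.mul B) A, Nrm.L_mul A B, hA, hB, hA]
    exact (by decide +kernel : ∀ r, lin 3 2 14 8 (sig (lin 3 2 14 8 (sig (lin 3 2 14 8 r)))) = lin 9 4 2 8 r) r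
  refine second_step D C ?_ _ hL 1 (by decide +kernel) (by decide +kernel) (by decide +kernel)
    (by decide +kernel) (by decide +kernel) (by decide +kernel) (by decide +kernel) (by decide +kernel)
    1 2 (by decide +kernel) (by decide +kernel) (by decide +kernel) ?_ ?_
  · change π * π' * π * F.a * (π * π' * π)⁻¹ = F.a
    calc _ = π * (π' * (π * F.a * π⁻¹) * π'⁻¹) * π⁻¹ := by group
      _ = F.a := by rw [show π * F.a * π⁻¹ = F.a from pa, show π' * F.a * π'⁻¹ = F.a from pa']; exact pa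
  · rw [card_of_rows D _ 1 hrows]; decide +kernel
  · intro x x' hx hx'
    have hmem : ∀ y : Th D, IsConj F.t ((y : G) * (π * π' * π * D.g)) →
        π * π' * π * D.g * (π * π' * π * D.g) ∈ Th D := by
      intro y hy
      have e := sq_of_isConj F.t_sq hy
      have : π * π' * π * D.g * (π * π' * π * D.g) =
          ((y : G) * (π * π' * π * D.g * y.1 * (π * π' * π * D.g)⁻¹))⁻¹ := by
        refine eq_inv_of_mul_eq_one_right ?_
        rw [← e]; group
      rw [this]
      exact (Th D).inv_mem ((Th D).mul_mem y.2 ((C.mul (gN D)).conj_mem y.2))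
    have r1 := row_coset_sq D (C.mul (gN D)) (hmem x hx) x hx
    have r2 := row_coset_sq D (C.mul (gN D)) (hmem x hx) x' hx'
    rw [Nrm.L_mul C (gN D), gL, hL] at r1 r2
    exact (by decide +kernel : ∀ a b : Fin 16, radd a (lin 9 4 2 8 (sig a)) = radd b (lin 9 4 2 8 (sig b)) →
      par 1 a = par 1 b) _ _ ((eq_of_radd _ _ r1).trans (eq_of_radd _ _ r2).symm)

include D in
theorem index_two [Finite G] : ∃ H : Subgroup G, H.index = 2 := by
  rcases cfg D with h | ⟨hs, hr⟩ | ⟨hs, hr⟩
  · exact h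
  · exact case_one D hs hr
  · exact case_three D hs hr

end Fake

namespace Frame

variable {G : Type*} [Group G] (F : Frame G)

/-- The fake case. -/
theorem index_two_fake [Finite G] (hF : F.Twisted)
    (hA : ¬ ∃ g : G, g * F.a * g⁻¹ = F.a ∧ g * F.z * g⁻¹ = F.z ∧ g * F.t * g⁻¹ = F.t * F.a) :
    ∃ H : Subgroup G, H.index = 2 := by
  obtain ⟨D⟩ := exists_FKData hF hA
  exact Fake.index_two D

end Frame

end CfsgLib.InvCentS6
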