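import Cfsg.Agent.Lib.InvCentS6.Class

/-!
Canonical elements moving `t` to `ta` and `tb` in the nonfake case.
-/

set_option autoImplicit false

namespace CfsgLib.InvCentS6

variable {G : Type*} [Group G]

/-- An involution moving `t` to `ta`, normalised against the frame. -/
structure HA (F : Frame G) (h : G) (al : Bool) : Prop where
  sq : h * h = 1
  ca : h * F.a * h⁻¹ = F.a
  cz : h * F.z * h⁻¹ = F.z
  cq : h * F.q * h⁻¹ = F.q
  cy : h * F.y * h⁻¹ = F.y
  ht : h * F.t * h⁻¹ = F.t * F.a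
  hp : h * F.p * h⁻¹ = if al then F.p * F.a else F.p

namespace Frame

variable {F : Frame G}

/-- Conjugation by `y` on the part of the Sylow subgroup avoiding `p`. -/
def phiY (v : Fin 32) : Fin 32 := subT 1 2 16 0 (mulT 16 4) v

theorem conj_y {v : Fin 32} (hv : v.val.testBit 3 = false) : F.y * F.ev v * F.y⁻¹ = F.ev (phiY v) := by
  obtain ⟨ht, ha, hz, haz, hp, hq⟩ := F.ev_gens
  rw [F.conj_word, F.y_t, F.y_a, F.y_z, F.y_q, ← ht, ← hq, ← hz, ← ha, ← F.ev_mul, phiY, subT, ← F.word_ev]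
  simp only [word, bitPow, hv, Bool.false_eq_true, if_false]

theorem bit3_of_commute_q {v : Fin 32} (h : Commute (F.ev v) F.q) : v.val.testBit 3 = false := by
  rw [← F.ev_gens.2.2.2.2.2, F.ev_commute_iff] at h
  exact (by decide +kernel : ∀ v : Fin 32, mulT v 16 = mulT 16 v → v.val.testBit 3 = false) v h

theorem commute_of_conj {g u : G} (h : g * u * g⁻¹ = u) : Commute g u := mul_inv_eq_iff_eq_mul.mp h

theorem conj_of_commute {g u : G} (h : Commute g u) : g * u * g⁻¹ = u := by rw [h.eq, mul_inv_cancel_right]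

theorem commute_conj {c u v : G} (h : Commute u v) : Commute (c * u * c⁻¹) (c * v * c⁻¹) :=
  (commute_iff_eq _ _).mpr (by rw [← conj_mul, h.eq, conj_mul])

/-- An element of order three commuting with `t` and `a` and moving `z` as `y` does is conjugate to `y`. -/
theorem exists_conj_y {w : G} (h1 : Commute w F.t) (h2 : Commute w F.a) (hz : w * F.z * w⁻¹ = F.q)
    (hq : w * F.q * w⁻¹ = F.q * F.z) (h3 : w * w * w = 1) :
    ∃ u : Fin 32, u ∈ ([0, 4, 16, 20] : List (Fin 32)) ∧ F.ev u * F.y * (F.ev u)⁻¹ = w := by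
  have hyt := commute_of_conj F.y_t
  have hya := commute_of_conj F.y_a
  have b1 : F.y⁻¹ * F.q * F.y = F.z := by rw [← F.y_z]; group
  have b0 : F.y⁻¹ * F.z * F.y = F.q * F.z := by
    have e : F.y * (F.q * F.z) * F.y⁻¹ = F.z := by
      rw [conj_mul, F.y_q, F.y_z, mul_assoc F.q, F.czq, ← mul_assoc, F.q_sq, one_mul]
    calc F.y⁻¹ * F.z * F.y = F.y⁻¹ * (F.y * (F.q * F.z) * F.y⁻¹) * F.y := by rw [e]
      _ = F.q * F.z := by group
  have hwz : w * (F.q * F.z) * w⁻¹ = F.z := by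
    rw [conj_mul, hz, hq, mul_assoc F.q, F.czq, ← mul_assoc, F.q_sq, one_mul]
  obtain ⟨v, hv⟩ := F.mem_T (w * F.y⁻¹) (h1.mul_left hyt.inv_left) (h2.mul_left hya.inv_left)
    (commute_of_conj (by
      calc w * F.y⁻¹ * F.z * (w * F.y⁻¹)⁻¹ = w * (F.y⁻¹ * F.z * F.y) * w⁻¹ := by group
        _ = F.z := by rw [b0, hwz]))
  have hvq : Commute (F.ev v) F.q := by
    rw [show F.ev v = w * F.y⁻¹ from hv.symm]
    exact commute_of_conj (by
      calc w * F.y⁻¹ * F.q * (w * F.y⁻¹)⁻¹ = w * (F.y⁻¹ * F.q * F.y) * w⁻¹ := by group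
        _ = F.q := by rw [b1, hz])
  have v3 := bit3_of_commute_q hvq
  have v3' : (phiY v).val.testBit 3 = false :=
    (by decide +kernel : ∀ v : Fin 32, v.val.testBit 3 = false → (phiY v).val.testBit 3 = false) v v3
  have hw : w = F.ev v * F.y := by rw [show F.ev v = w * F.y⁻¹ from hv.symm]; group
  have hn : mulT (mulT v (phiY v)) (phiY (phiY v)) = 0 := F.ev_inj (by
    rw [F.ev_mul, F.ev_mul, F.ev_zero, ← conj_y v3', ← conj_y v3]
    calc _ = F.ev v * F.y * (F.ev v * F.y) * (F.ev v * F.y) * (F.y * F.y * F.y)⁻¹ := by group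
      _ = 1 := by rw [← hw, h3, F.y_cube]; group)
  obtain ⟨u, hu, he⟩ := (by decide +kernel : ∀ v : Fin 32, v.val.testBit 3 = false →
    mulT (mulT v (phiY v)) (phiY (phiY v)) = 0 →
    ∃ u : Fin 32, u ∈ ([0, 4, 16, 20] : List (Fin 32)) ∧ mulT u (phiY u) = v) v v3 hn
  have u3 : u.val.testBit 3 = false ∧ invT u = u :=
    (by decide +kernel : ∀ u : Fin 32, u ∈ ([0, 4, 16, 20] : List (Fin 32)) →
      u.val.testBit 3 = false ∧ invT u = u) u hu
  refine ⟨u, hu, ?_⟩
  rw [F.ev_inv, u3.2, hw, ← he, F.ev_mul, ← conj_y u3.1]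
  group

theorem Twisted.mirror (hF : F.Twisted) : F.mirror.Twisted := by
  intro w hw
  have hev : F.mirror.ev w = F.ev (subT 1 6 4 (mulT 16 6) (mulT 8 2) w) := by
    obtain ⟨ht, ha, hz, haz, hp, hq⟩ := F.ev_gens
    change word F.t (F.a * F.z) F.z (F.q * (F.a * F.z)) (F.p * F.a) w = _
    rw [← ht, ← haz, ← hq, ← hz, ← ha, ← hp, ← F.ev_mul, ← F.ev_mul, F.word_ev]
    rfl
  have key : ∀ w : Fin 32, w < 8 → subT 1 6 4 (mulT 16 6) (mulT 8 2) w < 8 ∧
      (subT 1 6 4 (mulT 16 6) (mulT 8 2) w).val.testBit 0 = w.val.testBit 0 := by decide +kernel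
  change IsConj F.t (F.mirror.ev w) ↔ _
  rw [hev, hF _ (key w hw).1, (key w hw).2]

/-- The canonical element. -/
theorem exists_HA [Finite G] (hF : F.Twisted)
    (hA : ∃ g : G, g * F.a * g⁻¹ = F.a ∧ g * F.z * g⁻¹ = F.z ∧ g * F.t * g⁻¹ = F.t * F.a) :
    ∃ (h : G) (al : Bool), HA F h al := by
  obtain ⟨ht, ha, hz, haz, hp, hq⟩ := F.ev_gens
  -- make `q` fixed
  obtain ⟨g, ga, gz, gt, gq⟩ : ∃ g : G, g * F.a * g⁻¹ = F.a ∧ g * F.z * g⁻¹ = F.z ∧ g * F.t * g⁻¹ = F.t * F.a ∧
      g * F.q * g⁻¹ = F.q := by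
    obtain ⟨g, ga, gz, gt⟩ := hA
    have hw1 : Commute (g * F.y * g⁻¹) F.t := by
      have e1 := (commute_conj (c := g) (commute_of_conj F.y_t)).mul_right (commute_conj (c := g) (commute_of_conj F.y_a))
      rw [gt, ga, mul_assoc F.t, F.a_sq, mul_one] at e1
      exact e1
    have hw2 : Commute (g * F.y * g⁻¹) F.a := by
      have e1 := commute_conj (c := g) (commute_of_conj F.y_a)
      rwa [ga] at e1
    have hwz : g * F.y * g⁻¹ * F.z * (g * F.y * g⁻¹)⁻¹ = g * F.q * g⁻¹ := by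
      have hz' : g⁻¹ * F.z * g = F.z := by
        calc g⁻¹ * F.z * g = g⁻¹ * (g * F.z * g⁻¹) * g := by rw [gz]
          _ = F.z := by group
      calc _ = g * (F.y * (g⁻¹ * F.z * g) * F.y⁻¹) * g⁻¹ := by group
        _ = _ := by rw [hz', F.y_z]
    have hc : Commute (g * F.q * g⁻¹) F.z := by
      have e1 := commute_conj (c := g) (show Commute F.q F.z from F.czq.symm)
      rwa [gz] at e1
    rcases F.tri_a _ hw1 hw2 (by rw [hwz]; exact hc) with e | e | e <;> rw [hwz] at e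
    · exfalso
      have e2 : F.q = F.z := mul_left_cancel (mul_right_cancel (e.trans gz.symm))
      rw [← hq, ← hz] at e2
      exact absurd (F.ev_inj e2) (by decide)
    · exact ⟨g, ga, gz, gt, e⟩
    · refine ⟨F.p * g, ?_, ?_, ?_, ?_⟩
      all_goals rw [show ∀ u : G, F.p * g * u * (F.p * g)⁻¹ = F.p * (g * u * g⁻¹) * F.p⁻¹ from fun u => by group]
      · rw [ga]; exact conj_of_commute F.cap.symm
      · rw [gz]; exact conj_of_commute F.czp.symm
      · rw [gt, conj_mul, conj_of_commute (show Commute F.p F.t from F.ctp.symm),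
          conj_of_commute (show Commute F.p F.a from F.cap.symm)]
      · rw [e, ← hq, ← hz, ← hp, ← F.ev_mul, F.ev_conj]
        exact F.ev_rel (by decide +kernel)
  -- centralise `y`
  obtain ⟨g, ga, gz, gt, gq, gy⟩ : ∃ g : G, g * F.a * g⁻¹ = F.a ∧ g * F.z * g⁻¹ = F.z ∧
      g * F.t * g⁻¹ = F.t * F.a ∧ g * F.q * g⁻¹ = F.q ∧ g * F.y * g⁻¹ = F.y := by
    have hw1 : Commute (g * F.y * g⁻¹) F.t := by
      have e1 := (commute_conj (c := g) (commute_of_conj F.y_t)).mul_right (commute_conj (c := g) (commute_of_conj F.y_a))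
      rw [gt, ga, mul_assoc F.t, F.a_sq, mul_one] at e1
      exact e1
    have hw2 : Commute (g * F.y * g⁻¹) F.a := by
      have e1 := commute_conj (c := g) (commute_of_conj F.y_a)
      rwa [ga] at e1
    have hback : ∀ u : G, g * u * g⁻¹ = u → g⁻¹ * u * g = u := fun u h => by
      calc g⁻¹ * u * g = g⁻¹ * (g * u * g⁻¹) * g := by rw [h]
        _ = u := by group
    obtain ⟨u, hu, he⟩ := exists_conj_y hw1 hw2
      (by
        calc _ = g * (F.y * (g⁻¹ * F.z * g) * F.y⁻¹) * g⁻¹ := by group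
          _ = F.q := by rw [hback _ gz, F.y_z, gq])
      (by
        calc _ = g * (F.y * (g⁻¹ * F.q * g) * F.y⁻¹) * g⁻¹ := by group
          _ = F.q * F.z := by rw [hback _ gq, F.y_q, conj_mul, gq, gz])
      (by
        calc _ = g * (F.y * F.y * F.y) * g⁻¹ := by group
          _ = 1 := by rw [F.y_cube]; group)
    have uc : Commute (F.ev u) F.q := by
      rw [← hq]
      exact F.ev_commute ((by decide +kernel : ∀ u : Fin 32, u ∈ ([0, 4, 16, 20] : List (Fin 32)) →
        mulT u 16 = mulT 16 u) u hu)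
    refine ⟨(F.ev u)⁻¹ * g, ?_, ?_, ?_, ?_, ?_⟩
    all_goals rw [show ∀ d : G, (F.ev u)⁻¹ * g * d * ((F.ev u)⁻¹ * g)⁻¹ = (F.ev u)⁻¹ * (g * d * g⁻¹) * (F.ev u)⁻¹⁻¹
      from fun d => by group]
    · rw [ga]; exact conj_of_commute (F.ev_comm_a u).inv_left
    · rw [gz]; exact conj_of_commute (F.ev_comm_z u).inv_left
    · rw [gt, conj_mul, conj_of_commute (F.ev_comm_t u).inv_left, conj_of_commute (F.ev_comm_a u).inv_left]
    · rw [gq]; exact conj_of_commute uc.inv_left
    · rw [← he]; group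
  -- the image of `p`
  obtain ⟨al, gp⟩ : ∃ al : Bool, g * F.p * g⁻¹ = if al then F.p * F.a else F.p := by
    have c1 : Commute (g * F.p * g⁻¹) F.a := by
      have e := commute_conj (c := g) (show Commute F.p F.a from F.cap.symm)
      rwa [ga] at e
    have c2 : Commute (g * F.p * g⁻¹) F.z := by
      have e := commute_conj (c := g) (show Commute F.p F.z from F.czp.symm)
      rwa [gz] at e
    have c3 : Commute (g * F.p * g⁻¹) F.t := by
      have e := (commute_conj (c := g) (show Commute F.p F.t from F.ctp.symm)).mul_right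
        (commute_conj (c := g) (show Commute F.p F.a from F.cap.symm))
      rw [gt, ga, mul_assoc F.t, F.a_sq, mul_one] at e
      exact e
    obtain ⟨v, hv⟩ := F.mem_T _ c3 c1 c2
    change _ = F.ev v at hv
    have hinv : F.ev v * F.y * F.ev v = F.y⁻¹ := by
      calc F.ev v * F.y * F.ev v = g * F.p * g⁻¹ * (g * F.y * g⁻¹) * (g * F.p * g⁻¹) := by rw [hv, gy]
        _ = g * (F.p * F.y * F.p) * g⁻¹ := by group
        _ = (g * F.y * g⁻¹)⁻¹ := by rw [F.y_inv]; group
        _ = F.y⁻¹ := by rw [gy]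
    have v2 : mulT v v = 0 := F.ev_inj (by
      rw [F.ev_mul, ← hv, F.ev_zero, show g * F.p * g⁻¹ * (g * F.p * g⁻¹) = g * (F.p * F.p) * g⁻¹ by group, F.p_sq]
      group)
    have v0 : v.val.testBit 0 = false := by
      by_contra hne
      have hO := (hF.mem_T v).mpr ⟨v2, by simpa using hne⟩
      rw [← hv, isConj_conj_iff, ← hp, hF.mem_T] at hO
      exact absurd hO.2 (by decide)
    have v3 : v.val.testBit 3 = true := by
      by_contra hne
      have hne' : v.val.testBit 3 = false := by simpa using hne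
      have e0 : F.y⁻¹ * F.z * F.y⁻¹⁻¹ = F.q * F.z := by
        have e : F.y * (F.q * F.z) * F.y⁻¹ = F.z := by
          rw [conj_mul, F.y_q, F.y_z, mul_assoc F.q, F.czq, ← mul_assoc, F.q_sq, one_mul]
        calc F.y⁻¹ * F.z * F.y⁻¹⁻¹ = F.y⁻¹ * (F.y * (F.q * F.z) * F.y⁻¹) * F.y := by rw [e, inv_inv]
          _ = F.q * F.z := by group
      have e1 : F.ev v * F.y * F.ev v * F.z * (F.ev v * F.y * F.ev v)⁻¹ = F.q := by
        calc _ = F.ev v * (F.y * (F.ev v * F.z * (F.ev v)⁻¹) * F.y⁻¹) * (F.ev v)⁻¹ := by group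
          _ = F.q := by
            rw [conj_of_commute (F.ev_comm_z v), F.y_z, ← hq]
            rw [F.ev_conj]
            exact F.ev_rel ((by decide +kernel : ∀ v : Fin 32, v.val.testBit 3 = false →
              mulT (mulT v 16) (invT v) = 16) v hne')
      rw [hinv, e0] at e1
      rw [← hq, ← hz, ← F.ev_mul] at e1
      exact absurd (F.ev_inj e1) (by decide +kernel)
    have hr : phiY (mulT v 8) = mulT v 8 := F.ev_inj (by
      rw [← conj_y ((by decide +kernel : ∀ v : Fin 32, v.val.testBit 3 = true →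
        (mulT v 8).val.testBit 3 = false) v v3), F.ev_mul, hp]
      refine conj_of_commute ?_
      have hy' : F.y = F.ev v * (F.p * F.y * F.p) * F.ev v := by
        rw [F.y_inv, ← hinv, ← mul_assoc, ← mul_assoc, ← F.ev_mul, v2, F.ev_zero, one_mul, mul_assoc, ← F.ev_mul,
          v2, F.ev_zero, mul_one]
      have hvv : F.ev v * F.ev v = 1 := by rw [← F.ev_mul, v2, F.ev_zero]
      refine (commute_iff_eq _ _).mpr ?_
      calc F.y * (F.ev v * F.p) = F.ev v * (F.p * F.y * F.p) * (F.ev v * F.ev v) * F.p := by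
            conv_lhs => rw [hy']
            group
        _ = F.ev v * F.p * F.y * (F.p * F.p) := by rw [hvv]; group
        _ = F.ev v * F.p * F.y := by rw [F.p_sq, mul_one])
    have hv' : v = 8 ∨ v = 10 := (by decide +kernel : ∀ v : Fin 32, v.val.testBit 3 = true → v.val.testBit 0 = false →
      phiY (mulT v 8) = mulT v 8 → v = 8 ∨ v = 10) v v3 v0 hr
    rcases hv' with rfl | rfl
    · exact ⟨false, by rw [hv, hp]; rfl⟩
    · refine ⟨true, ?_⟩
      rw [hv, if_pos rfl, ← hp, ← ha, ← F.ev_mul]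
      exact F.ev_rel (by decide +kernel)
  -- the square
  have hgg : ∀ u u' : G, g * u * g⁻¹ = u' → g * g * u * (g * g)⁻¹ = g * u' * g⁻¹ := fun u u' h => by rw [← h]; group
  have s1 : Commute (g * g) F.t := commute_of_conj (by
    rw [hgg _ _ gt, conj_mul, gt, ga, mul_assoc F.t, F.a_sq, mul_one])
  obtain ⟨r, hr⟩ := F.mem_T (g * g) s1 (commute_of_conj (by rw [hgg _ _ ga, ga]))
    (commute_of_conj (by rw [hgg _ _ gz, gz]))
  change _ = F.ev r at hr
  have rq : Commute (F.ev r) F.q := by rw [← hr]; exact commute_of_conj (by rw [hgg _ _ gq, gq])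
  have ry : phiY r = r := F.ev_inj (by
    rw [← conj_y (bit3_of_commute_q rq)]
    refine conj_of_commute ?_
    rw [← hr]; exact (commute_of_conj (by rw [hgg _ _ gy, gy])).symm)
  have r03 : r = 0 ∨ r = 1 ∨ r = 2 ∨ r = 3 := (by decide +kernel : ∀ r : Fin 32, r.val.testBit 3 = false →
    phiY r = r → r = 0 ∨ r = 1 ∨ r = 2 ∨ r = 3) r (bit3_of_commute_q rq) ry
  have rfix : g * F.ev r * g⁻¹ = F.ev r := by rw [← hr]; group
  have r02 : r = 0 ∨ r = 2 := by
    rcases r03 with h | h | h | h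
    · exact Or.inl h
    · exfalso
      rw [h, ht, gt, ← ht, ← ha, ← F.ev_mul] at rfix
      exact absurd (F.ev_inj rfix) (by decide +kernel)
    · exact Or.inr h
    · exfalso
      rw [h, show (3 : Fin 32) = mulT 1 2 by decide +kernel, F.ev_mul, ht, ha, conj_mul, gt, ga, mul_assoc F.t,
        F.a_sq, mul_one, ← ht, ← ha, ← F.ev_mul] at rfix
      exact absurd (F.ev_inj rfix) (by decide +kernel)
  rcases r02 with rfl | rfl
  · exact ⟨g, al, ⟨by rw [hr, F.ev_zero], ga, gz, gq, gy, gt, gp⟩⟩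
  · have hd : ∀ u u' : G, g * u * g⁻¹ = u' → F.t * g * u * (F.t * g)⁻¹ = F.t * u' * F.t⁻¹ :=
      fun u u' h => by rw [← h]; group
    have ctu : ∀ u : G, F.t * u = u * F.t → F.t * u * F.t⁻¹ = u := fun u h => conj_of_commute h
    refine ⟨F.t * g, al, ⟨?_, ?_, ?_, ?_, ?_, ?_, ?_⟩⟩
    · calc F.t * g * (F.t * g) = F.t * (g * F.t * g⁻¹) * (g * g) := by group
        _ = F.t * (F.t * F.a) * F.a := by rw [gt, hr, ha]
        _ = 1 := by rw [← mul_assoc, F.t_sq, one_mul, F.a_sq]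
    · rw [hd _ _ ga, ctu _ F.cta]
    · rw [hd _ _ gz, ctu _ F.ctz]
    · rw [hd _ _ gq, ctu _ F.ctq]
    · rw [hd _ _ gy]; exact ctu _ (commute_of_conj F.y_t).symm.eq
    · rw [hd _ _ gt, ← mul_assoc, F.t_sq, one_mul, inv_eq_of_mul_eq_one_right F.t_sq, F.cta]
    · rw [hd _ _ gp]
      cases al
      · exact ctu _ F.ctp
      · refine ctu _ ?_
        rw [if_pos rfl, ← hp, ← ha, ← ht, ← F.ev_mul, ← F.ev_mul, ← F.ev_mul]
        exact F.ev_rel (by decide +kernel)

end Frame

end CfsgLib.InvCentS6
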