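import Cfsg.Agent.Lib.InvCentS6.FusionCases
import Cfsg.Agent.Lib.InvCentS6.NonFake

/-!
The fake case: no element fixing the central four-group moves `t` to `ta`.
-/

set_option autoImplicit false

namespace CfsgLib.InvCentS6

variable {G : Type*} [Group G]

/-- The data of the fake case: an element inducing a four-cycle on the central conjugates of `t`. -/
structure FKData (F : Frame G) where
  /-- the normalising element -/
  g : G
  /-- its fourth power -/
  s : Fin 32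
  hs : s = 0 ∨ s = 4
  g_t : g * F.t * g⁻¹ = F.t * F.a
  g_a : g * F.a * g⁻¹ = F.a * F.z
  g_z : g * F.z * g⁻¹ = F.z
  g_p : ∃ k : Fin 32, (k = 0 ∨ k = 2 ∨ k = 4 ∨ k = 6) ∧ g * F.p * g⁻¹ = F.ev (Frame.subT 0 2 4 0 0 k) * F.q
  g_q : ∃ k : Fin 32, (k = 0 ∨ k = 2 ∨ k = 4 ∨ k = 6) ∧ g * F.q * g⁻¹ = F.ev (Frame.subT 0 2 4 0 0 k) * F.p
  h_p : g * g * F.p * (g * g)⁻¹ = F.p
  h_q : g * g * F.q * (g * g)⁻¹ = F.q
  h_sq : g * g * (g * g) = F.ev s
  notA : ∀ r : G, r * F.a * r⁻¹ = F.a → r * F.z * r⁻¹ = F.z → r * F.t * r⁻¹ ≠ F.t * F.a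
  tw : F.Twisted

namespace Frame

variable {F : Frame G}

/-- Conjugation by an element with given map on the part of the Sylow subgroup avoiding `q`. -/
def MapsP (F : Frame G) (c : G) (f : Fin 32 → Fin 32) : Prop :=
  ∀ v : Fin 32, v.val.testBit 4 = false → c * F.ev v * c⁻¹ = F.ev (f v) ∧ (f v).val.testBit 4 = false

theorem MapsP.mul {c d : G} {f f' : Fin 32 → Fin 32} (hc : F.MapsP c f) (hd : F.MapsP d f') :
    F.MapsP (c * d) (fun v => f (f' v)) := by
  intro v hv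
  obtain ⟨h1, h2⟩ := hd v hv
  obtain ⟨h3, h4⟩ := hc _ h2
  refine ⟨?_, h4⟩
  rw [← h3, ← h1]
  group

/-- The action of `x` on the part avoiding `q`. -/
def mapX (v : Fin 32) : Fin 32 := subT 1 8 14 12 0 v

theorem mapsP_x : F.MapsP F.x mapX := by
  obtain ⟨ht, ha, hz, haz, hp, hq⟩ := F.ev_gens
  intro v hv
  refine ⟨?_, (by decide +kernel : ∀ v : Fin 32, (mapX v).val.testBit 4 = false) v⟩
  have e14 : F.p * F.z * F.a = F.ev 14 := by
    simp only [← hp, ← hz, ← ha, ← F.ev_mul]; exact F.ev_rel (by decide +kernel)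
  have e12 : F.p * F.z = F.ev 12 := by
    simp only [← hp, ← hz, ← F.ev_mul]; exact F.ev_rel (by decide +kernel)
  rw [F.conj_word, F.x_t, F.x_a, F.conj_z, e14, F.x_p, e12, ← ht, ← hp, mapX, subT, ← F.word_ev]
  simp only [word, bitPow, hv, Bool.false_eq_true, if_false]

/-- The normalising element exchanges the two noncentral four-groups. -/
theorem swap_fourgroups {n : G} {u8 u16 : Fin 32}
    (hN : ∀ v, n * F.ev v * n⁻¹ = F.ev (subT 3 6 4 u8 u16 v)) (h8 : u8 = 8 ∨ u8 = 10 ∨ u8 = 12 ∨ u8 = 14) :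
    False := by
  have hn : F.MapsP n (fun v => subT 3 6 4 u8 0 v) := by
    intro v hv
    refine ⟨?_, (by decide +kernel : ∀ u v : Fin 32, (u = 8 ∨ u = 10 ∨ u = 12 ∨ u = 14) →
      (subT 3 6 4 u 0 v).val.testBit 4 = false) u8 v h8⟩
    rw [hN]
    refine F.ev_rel ?_
    simp only [subT, hv, Bool.false_eq_true, if_false]
  have bad : ∀ (c : G) (f : Fin 32 → Fin 32), F.MapsP c f → f 1 = 1 → f 2 = 6 → False := by
    intro c f hc h1 h2
    obtain ⟨e1, -⟩ := hc 1 (by decide)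
    obtain ⟨e2, -⟩ := hc 2 (by decide)
    rw [h1, F.ev_gens.1] at e1
    rw [h2, F.ev_gens.2.1, F.ev_gens.2.2.2.1] at e2
    exact (F.a_cls c (mul_inv_eq_iff_eq_mul.mp e1)).1 e2
  have hx := mapsP_x (F := F)
  rcases h8 with rfl | rfl | rfl | rfl
  · exact bad _ _ ((((((hn.mul hx).mul hx).mul hn).mul hn).mul hn).mul hx) (by decide +kernel) (by decide +kernel)
  · exact bad _ _ (((((((hn.mul hn).mul hx).mul hn).mul hx).mul hn).mul hn).mul hx) (by decide +kernel)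
      (by decide +kernel)
  · exact bad _ _ (((((hn.mul hx).mul hn).mul hn).mul hn).mul hx) (by decide +kernel) (by decide +kernel)
  · exact bad _ _ (((((((hn.mul hx).mul hn).mul hn).mul hx).mul hn).mul hx).mul hn) (by decide +kernel)
      (by decide +kernel)

/-- A square moving `p` to `pa` gives an element fixing the centre and moving `t` to `ta`. -/
theorem exists_A_of_eta {h : G} (ht : h * F.t * h⁻¹ = F.t * F.z) (ha : h * F.a * h⁻¹ = F.a)
    (hz : h * F.z * h⁻¹ = F.z) (hp : h * F.p * h⁻¹ = F.p * F.a) :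
    ∃ r : G, r * F.a * r⁻¹ = F.a ∧ r * F.z * r⁻¹ = F.z ∧ r * F.t * r⁻¹ = F.t * F.a := by
  obtain ⟨et, ea, ez, eaz, ep, eq⟩ := F.ev_gens
  have mh : F.MapsP h (fun v => subT 5 2 4 10 0 v) := by
    intro v hv
    refine ⟨?_, (by decide +kernel : ∀ v : Fin 32, (subT 5 2 4 10 0 v).val.testBit 4 = false) v⟩
    have e5 : F.t * F.z = F.ev 5 := by
      rw [← et, ← ez, ← F.ev_mul]; exact F.ev_rel (by decide +kernel)
    have e10 : F.p * F.a = F.ev 10 := by
      rw [← ep, ← ea, ← F.ev_mul]; exact F.ev_rel (by decide +kernel)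
    simp only
    rw [F.conj_word, ht, ha, hz, hp, e5, e10, ← ea, ← ez, subT, ← F.word_ev]
    simp only [word, bitPow, hv, Bool.false_eq_true, if_false]
  have hm := ((mh.mul (mapsP_x (F := F))).mul mh).mul (mapsP_x (F := F))
  let c := h * F.x * h * F.x
  have back : ∀ v w : Fin 32, v.val.testBit 4 = false →
      subT 5 2 4 10 0 (mapX (subT 5 2 4 10 0 (mapX v))) = w → c⁻¹ * F.ev w * c = F.ev v := by
    intro v w hv e
    have := (hm v hv).1
    simp only [e] at this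
    rw [← this]
    simp only [c]
    group
  have fwd : ∀ v w : Fin 32, v.val.testBit 4 = false →
      subT 5 2 4 10 0 (mapX (subT 5 2 4 10 0 (mapX v))) = w → c * F.ev v * c⁻¹ = F.ev w := by
    intro v w hv e
    have := (hm v hv).1
    simp only [e] at this
    rw [← this]
  have key : ∀ u v w : Fin 32, c⁻¹ * F.ev u * c = F.ev v → c * F.ev (mulT (mulT 16 v) (invT 16)) * c⁻¹ = F.ev w →
      c * F.q * c⁻¹ * F.ev u * (c * F.q * c⁻¹)⁻¹ = F.ev w := by
    intro u v w h1 h2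
    rw [← h2, ← F.ev_conj, ← h1, ← eq]
    group
  refine ⟨c * F.q * c⁻¹, ?_, ?_, ?_⟩
  · rw [← ea]
    exact key 2 4 2 (back 4 2 (by decide) (by decide +kernel)) (fwd _ _ (by decide +kernel) (by decide +kernel))
  · rw [← ez]
    exact key 4 2 4 (back 2 4 (by decide) (by decide +kernel)) (fwd _ _ (by decide +kernel) (by decide +kernel))
  · rw [← et, ← ea, ← F.ev_mul]
    exact key 1 9 _ (back 9 1 (by decide) (by decide +kernel)) (fwd _ _ (by decide +kernel) (by decide +kernel))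

/-- The data of the fake case. -/
theorem exists_FKData [Finite G] (hF : F.Twisted)
    (hA : ¬ ∃ g : G, g * F.a * g⁻¹ = F.a ∧ g * F.z * g⁻¹ = F.z ∧ g * F.t * g⁻¹ = F.t * F.a) :
    Nonempty (FKData F) := by
  obtain ⟨et, ea, ez, eaz, ep, eq⟩ := F.ev_gens
  obtain ⟨n, hn, hn1⟩ := F.exists_normz (w := 3) (by decide) ((hF 3 (by decide)).mpr (by decide))
  have h4 := img_four hn
  have hO : ∀ v, IsConj F.t (F.ev (F.img hn v)) ↔ IsConj F.t (F.ev v) := img_conj hn
  have e3 : F.ev 3 = F.t * F.a := by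
    rw [← et, ← ea, ← F.ev_mul]; exact F.ev_rel (by decide +kernel)
  have h2 : F.img hn 2 = 6 := by
    have hu : F.img hn 2 < 8 := img_center hn (by decide)
    have h0 : F.img hn 2 ≠ 0 := fun e => absurd (img_inj hn (e.trans (img_zero hn).symm)) (by decide)
    have h44 : F.img hn 2 ≠ 4 := fun e => absurd (img_inj hn (e.trans h4.symm)) (by decide)
    have hb : (F.img hn 2).val.testBit 0 = false := by
      have h := (not_congr (hO 2)).mpr (by rw [hF 2 (by decide)]; decide)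
      rw [hF _ hu] at h
      simpa using h
    rcases (by decide +kernel : ∀ u : Fin 32, u < 8 → u.val.testBit 0 = false → u = 0 ∨ u = 2 ∨ u = 4 ∨ u = 6)
      _ hu hb with e | e | e | e
    · exact absurd e h0
    · exfalso
      refine hA ⟨n, ?_, ?_, ?_⟩
      · rw [← ea, img_spec hn, e]
      · rw [← ez, img_spec hn, h4]
      · rw [← et, img_spec hn, hn1, e3, et]
    · exact absurd e h44
    · exact e
  have himg : ∀ v, F.img hn v = subT 3 6 4 (F.img hn 8) (F.img hn 16) v := fun v => F.ev_inj (by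
    rw [← img_spec hn, F.conj_word, ← et, ← ea, ← ez, ← ep, ← eq, img_spec hn, img_spec hn, img_spec hn,
      img_spec hn, img_spec hn, hn1, h2, h4, F.word_ev]
    rfl)
  have hinv : ∀ v : Fin 32, v = 8 ∨ v = 16 → mulT (F.img hn v) (F.img hn v) = 0 ∧
      (F.img hn v).val.testBit 0 = false := by
    intro v hv
    have hs := (img_sq hn v).mpr (by rcases hv with rfl | rfl <;> decide +kernel)
    refine ⟨hs, ?_⟩
    by_contra hne
    have h := (hO v).mp ((hF.mem_T _).mpr ⟨hs, by simpa using hne⟩)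
    rw [hF.mem_T] at h
    rcases hv with rfl | rfl <;> exact absurd h.2 (by decide)
  have hnc : mulT (F.img hn 8) (F.img hn 16) ≠ mulT (F.img hn 16) (F.img hn 8) := by
    rw [← img_mul hn, ← img_mul hn]
    exact fun e => absurd (img_inj hn e) (by decide +kernel)
  obtain ⟨s8, b8⟩ := hinv 8 (Or.inl rfl)
  obtain ⟨s16, b16⟩ := hinv 16 (Or.inr rfl)
  have hN : ∀ v, n * F.ev v * n⁻¹ = F.ev (subT 3 6 4 (F.img hn 8) (F.img hn 16) v) := fun v => by
    rw [img_spec hn, himg]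
  rcases (by decide +kernel : ∀ u w : Fin 32, mulT u u = 0 → u.val.testBit 0 = false → mulT w w = 0 →
      w.val.testBit 0 = false → mulT u w ≠ mulT w u →
      (u = 8 ∨ u = 10 ∨ u = 12 ∨ u = 14) ∨ ((u = 16 ∨ u = 18 ∨ u = 20 ∨ u = 22) ∧
        (w = 8 ∨ w = 10 ∨ w = 12 ∨ w = 14))) _ _ s8 b8 s16 b16 hnc with h8 | ⟨h8, h16⟩
  · exact (swap_fourgroups hN h8).elim
  -- adjust the image of `p` under the square
  obtain ⟨g, u8, u16, hg, h8, h16, heta⟩ : ∃ (g : G) (u8 u16 : Fin 32),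
      (∀ v, g * F.ev v * g⁻¹ = F.ev (subT 3 6 4 u8 u16 v)) ∧ (u8 = 16 ∨ u8 = 18 ∨ u8 = 20 ∨ u8 = 22) ∧
      (u16 = 8 ∨ u16 = 10 ∨ u16 = 12 ∨ u16 = 14) ∧
      (subT 3 6 4 u8 u16 u8 = 8 ∨ subT 3 6 4 u8 u16 u8 = 10) := by
    generalize F.img hn 8 = u8 at h8 hN
    generalize F.img hn 16 = u16 at h16 hN
    by_cases he : subT 3 6 4 u8 u16 u8 = 8 ∨ subT 3 6 4 u8 u16 u8 = 10
    · exact ⟨n, u8, u16, hN, h8, h16, he⟩
    obtain ⟨k1, k2⟩ := (by decide +kernel : ∀ u w : Fin 32, (u = 16 ∨ u = 18 ∨ u = 20 ∨ u = 22) →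
      (w = 8 ∨ w = 10 ∨ w = 12 ∨ w = 14) → ¬ (subT 3 6 4 u w u = 8 ∨ subT 3 6 4 u w u = 10) →
      (mulT w 4 = 8 ∨ mulT w 4 = 10 ∨ mulT w 4 = 12 ∨ mulT w 4 = 14) ∧
      (subT 3 6 4 u (mulT w 4) u = 8 ∨ subT 3 6 4 u (mulT w 4) u = 10)) u8 u16 h8 h16 he
    have k3 : ∀ v, subT 3 6 4 u8 u16 (mulT (mulT 8 v) (invT 8)) = subT 3 6 4 u8 (mulT u16 4) v := by
      rcases h8 with rfl | rfl | rfl | rfl <;> rcases h16 with rfl | rfl | rfl | rfl <;> decide +kernel
    refine ⟨n * F.p, u8, mulT u16 4, fun v => ?_, h8, k1, k2⟩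
    rw [← k3, ← hN, ← F.ev_conj, ← ep]
    group
  have g1 : g * F.t * g⁻¹ = F.t * F.a := by
    rw [← e3, ← et, hg]
    exact F.ev_rel ((by decide +kernel : ∀ u w, subT 3 6 4 u w 1 = 3) u8 u16)
  have g2 : g * F.a * g⁻¹ = F.a * F.z := by
    rw [← eaz, ← ea, hg]
    exact F.ev_rel ((by decide +kernel : ∀ u w, subT 3 6 4 u w 2 = 6) u8 u16)
  have g4 : g * F.z * g⁻¹ = F.z := by
    rw [← ez, hg]
    exact F.ev_rel ((by decide +kernel : ∀ u w, subT 3 6 4 u w 4 = 4) u8 u16)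
  let N : Fin 32 → Fin 32 := subT 3 6 4 u8 u16
  have gg : ∀ v, g * g * F.ev v * (g * g)⁻¹ = F.ev (N (N v)) := fun v => by
    rw [← hg (N v), ← hg v]; group
  obtain ⟨f8, f16⟩ := (by decide +kernel : ∀ u w : Fin 32, (u = 16 ∨ u = 18 ∨ u = 20 ∨ u = 22) →
    (w = 8 ∨ w = 10 ∨ w = 12 ∨ w = 14) →
    (subT 3 6 4 u w (subT 3 6 4 u w 8) = subT 3 6 4 u w u) ∧
    (subT 3 6 4 u w u = 8 → subT 3 6 4 u w (subT 3 6 4 u w 16) = 16)) u8 u16 h8 h16
  have fc : ∀ v : Fin 32, v = 1 ∨ v = 2 ∨ v = 4 → N (N v) = if v = 1 then 5 else v := fun v hv =>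
    (by decide +kernel : ∀ u w v : Fin 32, v = 1 ∨ v = 2 ∨ v = 4 →
      subT 3 6 4 u w (subT 3 6 4 u w v) = if v = 1 then 5 else v) u8 u16 v hv
  have ht : g * g * F.t * (g * g)⁻¹ = F.t * F.z := by
    rw [← et, gg, fc 1 (Or.inl rfl), ← ez, ← F.ev_mul]
    exact F.ev_rel (by decide +kernel)
  have ha : g * g * F.a * (g * g)⁻¹ = F.a := by
    rw [← ea, gg, fc 2 (Or.inr (Or.inl rfl))]; rfl
  have hz : g * g * F.z * (g * g)⁻¹ = F.z := by
    rw [← ez, gg, fc 4 (Or.inr (Or.inr rfl))]; rfl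
  rcases heta with he | he
  swap
  · exfalso
    refine hA (exists_A_of_eta ht ha hz ?_)
    rw [← ep, ← ea, gg, ← F.ev_mul]
    exact F.ev_rel ((f8.trans he).trans (by decide +kernel))
  have hp : g * g * F.p * (g * g)⁻¹ = F.p := by
    rw [← ep, gg]; exact F.ev_rel (f8.trans he)
  have hq : g * g * F.q * (g * g)⁻¹ = F.q := by
    rw [← eq, gg]; exact F.ev_rel (f16 he)
  have h22 : ∀ u u' : G, g * g * u * (g * g)⁻¹ = u' →
      g * g * (g * g) * u * (g * g * (g * g))⁻¹ = g * g * u' * (g * g)⁻¹ := fun u u' h => by rw [← h]; group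
  obtain ⟨s, hs⟩ := F.mem_T (g * g * (g * g))
    (commute_of_conj (by rw [h22 _ _ ht, conj_mul, ht, hz, mul_assoc, F.z_sq, mul_one]))
    (commute_of_conj (by rw [h22 _ _ ha, ha])) (commute_of_conj (by rw [h22 _ _ hz, hz]))
  change _ = F.ev s at hs
  have sp : mulT s 8 = mulT 8 s := F.ev_commute_iff.mp (by
    rw [← hs, ep]; exact commute_of_conj (by rw [h22 _ _ hp, hp]))
  have sq' : mulT s 16 = mulT 16 s := F.ev_commute_iff.mp (by
    rw [← hs, eq]; exact commute_of_conj (by rw [h22 _ _ hq, hq]))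
  have sfix : N s = s := F.ev_inj (by rw [← hg, ← hs]; group)
  have s04 : s = 0 ∨ s = 4 :=
    (by decide +kernel : ∀ u w s : Fin 32, mulT s 8 = mulT 8 s → mulT s 16 = mulT 16 s →
      subT 3 6 4 u w s = s → s = 0 ∨ s = 4) u8 u16 s sp sq' sfix
  have himgq : ∀ v : Fin 32, (v = 8 ∨ v = 16) → ∃ k : Fin 32, (k = 0 ∨ k = 2 ∨ k = 4 ∨ k = 6) ∧
      N v = mulT (subT 0 2 4 0 0 k) (if v = 8 then 16 else 8) := fun v hv =>
    (by decide +kernel : ∀ u w v : Fin 32, (u = 16 ∨ u = 18 ∨ u = 20 ∨ u = 22) →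
      (w = 8 ∨ w = 10 ∨ w = 12 ∨ w = 14) → (v = 8 ∨ v = 16) → ∃ k : Fin 32,
      (k = 0 ∨ k = 2 ∨ k = 4 ∨ k = 6) ∧
      subT 3 6 4 u w v = mulT (subT 0 2 4 0 0 k) (if v = 8 then 16 else 8)) u8 u16 v h8 h16 hv
  exact ⟨{ g := g
           s := s
           hs := s04
           g_t := g1
           g_a := g2
           g_z := g4
           g_p := by
            obtain ⟨k, hk, e⟩ := himgq 8 (Or.inl rfl)
            simp only [N, if_true] at e
            exact ⟨k, hk, by rw [← ep, hg, e, F.ev_mul, eq]⟩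
           g_q := by
            obtain ⟨k, hk, e⟩ := himgq 16 (Or.inr rfl)
            simp only [N, show ¬ (16 : Fin 32) = 8 by decide, if_false] at e
            exact ⟨k, hk, by rw [← eq, hg, e, F.ev_mul, ep]⟩
           h_p := hp
           h_q := hq
           h_sq := hs
           notA := fun r h1 h2 h3 => hA ⟨r, h1, h2, h3⟩
           tw := hF }⟩

end Frame

end CfsgLib.InvCentS6
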