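import Cfsg.Agent.Lib.InvCentS6.Fusion

/-!
Extension steps for transfer: subgroups grown by one element at a time.
-/

set_option autoImplicit false

namespace CfsgLib.InvCentS6

variable {G : Type*} [Group G]

/-- Number of conjugates of `t` in a subgroup with nontrivial value. -/
noncomputable def cnt (t : G) (K : Subgroup G) (f : K →* Z2) : ℕ :=
  Nat.card {x : K // IsConj t (x : G) ∧ f x ≠ 1}

/-- Extending without new contributions, when all new conjugates carry one value. -/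
theorem step_const [Finite G] (t : G) {K : Subgroup G} (f : K →* Z2) {g : G}
    (hn : ∀ h ∈ K, g * h * g⁻¹ ∈ K) (hg : g * g ∈ K) (hgK : g ∉ K)
    (hinv : ∀ h : K, f ⟨g * h * g⁻¹, hn h h.2⟩ = f h) (hsq : f ⟨g * g, hg⟩ = 1)
    (hconst : ∀ h h' : K, IsConj t ((h : G) * g) → IsConj t ((h' : G) * g) → f h = f h') :
    ∃ F : extend K g hn hg →* Z2,
      (∀ h : K, F ⟨h, le_extend h.2⟩ = f h) ∧ cnt t (extend K g hn hg) F = cnt t K f ∧
      ∀ h : K, IsConj t ((h : G) * g) → F ⟨g, self_mem_extend⟩ = f h := by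
  classical
  obtain ⟨e, he⟩ : ∃ e : Z2, ∀ h : K, IsConj t ((h : G) * g) → f h = e := by
    by_cases hx : ∃ h : K, IsConj t ((h : G) * g)
    · obtain ⟨h0, h00⟩ := hx
      exact ⟨f h0, fun h hh => hconst h h0 hh h00⟩
    · exact ⟨1, fun h hh => absurd ⟨h, hh⟩ hx⟩
  obtain ⟨F, h1, h2⟩ := exists_extend_hom hgK f hinv hsq e
  refine ⟨F, h1, ?_, fun h hh => ?_⟩
  · unfold cnt
    rw [count_extend hgK t f F h1 e h2]
    have : IsEmpty {x : K // IsConj t ((x : G) * g) ∧ f x * e ≠ 1} :=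
      ⟨fun x => x.2.2 (by rw [he x.1 x.2.1]; exact z2_mul_self e)⟩
    rw [Nat.card_eq_zero.mpr (Or.inl this), add_zero]
  · have e1 := h2 1
    simp only [OneMemClass.coe_one, one_mul, map_one] at e1
    rw [he h hh]
    exact e1

/-- Extending with trivial value on the new element. -/
theorem step_zero [Finite G] (t : G) {K : Subgroup G} (f : K →* Z2) {g : G}
    (hn : ∀ h ∈ K, g * h * g⁻¹ ∈ K) (hg : g * g ∈ K) (hgK : g ∉ K)
    (hinv : ∀ h : K, f ⟨g * h * g⁻¹, hn h h.2⟩ = f h) (hsq : f ⟨g * g, hg⟩ = 1) :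
    ∃ F : extend K g hn hg →* Z2, cnt t (extend K g hn hg) F
      = cnt t K f + Nat.card {x : K // IsConj t ((x : G) * g) ∧ f x ≠ 1} := by
  obtain ⟨F, h1, h2⟩ := exists_extend_hom hgK f hinv hsq 1
  refine ⟨F, ?_⟩
  unfold cnt
  rw [count_extend hgK t f F h1 1 h2]
  simp

/-- Transfer with a counted subgroup of two-power order. -/
theorem index_two_of_cnt [Finite G] (F : Frame G) (K : Subgroup G) (f : K →* Z2) (j m : ℕ)
    (hK : Nat.card K = 32 * j) (hm : Odd m) (hc : cnt F.t K f = j * m) :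
    ∃ H : Subgroup G, H.index = 2 := by
  obtain ⟨k, hk, hC⟩ := F.card_C
  refine index_two_of_transfer F.t F.t_sq K f (m * k) (hm.mul hk) ?_
  rw [show Nat.card {x : K // IsConj F.t (x : G) ∧ f x ≠ 1} = cnt F.t K f from rfl, hc, hC, hK]
  ring

theorem sq_of_isConj {t u : G} (ht : t * t = 1) (hu : IsConj t u) : u * u = 1 := by
  obtain ⟨c, rfl⟩ := isConj_iff.mp hu
  rw [show c * t * c⁻¹ * (c * t * c⁻¹) = c * (t * t) * c⁻¹ by group, ht]
  group

end CfsgLib.InvCentS6
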