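import Cfsg.Agent.Lib.InvCentS6.FakeData
import Cfsg.Agent.Lib.InvCentS6.Step

/-!
The stabiliser of the coset `tZ0` in the fake case, with its rows modulo `Z0`.
-/

set_option autoImplicit false

namespace CfsgLib.InvCentS6

namespace Fake

/-- Conjugation by the square of the normalising element. -/
def phiH (u : Fin 32) : Fin 32 := Frame.subT 5 2 4 8 16 u

/-- Packing coordinates. -/
def mk (u : Fin 32) (i : Bool) : Fin 64 :=
  ⟨(u.val + (if i then 32 else 0)) % 64, Nat.mod_lt _ (by norm_num)⟩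

/-- The part in the small Sylow subgroup. -/
def low (v : Fin 64) : Fin 32 := ⟨v.val % 32, Nat.mod_lt _ (by norm_num)⟩

/-- The exponent of the square of the normalising element. -/
def top (v : Fin 64) : Bool := v.val.testBit 5

/-- Multiplication in the model. -/
def mul (s : Fin 32) (v w : Fin 64) : Fin 64 :=
  mk (mulT (mulT (low v) ((if top v then phiH else id) (low w))) (if top v && top w then s else 0)) (top v ^^ top w)

/-- The row of a coordinate vector modulo `Z0`. -/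
def row (v : Fin 64) : Fin 16 := ⟨(v.val % 2 + 2 * (v.val / 8)) % 16, Nat.mod_lt _ (by norm_num)⟩

/-- A representative of a row. -/
def lift (r : Fin 16) : Fin 64 := ⟨(r.val % 2 + 8 * (r.val / 2)) % 64, Nat.mod_lt _ (by norm_num)⟩

/-- Sum of rows. -/
def radd (r s : Fin 16) : Fin 16 := ⟨(r.val ^^^ s.val) % 16, Nat.mod_lt _ (by norm_num)⟩

/-- A linear functional on rows. -/
def par (m r : Fin 16) : Bool :=
  ((m.val &&& r.val).testBit 0 ^^ (m.val &&& r.val).testBit 1) ^^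
    ((m.val &&& r.val).testBit 2 ^^ (m.val &&& r.val).testBit 3)

/-- The linear map with given images of the basis rows. -/
def lin (a1 a2 a4 a8 r : Fin 16) : Fin 16 :=
  radd (radd (radd (if r.val.testBit 0 then a1 else 0) (if r.val.testBit 1 then a2 else 0))
    (if r.val.testBit 2 then a4 else 0)) (if r.val.testBit 3 then a8 else 0)

/-- The quadratic map on rows. -/
def sqr (s : Fin 32) (r : Fin 16) : Fin 32 := low (mul s (lift r) (lift r))

theorem mk_proj : ∀ (u : Fin 32) (i : Bool), low (mk u i) = u ∧ top (mk u i) = i := by decide +kernel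

theorem mk_eta : ∀ v : Fin 64, mk (low v) (top v) = v := by decide +kernel

theorem radd_assoc : ∀ r s u : Fin 16, radd (radd r s) u = radd r (radd s u) := by decide +kernel

theorem radd_comm : ∀ r s : Fin 16, radd r s = radd s r := by decide +kernel

theorem radd_self : ∀ r : Fin 16, radd r r = 0 := by decide +kernel

theorem radd_zero : ∀ r : Fin 16, radd r 0 = r := by decide +kernel

theorem zero_radd : ∀ r : Fin 16, radd 0 r = r := by decide +kernel

theorem eq_of_radd : ∀ r s : Fin 16, radd r s = 0 → r = s := by decide +kernel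

theorem row_lift : ∀ r : Fin 16, row (lift r) = r := by decide +kernel

theorem par_radd : ∀ m r s : Fin 16, par m (radd r s) = (par m r ^^ par m s) := by decide +kernel

theorem lin_id : ∀ r : Fin 16, lin 1 2 4 8 r = r := by decide +kernel

theorem lift_split : ∀ v : Fin 64, ∃ k : Fin 32, (k = 0 ∨ k = 2 ∨ k = 4 ∨ k = 6) ∧
    low v = mulT (low (lift (row v))) k ∧ top v = top (lift (row v)) := by decide +kernel

theorem sqr_top : ∀ (s : Fin 32) (r : Fin 16), s = 0 ∨ s = 4 → top (mul s (lift r) (lift r)) = false := by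
  decide +kernel

theorem row_mul : ∀ s : Fin 32, (s = 0 ∨ s = 4) → ∀ v w, row (mul s v w) = radd (row v) (row w) := by
  intro s hs
  rcases hs with rfl | rfl <;> decide +kernel

variable {G : Type*} [Group G] {F : Frame G} (D : FKData F)

/-- The square of the normalising element. -/
def h : G := D.g * D.g

theorem h_t : h D * F.t * (h D)⁻¹ = F.t * F.z := by
  calc h D * F.t * (h D)⁻¹ = D.g * (D.g * F.t * D.g⁻¹) * D.g⁻¹ := by simp only [h]; group
    _ = F.t * F.a * (F.a * F.z) := by rw [D.g_t, Frame.conj_mul, D.g_t, D.g_a]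
    _ = _ := by rw [mul_assoc, ← mul_assoc F.a, F.a_sq, one_mul]

theorem h_a : h D * F.a * (h D)⁻¹ = F.a := by
  calc h D * F.a * (h D)⁻¹ = D.g * (D.g * F.a * D.g⁻¹) * D.g⁻¹ := by simp only [h]; group
    _ = F.a * F.z * F.z := by rw [D.g_a, Frame.conj_mul, D.g_a, D.g_z]
    _ = _ := by rw [mul_assoc, F.z_sq, mul_one]

theorem h_z : h D * F.z * (h D)⁻¹ = F.z := by
  calc h D * F.z * (h D)⁻¹ = D.g * (D.g * F.z * D.g⁻¹) * D.g⁻¹ := by simp only [h]; group
    _ = _ := by rw [D.g_z, D.g_z]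

theorem conj_h (u : Fin 32) : h D * F.ev u = F.ev (phiH u) * h D := by
  refine mul_inv_eq_iff_eq_mul.mp ?_
  obtain ⟨ht, ha, hz, haz, hp, hq⟩ := F.ev_gens
  have e5 : F.t * F.z = F.ev 5 := by rw [← ht, ← hz, ← F.ev_mul]; exact F.ev_rel (by decide +kernel)
  rw [F.conj_word, h_t, h_a, h_z, show h D * F.p * (h D)⁻¹ = F.p from D.h_p,
    show h D * F.q * (h D)⁻¹ = F.q from D.h_q, e5, ← ha, ← hz, ← hp, ← hq, F.word_ev]
  rfl

/-- The element with given coordinates. -/
def elt (v : Fin 64) : G := F.ev (low v) * if top v then h D else 1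

theorem elt_ev (u : Fin 32) : elt D (mk u false) = F.ev u := by
  simp [elt, mk_proj]

theorem elt_mul (v w : Fin 64) : elt D (mul D.s v w) = elt D v * elt D w := by
  have mA : ∀ (i : Bool) (u : Fin 32), (if i then h D else 1) * F.ev u
      = F.ev ((if i then phiH else id) u) * (if i then h D else 1) := by
    intro i u; cases i
    · simp
    · simp [conj_h]
  have mK : ∀ j k : Bool, (if j then h D else 1) * (if k then h D else 1)
      = F.ev (if j && k then D.s else 0) * (if j ^^ k then h D else 1) := by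
    intro j k; cases j <;> cases k <;> simp [F.ev_zero]
    exact D.h_sq
  unfold elt mul
  rw [(mk_proj _ _).1, (mk_proj _ _).2]
  generalize top v = i, top w = k at *
  rw [F.ev_mul, F.ev_mul]
  calc _ = F.ev (low v) * F.ev ((if i then phiH else id) (low w)) *
        (F.ev (if i && k then D.s else 0) * (if i ^^ k then h D else 1)) := by group
    _ = F.ev (low v) * (F.ev ((if i then phiH else id) (low w)) * (if i then h D else 1)) *
        (if k then h D else 1) := by rw [← mK]; group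
    _ = _ := by rw [← mA]; group

theorem elt_fix (v : Fin 64) : Commute (elt D v) F.a ∧ Commute (elt D v) F.z ∧
    elt D v * F.t * (elt D v)⁻¹ = F.t * F.ev (if top v then 4 else 0) := by
  have ch : ∀ i : Bool, Commute (if i then h D else 1) F.a ∧ Commute (if i then h D else 1) F.z ∧
      (if i then h D else 1) * F.t * (if i then h D else 1)⁻¹ = F.t * F.ev (if i then 4 else 0) := by
    intro i; cases i
    · simp [Commute.one_left, F.ev_zero]
    · simp only [if_true]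
      exact ⟨Frame.commute_of_conj (h_a D), Frame.commute_of_conj (h_z D), by rw [h_t, F.ev_gens.2.2.1]⟩
  obtain ⟨c1, c2, c3⟩ := ch (top v)
  refine ⟨(F.ev_comm_a _).mul_left c1, (F.ev_comm_z _).mul_left c2, ?_⟩
  calc elt D v * F.t * (elt D v)⁻¹ = F.ev (low v) * ((if top v then h D else 1) * F.t * (if top v then h D else 1)⁻¹)
        * (F.ev (low v))⁻¹ := by simp only [elt]; group
    _ = _ := by
      rw [c3]
      refine Frame.conj_of_commute ((F.ev_comm_t _).mul_right (F.ev_commute ?_))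
      exact (by decide +kernel : ∀ (u : Fin 32) (i : Bool),
        mulT u (if i then 4 else 0) = mulT (if i then 4 else 0) u) _ _

theorem elt_inj : Function.Injective (elt D) := by
  intro v w e
  have h1 := (elt_fix D v).2.2
  rw [e, (elt_fix D w).2.2] at h1
  have h2 := F.ev_inj (mul_left_cancel h1)
  have e1 : top v = top w :=
    (by decide +kernel : ∀ i j : Bool, (if i then (4 : Fin 32) else 0) = (if j then 4 else 0) → i = j) _ _ h2.symm
  unfold elt at e
  rw [← e1] at e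
  rw [← mk_eta v, ← mk_eta w, e1, F.ev_inj (mul_right_cancel e)]

/-- The stabiliser. -/
def Th : Subgroup G where
  carrier := Set.range (elt D)
  one_mem' := ⟨mk 0 false, by rw [elt_ev, F.ev_zero]⟩
  mul_mem' := by
    rintro _ _ ⟨v, rfl⟩ ⟨w, rfl⟩
    exact ⟨mul D.s v w, elt_mul D v w⟩
  inv_mem' := by
    rintro _ ⟨v, rfl⟩
    have hsurj : Function.Surjective (mul D.s v) :=
      Finite.injective_iff_surjective.mp fun u w e => elt_inj D (by
        have := congrArg (elt D) e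
        rwa [elt_mul, elt_mul, mul_right_inj] at this)
    obtain ⟨w, hw⟩ := hsurj (mk 0 false)
    refine ⟨w, (inv_eq_of_mul_eq_one_right ?_).symm⟩
    rw [← elt_mul, hw, elt_ev, F.ev_zero]

theorem elt_mem (v : Fin 64) : elt D v ∈ Th D := ⟨v, rfl⟩

theorem ev_mem (u : Fin 32) : F.ev u ∈ Th D := ⟨_, elt_ev D u⟩

theorem card_Th : Nat.card (Th D) = 64 := by
  have e : Nat.card (Set.range (elt D)) = Nat.card (Fin 64) :=
    (Nat.card_congr (Equiv.ofInjective _ (elt_inj D))).symm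
  rwa [Nat.card_fin] at e

include D in
/-- Nothing moves `t` to `tb` while fixing the central four-group. -/
theorem notB (r : G) (h1 : r * F.a * r⁻¹ = F.a) (h2 : r * F.z * r⁻¹ = F.z) :
    r * F.t * r⁻¹ ≠ F.t * (F.a * F.z) := by
  intro h3
  have caz : D.g * (F.a * F.z) * D.g⁻¹ = F.a := by
    rw [Frame.conj_mul, D.g_a, D.g_z, mul_assoc, F.z_sq, mul_one]
  have g_az : D.g⁻¹ * F.a * D.g = F.a * F.z := by
    calc D.g⁻¹ * F.a * D.g = D.g⁻¹ * (D.g * (F.a * F.z) * D.g⁻¹) * D.g := by rw [caz]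
      _ = _ := by group
  have g_z' : D.g⁻¹ * F.z * D.g = F.z := by
    calc D.g⁻¹ * F.z * D.g = D.g⁻¹ * (D.g * F.z * D.g⁻¹) * D.g := by rw [D.g_z]
      _ = _ := by group
  have r' : r * (F.a * F.z) * r⁻¹ = F.a * F.z := by rw [Frame.conj_mul, h1, h2]
  let c := D.g * r * D.g⁻¹
  have cinv : ∀ u u' : G, c * u * c⁻¹ = u' → c⁻¹ * u' * c⁻¹⁻¹ = u := fun u u' e => by rw [← e]; group
  have ca : c * F.a * c⁻¹ = F.a := by
    calc c * F.a * c⁻¹ = D.g * (r * (D.g⁻¹ * F.a * D.g) * r⁻¹) * D.g⁻¹ := by simp only [c]; group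
      _ = F.a := by rw [g_az, r', caz]
  have cz : c * F.z * c⁻¹ = F.z := by
    calc c * F.z * c⁻¹ = D.g * (r * (D.g⁻¹ * F.z * D.g) * r⁻¹) * D.g⁻¹ := by simp only [c]; group
      _ = F.z := by rw [g_z', h2, D.g_z]
  refine D.notA c⁻¹ (cinv _ _ ca) (cinv _ _ cz) (cinv (F.t * F.a) F.t ?_)
  calc c * (F.t * F.a) * c⁻¹ = c * (D.g * F.t * D.g⁻¹) * c⁻¹ := by rw [D.g_t]
    _ = D.g * (r * F.t * r⁻¹) * D.g⁻¹ := by simp only [c]; group
    _ = F.t := by
      rw [h3, Frame.conj_mul, D.g_t, caz, mul_assoc, F.a_sq, mul_one]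

/-- Characterisation of the stabiliser. -/
theorem mem_Th {g : G} (h1 : Commute g F.a) (h2 : Commute g F.z)
    (h3 : ∃ k : Fin 32, (k = 0 ∨ k = 2 ∨ k = 4 ∨ k = 6) ∧ g * F.t * g⁻¹ = F.t * F.ev k) : g ∈ Th D := by
  obtain ⟨k, hk, e⟩ := h3
  obtain ⟨i, rfl⟩ : ∃ i : Bool, (if i then (4 : Fin 32) else 0) = k := by
    rcases hk with rfl | rfl | rfl | rfl
    · exact ⟨false, rfl⟩
    · exact absurd (by rw [e, F.ev_gens.2.1])
        (D.notA g (Frame.conj_of_commute h1) (Frame.conj_of_commute h2))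
    · exact ⟨true, rfl⟩
    · exact absurd (by rw [e, F.ev_gens.2.2.2.1])
        (notB D g (Frame.conj_of_commute h1) (Frame.conj_of_commute h2))
  let w := elt D (mk 0 i)
  obtain ⟨wa, wz, wt⟩ := elt_fix D (mk 0 i)
  rw [(mk_proj 0 i).2] at wt
  have hc : Commute (w⁻¹ * g) F.t := Frame.commute_of_conj (by
    calc w⁻¹ * g * F.t * (w⁻¹ * g)⁻¹ = w⁻¹ * (g * F.t * g⁻¹) * w := by group
      _ = w⁻¹ * (w * F.t * w⁻¹) * w := by rw [e, wt]
      _ = F.t := by group)
  obtain ⟨u, hu⟩ := F.mem_T _ hc (wa.inv_left.mul_left h1) (wz.inv_left.mul_left h2)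
  have : g = w * F.ev u := by rw [show F.ev u = w⁻¹ * g from hu.symm, mul_inv_cancel_left]
  rw [this]
  exact (Th D).mul_mem (elt_mem D _) (ev_mem D u)

/-- The coordinate of an element. -/
noncomputable def coord : Th D ≃ Fin 64 := (Equiv.ofInjective (elt D) (elt_inj D)).symm

theorem elt_coord (g : Th D) : elt D (coord D g) = g :=
  congrArg Subtype.val ((Equiv.ofInjective (elt D) (elt_inj D)).apply_symm_apply g)

/-- The row of an element. -/
noncomputable def rho (g : Th D) : Fin 16 := row (coord D g)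

theorem rho_elt (v : Fin 64) (hv : elt D v ∈ Th D) : rho D ⟨elt D v, hv⟩ = row v :=
  congrArg row (elt_inj D (elt_coord D _))

theorem rho_mul (g g' : Th D) : rho D (g * g') = radd (rho D g) (rho D g') := by
  have : coord D (g * g') = mul D.s (coord D g) (coord D g') :=
    elt_inj D (by rw [elt_coord, elt_mul, elt_coord, elt_coord]; rfl)
  rw [rho, this, row_mul D.s D.hs]
  rfl

theorem rho_ev (u : Fin 32) : rho D ⟨F.ev u, ev_mem D u⟩ = row (mk u false) := by
  rw [show (⟨F.ev u, ev_mem D u⟩ : Th D) = ⟨elt D (mk u false), elt_mem D _⟩ from Subtype.ext (elt_ev D u).symm,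
    rho_elt]

theorem rho_one : rho D 1 = 0 := by
  have := rho_mul D 1 1
  rw [one_mul] at this
  rw [this, radd_self]

theorem rho_inv (g : Th D) : rho D g⁻¹ = rho D g := by
  refine eq_of_radd _ _ ?_
  rw [← rho_mul, inv_mul_cancel, rho_one]

theorem rho_of_eq {x y : G} (hx : x ∈ Th D) (hy : y ∈ Th D) (e : x = y) : rho D ⟨x, hx⟩ = rho D ⟨y, hy⟩ := by
  subst e; rfl

theorem rho_zeta {k : Fin 32} (hk : k = 0 ∨ k = 2 ∨ k = 4 ∨ k = 6) : rho D ⟨F.ev k, ev_mem D k⟩ = 0 := by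
  rw [rho_ev]
  exact (by decide +kernel : ∀ k : Fin 32, k = 0 ∨ k = 2 ∨ k = 4 ∨ k = 6 → row (mk k false) = 0) k hk

theorem exists_zeta (g : Th D) : ∃ k : Fin 32, (k = 0 ∨ k = 2 ∨ k = 4 ∨ k = 6) ∧
    (g : G) = elt D (lift (rho D g)) * F.ev k := by
  obtain ⟨k, hk, h1, h2⟩ := lift_split (coord D g)
  refine ⟨k, hk, ?_⟩
  have c : ∀ i : Bool, Commute (F.ev k) (if i then h D else 1) := by
    intro i; cases i
    · exact Commute.one_right _
    · refine ((commute_iff_eq _ _).mpr ?_).symm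
      rw [if_pos rfl, conj_h,
        (by decide +kernel : ∀ k : Fin 32, k = 0 ∨ k = 2 ∨ k = 4 ∨ k = 6 → phiH k = k) k hk]
  rw [← elt_coord D g]
  unfold elt
  rw [h1, h2, F.ev_mul, mul_assoc, (c _).eq, ← mul_assoc]
  rfl

theorem zeta_comm {k : Fin 32} (hk : k = 0 ∨ k = 2 ∨ k = 4 ∨ k = 6) (g : Th D) : Commute (g : G) (F.ev k) := by
  rw [← elt_coord D g]
  obtain ⟨h1, h2, -⟩ := elt_fix D (coord D g)
  obtain ⟨ht, ha, hz, haz, hp, hq⟩ := F.ev_gens
  rcases hk with rfl | rfl | rfl | rfl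
  · rw [F.ev_zero]; exact Commute.one_right _
  · rw [ha]; exact h1
  · rw [hz]; exact h2
  · rw [haz]; exact h1.mul_right h2

theorem exists_zeta_of_rho {g g' : Th D} (e : rho D g = rho D g') :
    ∃ k : Fin 32, (k = 0 ∨ k = 2 ∨ k = 4 ∨ k = 6) ∧ (g : G) = (g' : G) * F.ev k := by
  obtain ⟨k, hk, h1⟩ := exists_zeta D g
  obtain ⟨k', hk', h2⟩ := exists_zeta D g'
  refine ⟨mulT k' k, (by decide +kernel : ∀ k k' : Fin 32, (k = 0 ∨ k = 2 ∨ k = 4 ∨ k = 6) →
    (k' = 0 ∨ k' = 2 ∨ k' = 4 ∨ k' = 6) →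
    mulT k' k = 0 ∨ mulT k' k = 2 ∨ mulT k' k = 4 ∨ mulT k' k = 6) k k' hk hk', ?_⟩
  have hz : F.ev k' * F.ev k' = 1 := by
    rw [← F.ev_mul, (by decide +kernel : ∀ k : Fin 32, k = 0 ∨ k = 2 ∨ k = 4 ∨ k = 6 → mulT k k = 0) k' hk',
      F.ev_zero]
  rw [h1, h2, e, F.ev_mul, mul_assoc, ← mul_assoc (F.ev k'), hz, one_mul]

theorem sq_eq (g : Th D) : (g : G) * g = F.ev (sqr D.s (rho D g)) := by
  obtain ⟨k, hk, e⟩ := exists_zeta D g
  have hc : Commute (elt D (lift (rho D g))) (F.ev k) := zeta_comm D hk ⟨_, elt_mem D _⟩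
  have hkk : F.ev k * F.ev k = 1 := by
    rw [← F.ev_mul, (by decide +kernel : ∀ k : Fin 32, k = 0 ∨ k = 2 ∨ k = 4 ∨ k = 6 → mulT k k = 0) k hk, F.ev_zero]
  calc (g : G) * g = elt D (lift (rho D g)) * (F.ev k * elt D (lift (rho D g))) * F.ev k := by rw [e]; group
    _ = elt D (lift (rho D g)) * elt D (lift (rho D g)) * (F.ev k * F.ev k) := by rw [← hc.eq]; group
    _ = _ := by
      rw [hkk, mul_one, ← elt_mul, ← elt_ev, sqr, ← sqr_top D.s (rho D g) D.hs, mk_eta]

/-- Elements acting on the stabiliser. -/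
structure Nrm (c : G) : Prop where
  za : c * F.a * c⁻¹ = F.a ∨ c * F.a * c⁻¹ = F.a * F.z
  zz : c * F.z * c⁻¹ = F.z
  tt : c * F.t * c⁻¹ ∈ Th D

namespace Nrm

variable {D} {c d : G}

theorem conj_zeta (A : Nrm D c) {k : Fin 32} (hk : k = 0 ∨ k = 2 ∨ k = 4 ∨ k = 6) :
    ∃ k' : Fin 32, (k' = 0 ∨ k' = 2 ∨ k' = 4 ∨ k' = 6) ∧ c * F.ev k * c⁻¹ = F.ev k' := by
  obtain ⟨ht, ha, hz, haz, hp, hq⟩ := F.ev_gens
  have e2 : F.a * F.z * F.z = F.a := by rw [mul_assoc, F.z_sq, mul_one]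
  rcases hk with rfl | rfl | rfl | rfl
  · exact ⟨0, Or.inl rfl, by rw [F.ev_zero]; group⟩
  · rw [ha]
    rcases A.za with e | e
    · exact ⟨2, by simp, by rw [ha]; exact e⟩
    · exact ⟨6, by simp, by rw [haz]; exact e⟩
  · exact ⟨4, by simp, by rw [hz]; exact A.zz⟩
  · rw [haz, Frame.conj_mul, A.zz]
    rcases A.za with e | e
    · exact ⟨6, by simp, by rw [haz, e]⟩
    · exact ⟨2, by simp, by rw [ha, e, e2]⟩

theorem inv_za (A : Nrm D c) :
    (c⁻¹ * F.a * c⁻¹⁻¹ = F.a ∨ c⁻¹ * F.a * c⁻¹⁻¹ = F.a * F.z) ∧ c⁻¹ * F.z * c⁻¹⁻¹ = F.z := by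
  refine ⟨?_, Frame.conj_inv_of_conj A.zz⟩
  rcases A.za with e | e
  · exact Or.inl (Frame.conj_inv_of_conj e)
  · refine Or.inr (Frame.conj_inv_of_conj ?_)
    rw [Frame.conj_mul, e, A.zz, mul_assoc, F.z_sq, mul_one]

theorem inv_zeta (A : Nrm D c) {k : Fin 32} (hk : k = 0 ∨ k = 2 ∨ k = 4 ∨ k = 6) :
    ∃ k' : Fin 32, (k' = 0 ∨ k' = 2 ∨ k' = 4 ∨ k' = 6) ∧ c⁻¹ * F.ev k * c = F.ev k' := by
  obtain ⟨i1, i2⟩ := A.inv_za
  obtain ⟨ht, ha, hz, haz, hp, hq⟩ := F.ev_gens
  have e2 : F.a * F.z * F.z = F.a := by rw [mul_assoc, F.z_sq, mul_one]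
  have ec : ∀ u : G, c⁻¹ * u * c = c⁻¹ * u * c⁻¹⁻¹ := fun u => by rw [inv_inv]
  rw [ec]
  rcases hk with rfl | rfl | rfl | rfl
  · exact ⟨0, Or.inl rfl, by rw [F.ev_zero]; group⟩
  · rw [ha]
    rcases i1 with e | e
    · exact ⟨2, by simp, by rw [ha]; exact e⟩
    · exact ⟨6, by simp, by rw [haz]; exact e⟩
  · exact ⟨4, by simp, by rw [hz]; exact i2⟩
  · rw [haz, Frame.conj_mul, i2]
    rcases i1 with e | e
    · exact ⟨6, by simp, by rw [haz, e]⟩
    · exact ⟨2, by simp, by rw [ha, e, e2]⟩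

theorem inv_conj_mem (A : Nrm D c) {x : G} (hx : x ∈ Th D) : c⁻¹ * x * c ∈ Th D := by
  have cz : ∀ k : Fin 32, (k = 0 ∨ k = 2 ∨ k = 4 ∨ k = 6) → Commute (c⁻¹ * x * c) (F.ev k) := by
    intro k hk
    obtain ⟨k', hk', e⟩ := A.conj_zeta hk
    have := Frame.commute_conj (c := c⁻¹) (zeta_comm D hk' ⟨x, hx⟩)
    rwa [inv_inv, show c⁻¹ * F.ev k' * c = F.ev k by rw [← e]; group] at this
  refine mem_Th D (F.ev_gens.2.1 ▸ cz 2 (by simp)) (F.ev_gens.2.2.1 ▸ cz 4 (by simp)) ?_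
  obtain ⟨k, hk, e⟩ := exists_zeta_of_rho D (g := ⟨x, hx⟩ * ⟨_, A.tt⟩ * ⟨x, hx⟩⁻¹) (g' := ⟨_, A.tt⟩) (by
    rw [rho_mul, rho_mul, rho_inv, radd_comm (rho D _), radd_assoc, radd_self, radd_zero])
  obtain ⟨k', hk', e'⟩ := A.inv_zeta hk
  refine ⟨k', hk', ?_⟩
  have e1 : x * (c * F.t * c⁻¹) * x⁻¹ = c * F.t * c⁻¹ * F.ev k := e
  calc c⁻¹ * x * c * F.t * (c⁻¹ * x * c)⁻¹ = c⁻¹ * (x * (c * F.t * c⁻¹) * x⁻¹) * c := by group
    _ = F.t * (c⁻¹ * F.ev k * c) := by rw [e1]; group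
    _ = _ := by rw [e']

theorem conj_mem [Finite G] (A : Nrm D c) {x : G} (hx : x ∈ Th D) : c * x * c⁻¹ ∈ Th D := by
  have hs : Function.Surjective (fun y : Th D => (⟨c⁻¹ * y.1 * c, A.inv_conj_mem y.2⟩ : Th D)) :=
    Finite.injective_iff_surjective.mp fun y y' e =>
      Subtype.ext (mul_left_cancel (mul_right_cancel (congrArg Subtype.val e)))
  obtain ⟨y, hy⟩ := hs ⟨x, hx⟩
  rw [show x = c⁻¹ * y.1 * c from (congrArg Subtype.val hy).symm, show c * (c⁻¹ * y.1 * c) * c⁻¹ = y.1 by group]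
  exact y.2

theorem mul [Finite G] (A : Nrm D c) (B : Nrm D d) : Nrm D (c * d) := by
  have e : ∀ u : G, c * d * u * (c * d)⁻¹ = c * (d * u * d⁻¹) * c⁻¹ := fun u => by group
  refine ⟨?_, by rw [e, B.zz, A.zz], by rw [e]; exact A.conj_mem B.tt⟩
  rw [e]
  rcases B.za with b | b <;> rw [b]
  · exact A.za
  · rw [Frame.conj_mul, A.zz]
    rcases A.za with a | a <;> rw [a]
    · exact Or.inr rfl
    · rw [mul_assoc, F.z_sq, mul_one]; exact Or.inl rfl

theorem conj_nrm [Finite G] (A : Nrm D c) (B : Nrm D d) : Nrm D (c * d * c⁻¹) := by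
  have e : ∀ u : G, c * d * c⁻¹ * u * (c * d * c⁻¹)⁻¹ = c * (d * (c⁻¹ * u * c) * d⁻¹) * c⁻¹ := fun u => by group
  refine ⟨?_, ?_, ?_⟩
  · obtain ⟨k, hk, e1⟩ := A.inv_zeta (k := 2) (by simp)
    obtain ⟨k1, hk1, e2⟩ := B.conj_zeta hk
    obtain ⟨k2, hk2, e3⟩ := A.conj_zeta hk1
    have e4 : c * d * c⁻¹ * F.a * (c * d * c⁻¹)⁻¹ = F.ev k2 := by
      rw [e, ← F.ev_gens.2.1, e1, e2, e3]
    rcases hk2 with rfl | rfl | rfl | rfl
    · rw [F.ev_zero, conj_eq_one_iff] at e4
      rw [← F.ev_gens.2.1, ← F.ev_zero] at e4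
      exact absurd (F.ev_inj e4) (by decide)
    · exact Or.inl (e4.trans F.ev_gens.2.1)
    · exfalso
      have ez : c * d * c⁻¹ * F.z * (c * d * c⁻¹)⁻¹ = F.z := by
        rw [e, show c⁻¹ * F.z * c = F.z by
          calc c⁻¹ * F.z * c = c⁻¹ * (c * F.z * c⁻¹) * c := by rw [A.zz]
            _ = F.z := by group, B.zz, A.zz]
      have := mul_left_cancel (mul_right_cancel (e4.trans (F.ev_gens.2.2.1.trans ez.symm)))
      rw [← F.ev_gens.2.1, ← F.ev_gens.2.2.1] at this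
      exact absurd (F.ev_inj this) (by decide)
    · exact Or.inr (e4.trans F.ev_gens.2.2.2.1)
  · rw [e, show c⁻¹ * F.z * c = F.z by
      calc c⁻¹ * F.z * c = c⁻¹ * (c * F.z * c⁻¹) * c := by rw [A.zz]
        _ = F.z := by group, B.zz, A.zz]
  · rw [e]
    refine A.conj_mem (B.conj_mem (A.inv_conj_mem ?_))
    rw [← F.ev_gens.1]; exact ev_mem D 1

/-- The map induced on rows. -/
noncomputable def L [Finite G] (A : Nrm D c) (r : Fin 16) : Fin 16 :=
  rho D ⟨c * elt D (lift r) * c⁻¹, A.conj_mem (elt_mem D _)⟩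

theorem row_conj [Finite G] (A : Nrm D c) (x : Th D) :
    rho D ⟨c * x.1 * c⁻¹, A.conj_mem x.2⟩ = A.L (rho D x) := by
  obtain ⟨k, hk, e⟩ := exists_zeta D x
  obtain ⟨k', hk', e'⟩ := A.conj_zeta hk
  have : (⟨c * x.1 * c⁻¹, A.conj_mem x.2⟩ : Th D) =
      ⟨c * elt D (lift (rho D x)) * c⁻¹, A.conj_mem (elt_mem D _)⟩ * ⟨F.ev k', ev_mem D k'⟩ := Subtype.ext (by
    change c * x.1 * c⁻¹ = c * elt D (lift (rho D x)) * c⁻¹ * F.ev k'
    rw [e, ← e']; group)
  rw [this, rho_mul, rho_zeta D hk', radd_zero]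
  rfl

theorem L_add [Finite G] (A : Nrm D c) (r s : Fin 16) : A.L (radd r s) = radd (A.L r) (A.L s) := by
  have h1 := A.row_conj (⟨elt D (lift r), elt_mem D _⟩ * ⟨elt D (lift s), elt_mem D _⟩)
  rw [rho_mul, rho_elt, rho_elt, row_lift, row_lift] at h1
  rw [← h1, L, L, ← rho_mul]
  congr 1
  apply Subtype.ext
  change c * (elt D (lift r) * elt D (lift s)) * c⁻¹ = c * elt D (lift r) * c⁻¹ * (c * elt D (lift s) * c⁻¹)
  group

theorem L_zero [Finite G] (A : Nrm D c) : A.L 0 = 0 := by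
  have := A.L_add 0 0
  rw [radd_self, radd_self] at this
  exact this

theorem L_eq_lin [Finite G] (A : Nrm D c) (r : Fin 16) : A.L r = lin (A.L 1) (A.L 2) (A.L 4) (A.L 8) r := by
  conv_lhs => rw [← lin_id r]
  simp only [lin, A.L_add, apply_ite A.L, A.L_zero]

theorem L_congr [Finite G] (A : Nrm D c) (B : Nrm D d) (e : c = d) (r : Fin 16) : A.L r = B.L r := by
  subst e; rfl

theorem L_mul [Finite G] (A : Nrm D c) (B : Nrm D d) (r : Fin 16) : (A.mul B).L r = A.L (B.L r) := by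
  have := A.row_conj ⟨d * elt D (lift r) * d⁻¹, B.conj_mem (elt_mem D _)⟩
  refine Eq.trans ?_ this
  exact rho_of_eq D _ _ (by group)

theorem L_of_conj [Finite G] (A : Nrm D c) (u : Fin 32) (w : Fin 32) (e : c * F.ev u * c⁻¹ = F.ev w) :
    A.L (row (Fake.mk u false)) = row (Fake.mk w false) := by
  have h1 := A.row_conj ⟨F.ev u, ev_mem D u⟩
  rw [rho_ev] at h1
  rw [← h1, ← rho_ev D w]
  exact rho_of_eq D _ _ e

theorem L_of_mem [Finite G] (A : Nrm D c) (hc : c ∈ Th D) (r : Fin 16) : A.L r = r := by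
  have e : (⟨c * elt D (lift r) * c⁻¹, A.conj_mem (elt_mem D _)⟩ : Th D) =
      ⟨c, hc⟩ * ⟨elt D (lift r), elt_mem D _⟩ * ⟨c, hc⟩⁻¹ := rfl
  rw [L, e, rho_mul, rho_mul, rho_inv, rho_elt, row_lift, radd_comm (rho D _), radd_assoc, radd_self, radd_zero]

/-- An element fixing `Z0` and the row of `t` lies in the stabiliser. -/
theorem mem_of_row_one [Finite G] (A : Nrm D c) (ha : c * F.a * c⁻¹ = F.a) (h1 : A.L 1 = 1) : c ∈ Th D := by
  refine mem_Th D (Frame.commute_of_conj ha) (Frame.commute_of_conj A.zz) ?_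
  obtain ⟨k, hk, e⟩ := exists_zeta D ⟨_, A.tt⟩
  have hr : rho D ⟨_, A.tt⟩ = 1 := by
    refine Eq.trans ?_ h1
    refine rho_of_eq D _ _ ?_
    rw [show lift 1 = Fake.mk 1 false by decide +kernel, elt_ev, F.ev_gens.1]
  refine ⟨k, hk, ?_⟩
  change c * F.t * c⁻¹ = _ at e
  rw [e, hr, show lift 1 = Fake.mk 1 false by decide +kernel, elt_ev, F.ev_gens.1]

theorem L_sqr [Finite G] (A : Nrm D c) (ha : c * F.a * c⁻¹ = F.a) (r : Fin 16) :
    sqr D.s (A.L r) = sqr D.s r := by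
  refine F.ev_inj ?_
  rw [L, ← sq_eq]
  change c * elt D (lift r) * c⁻¹ * (c * elt D (lift r) * c⁻¹) = _
  have h2 := sq_eq D ⟨elt D (lift r), elt_mem D _⟩
  rw [rho_elt, row_lift] at h2
  have hz : sqr D.s r = 0 ∨ sqr D.s r = 4 :=
    (by decide +kernel : ∀ (s : Fin 32) (r : Fin 16), s = 0 ∨ s = 4 → sqr s r = 0 ∨ sqr s r = 4) D.s r D.hs
  rw [show c * elt D (lift r) * c⁻¹ * (c * elt D (lift r) * c⁻¹)
    = c * (elt D (lift r) * elt D (lift r)) * c⁻¹ by group, show elt D (lift r) * elt D (lift r) = _ from h2]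
  rcases hz with e | e <;> rw [e]
  · rw [F.ev_zero]; group
  · rw [F.ev_gens.2.2.1]; exact A.zz

end Nrm

theorem not_conj_zeta {k : Fin 32} (hk : k = 0 ∨ k = 2 ∨ k = 4 ∨ k = 6) (_D : FKData F) :
    ¬ IsConj F.t (F.ev k) := by
  rw [_D.tw.mem_T]
  rintro ⟨-, hh⟩
  rcases hk with rfl | rfl | rfl | rfl <;> exact absurd hh (by decide)

include D in
theorem conj_mul_zeta [Finite G] {u : G} (hu : IsConj F.t u) {k : Fin 32} (hk : k = 0 ∨ k = 2 ∨ k = 4 ∨ k = 6)
    (hc : Commute u (F.ev k)) : IsConj F.t (u * F.ev k) := by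
  have hk2 : F.ev k * F.ev k = 1 := by
    rw [← F.ev_mul, (by decide +kernel : ∀ k : Fin 32, k = 0 ∨ k = 2 ∨ k = 4 ∨ k = 6 → mulT k k = 0) k hk, F.ev_zero]
  have := D.tw.rule hu hc hk2
  by_contra hne
  exact not_conj_zeta hk D (this.mpr hne)

open scoped Classical in
/-- The rows meeting the class of `t`. -/
noncomputable def o (r : Fin 16) : Bool := decide (IsConj F.t (elt D (lift r)))

theorem o_iff [Finite G] (g : Th D) : IsConj F.t (g : G) ↔ o D (rho D g) = true := by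
  classical
  rw [o, decide_eq_true_iff]
  obtain ⟨k, hk, e⟩ := exists_zeta D g
  have hc : Commute (elt D (lift (rho D g))) (F.ev k) := zeta_comm D hk ⟨_, elt_mem D _⟩
  have hk2 : F.ev k * F.ev k = 1 := by
    rw [← F.ev_mul, (by decide +kernel : ∀ k : Fin 32, k = 0 ∨ k = 2 ∨ k = 4 ∨ k = 6 → mulT k k = 0) k hk, F.ev_zero]
  rw [e]
  constructor
  · intro hh
    have := conj_mul_zeta D hh hk (hc.mul_left (Commute.refl _))
    rwa [mul_assoc, hk2, mul_one] at this
  · exact fun hh => conj_mul_zeta D hh hk hc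

theorem o_L [Finite G] {c : G} (A : Nrm D c) (r : Fin 16) : o D (A.L r) = o D r := by
  apply Bool.eq_iff_iff.mpr
  rw [Nrm.L, ← o_iff]
  change IsConj F.t (c * elt D (lift r) * c⁻¹) ↔ _
  rw [isConj_conj_iff, show elt D (lift r) = ((⟨elt D (lift r), elt_mem D _⟩ : Th D) : G) from rfl, o_iff, rho_elt,
    row_lift]

/-- The homomorphism given by a linear functional on rows. -/
noncomputable def hom (m : Fin 16) : Th D →* Z2 :=
  MonoidHom.mk' (fun g => if par m (rho D g) then Multiplicative.ofAdd 1 else 1) fun g g' => by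
    rw [rho_mul, par_radd]
    cases par m (rho D g) <;> cases par m (rho D g') <;> decide

theorem hom_ne (m : Fin 16) (g : Th D) : hom D m g ≠ 1 ↔ par m (rho D g) = true := by
  change (if par m (rho D g) then Multiplicative.ofAdd (1 : ZMod 2) else 1) ≠ 1 ↔ _
  cases par m (rho D g) <;> simp

theorem hom_eq_one (m : Fin 16) (g : Th D) (e : par m (rho D g) = false) : hom D m g = 1 := by
  change (if par m (rho D g) then Multiplicative.ofAdd (1 : ZMod 2) else 1) = 1
  rw [e]; rfl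

theorem hom_eq (m : Fin 16) {g g' : Th D} (e : par m (rho D g) = par m (rho D g')) : hom D m g = hom D m g' := by
  change (if par m (rho D g) then Multiplicative.ofAdd (1 : ZMod 2) else 1) = (if _ then _ else _)
  rw [e]

theorem hom_conj [Finite G] {c : G} (A : Nrm D c) (m : Fin 16) (hinv : ∀ r, par m (A.L r) = par m r) (x : Th D) :
    hom D m ⟨c * x.1 * c⁻¹, A.conj_mem x.2⟩ = hom D m x :=
  hom_eq D m (by rw [A.row_conj, hinv])

/-- Counting a row predicate over the stabiliser. -/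
theorem count_rows (p : Fin 16 → Bool) :
    Nat.card {g : Th D // p (rho D g) = true} = 4 * (Finset.univ.filter fun r => p r = true).card := by
  unfold rho
  rw [Nat.card_congr ((coord D).subtypeEquiv (q := fun v => p (row v) = true) fun _ => Iff.rfl),
    Nat.card_eq_fintype_card, Fintype.card_subtype]
  have hf : ∀ r : Fin 16, (Finset.univ.filter fun v : Fin 64 => row v = r).card = 4 := by decide +kernel
  rw [Finset.card_eq_sum_card_fiberwise (f := row) (t := Finset.univ.filter fun r => p r = true)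
    (fun v hv => by simpa using hv), Finset.sum_const_nat (m := 4) fun r hr => ?_, mul_comm]
  rw [Finset.filter_filter, ← hf r]
  congr 1
  ext v
  simp only [Finset.mem_filter, Finset.mem_univ, true_and]
  exact ⟨fun e => e.2, fun e => ⟨e ▸ (Finset.mem_filter.mp hr).2, e⟩⟩

theorem cnt_hom [Finite G] (m : Fin 16) :
    cnt F.t (Th D) (hom D m) = 4 * (Finset.univ.filter fun r => (o D r && par m r) = true).card := by
  rw [← count_rows D (fun r => o D r && par m r)]
  refine Nat.card_congr (Equiv.subtypeEquivRight fun g => ?_)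
  rw [o_iff, hom_ne, Bool.and_eq_true]

/-- The square of an element of a coset, in rows. -/
theorem row_coset_sq [Finite G] {c : G} (A : Nrm D c) (hc : c * c ∈ Th D) (x : Th D)
    (hx : IsConj F.t ((x : G) * c)) :
    radd (radd (rho D x) (A.L (rho D x))) (rho D ⟨c * c, hc⟩) = 0 := by
  have e : x * ⟨c * x.1 * c⁻¹, A.conj_mem x.2⟩ * ⟨c * c, hc⟩ = (1 : Th D) := Subtype.ext (by
    change (x : G) * (c * x.1 * c⁻¹) * (c * c) = 1
    rw [← sq_of_isConj F.t_sq hx]; group)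
  have e1 := congrArg (rho D) e
  rw [rho_mul, rho_mul, A.row_conj, rho_one] at e1
  exact e1

end Fake

end CfsgLib.InvCentS6
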