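import Cfsg.Agent.Lib.InvCentS6.Basic

/-!
The frame: the local data around an involution with centralizer like that of a transposition-type
involution in a symmetric group.
-/

set_option autoImplicit false

namespace CfsgLib.InvCentS6

/-- Multiplication table of the model of a Sylow subgroup of the centralizer. -/
def mulT (v w : Fin 32) : Fin 32 :=
  ⟨(v.val ^^^ w.val ^^^ (if v.val.testBit 4 && w.val.testBit 3 then 4 else 0)) % 32, Nat.mod_lt _ (by norm_num)⟩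

variable {G : Type*} [Group G]

/-- The factor of a word belonging to one bit. -/
def bitPow (u : G) (v : Fin 32) (i : ℕ) : G := if v.val.testBit i then u else 1

/-- The normal word with given coordinates. -/
def word (t a z p q : G) (v : Fin 32) : G :=
  bitPow t v 0 * bitPow a v 1 * bitPow z v 2 * bitPow p v 3 * bitPow q v 4

/-- The frame axioms. -/
structure Frame (G : Type*) [Group G] where
  /-- the involution -/
  t : G
  /-- a central transposition -/
  a : G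
  /-- the central square -/
  z : G
  /-- the first generator of the dihedral part -/
  p : G
  /-- the second generator of the dihedral part -/
  q : G
  /-- an element of order three on the first four-group -/
  x : G
  /-- an element of order three on the second four-group -/
  y : G
  t_sq : t * t = 1
  a_sq : a * a = 1
  z_sq : z * z = 1
  p_sq : p * p = 1
  q_sq : q * q = 1
  cta : t * a = a * t
  ctz : t * z = z * t
  ctp : t * p = p * t
  ctq : t * q = q * t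
  caz : a * z = z * a
  cap : a * p = p * a
  caq : a * q = q * a
  czp : z * p = p * z
  czq : z * q = q * z
  qp : q * p = p * q * z
  inj : ∀ v : Fin 32, word t a z p q v = 1 → v = 0
  mem_T : ∀ g : G, Commute g t → Commute g a → Commute g z → ∃ v : Fin 32, g = word t a z p q v
  card_C : ∃ m : ℕ, Odd m ∧ Nat.card (Subgroup.centralizer ({t} : Set G)) = 32 * m
  x_t : x * t * x⁻¹ = t
  x_a : x * a * x⁻¹ = p
  x_p : x * p * x⁻¹ = p * z
  x_pz : x * (p * z) * x⁻¹ = a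
  x_cube : x * x * x = 1
  x_inv : q * (a * z) * x * (q * (a * z)) = x⁻¹
  y_t : y * t * y⁻¹ = t
  y_a : y * a * y⁻¹ = a
  y_z : y * z * y⁻¹ = q
  y_q : y * q * y⁻¹ = q * z
  y_cube : y * y * y = 1
  y_inv : p * y * p = y⁻¹
  tri_a : ∀ g : G, Commute g t → Commute g a → Commute (g * z * g⁻¹) z →
    g * z * g⁻¹ = z ∨ g * z * g⁻¹ = q ∨ g * z * g⁻¹ = q * z
  tri_b : ∀ g : G, Commute g t → Commute g (a * z) → Commute (g * z * g⁻¹) z →
    g * z * g⁻¹ = z ∨ g * z * g⁻¹ = p * a ∨ g * z * g⁻¹ = p * a * z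
  a_cls : ∀ g : G, Commute g t →
    g * a * g⁻¹ ≠ a * z ∧ g * a * g⁻¹ ≠ t * a ∧ g * a * g⁻¹ ≠ t * (a * z)
  b_cls : ∀ g : G, Commute g t → g * (a * z) * g⁻¹ ≠ t * (a * z) ∧ g * (a * z) * g⁻¹ ≠ t * a
  z_count : Nat.card {u : G // ∃ c : G, Commute c t ∧ c * (t * z) * c⁻¹ = u} % 4 = 1

namespace Frame

variable (F : Frame G)

/-- The value of a coordinate vector. -/
def ev (v : Fin 32) : G := word F.t F.a F.z F.p F.q v

theorem ev_gen (v : Fin 32) :
    F.ev v * F.t = F.ev (mulT v 1) ∧ F.ev v * F.a = F.ev (mulT v 2) ∧ F.ev v * F.z = F.ev (mulT v 4) ∧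
      F.ev v * F.p = F.ev (mulT v 8) ∧ F.ev v * F.q = F.ev (mulT v 16) := by
  have e0 : F.ev v = bitPow F.t v 0 * bitPow F.a v 1 * bitPow F.z v 2 * bitPow F.p v 3 * bitPow F.q v 4 := rfl
  have comm : ∀ {u w : G}, u * w = w * u → ∀ r, r * u * w = r * w * u := fun h r => by
    rw [mul_assoc, h, ← mul_assoc]
  have sq : ∀ {u : G}, u * u = 1 → ∀ r, r * u * u = r := fun h r => by rw [mul_assoc, h, mul_one]
  have k1 := comm F.cta.symm
  have k2 := comm F.ctz.symm
  have k3 := comm F.ctp.symm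
  have k4 := comm F.ctq.symm
  have k5 := comm F.caz.symm
  have k6 := comm F.cap.symm
  have k7 := comm F.caq.symm
  have k8 := comm F.czp.symm
  have k9 := comm F.czq.symm
  have kq : ∀ r, r * F.q * F.p = r * F.z * F.p * F.q := fun r => by
    rw [mul_assoc, F.qp, ← mul_assoc, ← mul_assoc, mul_assoc (r * F.p), ← F.czq, ← mul_assoc, mul_assoc r F.p,
      ← F.czp, ← mul_assoc]
  have k10 : F.z * F.p * F.q = F.q * F.p := by
    have := kq 1
    simpa only [one_mul] using this.symm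
  rw [e0]
  fin_cases v <;> simp [bitPow, word, ev, mulT, Nat.testBit, k1, k2, k3, k4, k5, k6, k7, k8, k9, kq, sq F.t_sq,
    sq F.a_sq, sq F.z_sq, sq F.p_sq, sq F.q_sq, F.t_sq, F.a_sq, F.z_sq, F.p_sq, F.q_sq, ← k10, F.cta.symm,
    F.ctz.symm, F.ctp.symm, F.ctq.symm, F.caz.symm, F.cap.symm, F.caq.symm, F.czp.symm, F.czq.symm]

theorem ev_zero : F.ev 0 = 1 := by
  simp [ev, word, bitPow]

theorem ev_mul (v w : Fin 32) : F.ev (mulT v w) = F.ev v * F.ev w := by
  have step : ∀ (u : G) (e : Fin 32), (∀ v, F.ev v * u = F.ev (mulT v e)) → ∀ (v : Fin 32) (w : Fin 32) (i : ℕ),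
      F.ev v * bitPow u w i = F.ev (if w.val.testBit i then mulT v e else v) := by
    intro u e h v w i
    unfold bitPow
    split <;> simp [h]
  conv_rhs => rw [show F.ev w = bitPow F.t w 0 * bitPow F.a w 1 * bitPow F.z w 2 * bitPow F.p w 3 * bitPow F.q w 4
    from rfl]
  simp only [← mul_assoc]
  rw [step _ _ (fun v => (F.ev_gen v).1), step _ _ (fun v => (F.ev_gen v).2.1),
    step _ _ (fun v => (F.ev_gen v).2.2.1), step _ _ (fun v => (F.ev_gen v).2.2.2.1),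
    step _ _ (fun v => (F.ev_gen v).2.2.2.2)]
  congr 1
  revert v w
  decide +kernel

/-- The inverse in the model. -/
def invT (v : Fin 32) : Fin 32 := mulT v (mulT v v)

theorem mulT_invT : ∀ v, mulT v (invT v) = 0 ∧ mulT (invT v) v = 0 := by decide +kernel

theorem ev_inv (v : Fin 32) : (F.ev v)⁻¹ = F.ev (invT v) :=
  inv_eq_of_mul_eq_one_right (by rw [← F.ev_mul, (mulT_invT v).1, F.ev_zero])

theorem ev_inj : Function.Injective F.ev := by
  intro v w h
  have h1 : F.ev (mulT v (invT w)) = 1 := by rw [F.ev_mul, h, ← F.ev_inv, mul_inv_cancel]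
  have h2 := F.inj _ h1
  revert h2
  clear h h1
  revert v w
  decide +kernel

theorem ev_gens : F.ev 1 = F.t ∧ F.ev 2 = F.a ∧ F.ev 4 = F.z ∧ F.ev 6 = F.a * F.z ∧ F.ev 8 = F.p ∧ F.ev 16 = F.q := by
  simp [ev, word, bitPow, Nat.testBit]

theorem ev_conj (v w : Fin 32) : F.ev v * F.ev w * (F.ev v)⁻¹ = F.ev (mulT (mulT v w) (invT v)) := by
  rw [F.ev_mul, F.ev_mul, F.ev_inv]

theorem ev_commute {v w : Fin 32} (h : mulT v w = mulT w v) : Commute (F.ev v) (F.ev w) := by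
  rw [commute_iff_eq, ← F.ev_mul, h, F.ev_mul]

theorem ev_commute_iff {v w : Fin 32} : Commute (F.ev v) (F.ev w) ↔ mulT v w = mulT w v :=
  ⟨fun h => F.ev_inj (by rw [F.ev_mul, F.ev_mul]; exact h), F.ev_commute⟩

theorem ev_comm_t (v : Fin 32) : Commute (F.ev v) F.t := by
  rw [← F.ev_gens.1]
  exact F.ev_commute ((by decide +kernel : ∀ v, mulT v 1 = mulT 1 v) v)

theorem ev_comm_a (v : Fin 32) : Commute (F.ev v) F.a := by
  rw [← F.ev_gens.2.1]
  exact F.ev_commute ((by decide +kernel : ∀ v, mulT v 2 = mulT 2 v) v)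

theorem ev_comm_z (v : Fin 32) : Commute (F.ev v) F.z := by
  rw [← F.ev_gens.2.2.1]
  exact F.ev_commute ((by decide +kernel : ∀ v, mulT v 4 = mulT 4 v) v)

theorem ev_bitPow (e v : Fin 32) (i : ℕ) :
    bitPow (F.ev e) v i = F.ev (if v.val.testBit i then e else 0) := by
  unfold bitPow
  split
  · rfl
  · exact F.ev_zero.symm

theorem word_ev (e0 e1 e2 e3 e4 v : Fin 32) :
    word (F.ev e0) (F.ev e1) (F.ev e2) (F.ev e3) (F.ev e4) v =
      F.ev (mulT (mulT (mulT (mulT (if v.val.testBit 0 then e0 else 0) (if v.val.testBit 1 then e1 else 0))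
        (if v.val.testBit 2 then e2 else 0)) (if v.val.testBit 3 then e3 else 0))
        (if v.val.testBit 4 then e4 else 0)) := by
  simp only [word, ev_bitPow, ev_mul]

theorem ev_rel {e f : Fin 32} (h : e = f) : F.ev e = F.ev f := h ▸ rfl

theorem conj_inv_of_conj {c u v : G} (h : c * v * c⁻¹ = u) : c⁻¹ * u * c⁻¹⁻¹ = v := by
  rw [← h]; group

theorem conj_mul (c u v : G) : c * (u * v) * c⁻¹ = c * u * c⁻¹ * (c * v * c⁻¹) := by group

theorem conj_mul3 (c u v w : G) : c * (u * (v * w)) * c⁻¹ = c * u * c⁻¹ * (c * v * c⁻¹ * (c * w * c⁻¹)) := by group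

theorem conj_mul3' (c u v w : G) : c * (u * v * w) * c⁻¹ = c * u * c⁻¹ * (c * v * c⁻¹) * (c * w * c⁻¹) := by group

theorem qp_aux : F.t * (F.q * F.z * F.q) = F.t * F.z := by
  rw [mul_assoc F.q, F.czq, ← mul_assoc F.q, F.q_sq, one_mul]

theorem conj_z : F.x * F.z * F.x⁻¹ = F.p * F.z * F.a := by
  have h : F.z = F.p * (F.p * F.z) := by rw [← mul_assoc, F.p_sq, one_mul]
  conv_lhs => rw [h]
  rw [conj_mul, F.x_p, F.x_pz]

theorem mirror_e1 : F.q * F.z * (F.a * F.q) = F.a * F.z := by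
  obtain ⟨ht, ha, hz, haz, hp, hq⟩ := F.ev_gens
  simp only [← ht, ← ha, ← hz, ← hp, ← hq, ← F.ev_mul]; exact F.ev_rel (by decide +kernel)

theorem mirror_e2 : F.q * F.z * (F.a * F.q) * F.q = F.q * (F.a * F.z) := by
  obtain ⟨ht, ha, hz, haz, hp, hq⟩ := F.ev_gens
  simp only [← ht, ← ha, ← hz, ← hp, ← hq, ← F.ev_mul]; exact F.ev_rel (by decide +kernel)

theorem mirror_e3 : F.a * F.q = F.q * (F.a * F.z) * F.z := by
  rw [mul_assoc, mul_assoc F.a F.z, F.z_sq, mul_one, F.caq]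

theorem mirror_e4 : F.p * F.a * (F.a * F.z * F.z) * F.y⁻¹ * (F.p * F.a * (F.a * F.z * F.z)) = F.y⁻¹⁻¹ := by
  have e : F.p * F.a * (F.a * F.z * F.z) = F.p := by
    obtain ⟨ht, ha, hz, haz, hp, hq⟩ := F.ev_gens
    simp only [← ht, ← ha, ← hz, ← hp, ← hq, ← F.ev_mul]; exact F.ev_rel (by decide +kernel)
  rw [e, inv_inv, ← F.y_inv]
  simp only [← mul_assoc, F.p_sq, one_mul]
  rw [mul_assoc, F.p_sq, mul_one]

theorem mirror_e5 : F.p * (F.p * F.z * F.a) = F.a * F.z := by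
  obtain ⟨ht, ha, hz, haz, hp, hq⟩ := F.ev_gens
  simp only [← ht, ← ha, ← hz, ← hp, ← hq, ← F.ev_mul]; exact F.ev_rel (by decide +kernel)

theorem mirror_e6 : F.p * F.z * F.p = F.z := by
  obtain ⟨ht, ha, hz, haz, hp, hq⟩ := F.ev_gens
  simp only [← ht, ← ha, ← hz, ← hp, ← hq, ← F.ev_mul]; exact F.ev_rel (by decide +kernel)

theorem mirror_e7 : F.p * F.z * F.p * (F.p * F.z * F.a) = F.p * F.a := by
  obtain ⟨ht, ha, hz, haz, hp, hq⟩ := F.ev_gens
  simp only [← ht, ← ha, ← hz, ← hp, ← hq, ← F.ev_mul]; exact F.ev_rel (by decide +kernel)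

theorem mirror_e8 : F.q * (F.a * F.z) * F.x⁻¹ * (F.q * (F.a * F.z)) = F.x⁻¹⁻¹ := by
  have h := congrArg (fun r => r⁻¹) F.x_inv
  obtain ⟨ht, ha, hz, haz, hp, hq⟩ := F.ev_gens
  have e : (F.q * (F.a * F.z))⁻¹ = F.q * (F.a * F.z) := by
    rw [← hq, ← haz, ← F.ev_mul, F.ev_inv]; exact F.ev_rel (by decide +kernel)
  calc F.q * (F.a * F.z) * F.x⁻¹ * (F.q * (F.a * F.z))
      = (F.q * (F.a * F.z))⁻¹ * F.x⁻¹ * (F.q * (F.a * F.z))⁻¹ := by rw [e]
    _ = (F.q * (F.a * F.z) * F.x * (F.q * (F.a * F.z)))⁻¹ := by group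
    _ = _ := h

/-- Substitution of five coordinate vectors into a word. -/
def subT (e0 e1 e2 e3 e4 v : Fin 32) : Fin 32 :=
  mulT (mulT (mulT (mulT (if v.val.testBit 0 then e0 else 0) (if v.val.testBit 1 then e1 else 0))
    (if v.val.testBit 2 then e2 else 0)) (if v.val.testBit 3 then e3 else 0)) (if v.val.testBit 4 then e4 else 0)

/-- The mirrored frame, exchanging the two four-groups. -/
def mirror : Frame G where
  t := F.t
  a := F.a * F.z
  z := F.z
  p := F.q * (F.a * F.z)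
  q := F.p * F.a
  x := F.y⁻¹
  y := F.x⁻¹
  t_sq := F.t_sq
  a_sq := by
    obtain ⟨ht, ha, hz, haz, hp, hq⟩ := F.ev_gens
    rw [← haz, ← F.ev_mul, ← F.ev_zero]; exact F.ev_rel (by decide +kernel)
  z_sq := F.z_sq
  p_sq := by
    obtain ⟨ht, ha, hz, haz, hp, hq⟩ := F.ev_gens
    rw [← haz, ← hq, ← F.ev_mul, ← F.ev_mul, ← F.ev_zero]; exact F.ev_rel (by decide +kernel)
  q_sq := by
    obtain ⟨ht, ha, hz, haz, hp, hq⟩ := F.ev_gens
    rw [← ha, ← hp, ← F.ev_mul, ← F.ev_mul, ← F.ev_zero]; exact F.ev_rel (by decide +kernel)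
  cta := by
    obtain ⟨ht, ha, hz, haz, hp, hq⟩ := F.ev_gens
    simp only [← ht, ← ha, ← hz, ← hp, ← hq, ← F.ev_mul]; exact F.ev_rel (by decide +kernel)
  ctz := F.ctz
  ctp := by
    obtain ⟨ht, ha, hz, haz, hp, hq⟩ := F.ev_gens
    simp only [← ht, ← ha, ← hz, ← hp, ← hq, ← F.ev_mul]; exact F.ev_rel (by decide +kernel)
  ctq := by
    obtain ⟨ht, ha, hz, haz, hp, hq⟩ := F.ev_gens
    simp only [← ht, ← ha, ← hz, ← hp, ← hq, ← F.ev_mul]; exact F.ev_rel (by decide +kernel)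
  caz := by
    obtain ⟨ht, ha, hz, haz, hp, hq⟩ := F.ev_gens
    simp only [← ht, ← ha, ← hz, ← hp, ← hq, ← F.ev_mul]; exact F.ev_rel (by decide +kernel)
  cap := by
    obtain ⟨ht, ha, hz, haz, hp, hq⟩ := F.ev_gens
    simp only [← ht, ← ha, ← hz, ← hp, ← hq, ← F.ev_mul]; exact F.ev_rel (by decide +kernel)
  caq := by
    obtain ⟨ht, ha, hz, haz, hp, hq⟩ := F.ev_gens
    simp only [← ht, ← ha, ← hz, ← hp, ← hq, ← F.ev_mul]; exact F.ev_rel (by decide +kernel)
  czp := by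
    obtain ⟨ht, ha, hz, haz, hp, hq⟩ := F.ev_gens
    simp only [← ht, ← ha, ← hz, ← hp, ← hq, ← F.ev_mul]; exact F.ev_rel (by decide +kernel)
  czq := by
    obtain ⟨ht, ha, hz, haz, hp, hq⟩ := F.ev_gens
    simp only [← ht, ← ha, ← hz, ← hp, ← hq, ← F.ev_mul]; exact F.ev_rel (by decide +kernel)
  qp := by
    obtain ⟨ht, ha, hz, haz, hp, hq⟩ := F.ev_gens
    simp only [← ht, ← ha, ← hz, ← hp, ← hq, ← F.ev_mul]; exact F.ev_rel (by decide +kernel)
  inj := by
    intro v h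
    obtain ⟨ht, ha, hz, haz, hp, hq⟩ := F.ev_gens
    rw [← ht, ← haz, ← hq, ← hz, ← ha, ← hp, ← F.ev_mul, ← F.ev_mul, F.word_ev, ← F.ev_zero] at h
    exact (by decide +kernel : ∀ v : Fin 32, subT 1 6 4 (mulT 16 6) (mulT 8 2) v = 0 → v = 0) v (F.ev_inj h)
  mem_T := by
    intro g h1 h2 h3
    have h4 : Commute g F.a := by
      have := h2.mul_right h3
      rwa [mul_assoc, F.z_sq, mul_one] at this
    obtain ⟨w, hw⟩ := F.mem_T g h1 h4 h3
    obtain ⟨ht, ha, hz, haz, hp, hq⟩ := F.ev_gens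
    rw [← ht, ← haz, ← hq, ← hz, ← ha, ← hp, ← F.ev_mul, ← F.ev_mul]
    simp only [F.word_ev, hw]
    obtain ⟨v, hv⟩ := (by decide +kernel : ∀ w : Fin 32, ∃ v : Fin 32, w = subT 1 6 4 (mulT 16 6) (mulT 8 2) v) w
    exact ⟨v, F.ev_rel hv⟩
  card_C := F.card_C
  x_t := conj_inv_of_conj F.y_t
  x_a := conj_inv_of_conj (by rw [conj_mul3, F.y_q, F.y_a, F.y_z]; exact mirror_e1 F)
  x_p := conj_inv_of_conj (by rw [conj_mul, conj_mul3, F.y_q, F.y_a, F.y_z]; exact mirror_e2 F)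
  x_pz := conj_inv_of_conj (by rw [conj_mul, F.y_a, F.y_z]; exact mirror_e3 F)
  x_cube := by rw [← mul_inv_rev, ← mul_inv_rev, ← mul_assoc, F.y_cube, inv_one]
  x_inv := mirror_e4 F
  y_t := conj_inv_of_conj F.x_t
  y_a := conj_inv_of_conj (by rw [conj_mul, F.x_a, conj_z]; exact mirror_e5 F)
  y_z := conj_inv_of_conj (by rw [conj_mul, F.x_p, F.x_a]; exact mirror_e6 F)
  y_q := conj_inv_of_conj (by rw [conj_mul3', F.x_p, F.x_a, conj_z]; exact mirror_e7 F)
  y_cube := by rw [← mul_inv_rev, ← mul_inv_rev, ← mul_assoc, F.x_cube, inv_one]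
  y_inv := mirror_e8 F
  a_cls := by
    intro g hg
    refine ⟨fun h => ?_, (F.b_cls g hg).1, ?_⟩
    · rw [mul_assoc F.a, F.z_sq, mul_one] at h
      refine (F.a_cls g⁻¹ hg.inv_left).1 ?_
      calc g⁻¹ * F.a * g⁻¹⁻¹ = g⁻¹ * (g * (F.a * F.z) * g⁻¹) * g⁻¹⁻¹ := by rw [h]
        _ = F.a * F.z := by group
    · rw [mul_assoc F.a, F.z_sq, mul_one]
      exact (F.b_cls g hg).2
  b_cls := by
    intro g hg
    rw [mul_assoc F.a, F.z_sq, mul_one]
    exact (F.a_cls g hg).2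
  z_count := F.z_count
  tri_a := F.tri_b
  tri_b := by
    intro g h1 h2 h3
    obtain ⟨ht, ha, hz, haz, hp, hq⟩ := F.ev_gens
    have e : F.a * F.z * F.z = F.a := by rw [mul_assoc, F.z_sq, mul_one]
    rw [e] at h2
    rcases F.tri_a g h1 h2 h3 with h | h | h <;> rw [h]
    · exact Or.inl rfl
    · refine Or.inr (Or.inl ?_)
      simp only [← ha, ← hz, ← hp, ← hq, ← F.ev_mul]; exact F.ev_rel (by decide +kernel)
    · refine Or.inr (Or.inr ?_)
      simp only [← ha, ← hz, ← hp, ← hq, ← F.ev_mul]; exact F.ev_rel (by decide +kernel)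

/-- The frame twisted by the sign character. -/
def twist : Frame G where
  t := F.t
  a := F.t * F.a
  z := F.z
  p := F.t * F.p
  q := F.q
  x := F.x
  y := F.y
  t_sq := F.t_sq
  a_sq := by
    obtain ⟨ht, ha, hz, haz, hp, hq⟩ := F.ev_gens
    rw [← F.ev_zero]; simp only [← ht, ← ha, ← hz, ← hp, ← hq, ← F.ev_mul]; exact F.ev_rel (by decide +kernel)
  z_sq := F.z_sq
  p_sq := by
    obtain ⟨ht, ha, hz, haz, hp, hq⟩ := F.ev_gens
    rw [← F.ev_zero]; simp only [← ht, ← ha, ← hz, ← hp, ← hq, ← F.ev_mul]; exact F.ev_rel (by decide +kernel)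
  q_sq := F.q_sq
  cta := by
    obtain ⟨ht, ha, hz, haz, hp, hq⟩ := F.ev_gens
    simp only [← ht, ← ha, ← hz, ← hp, ← hq, ← F.ev_mul]; exact F.ev_rel (by decide +kernel)
  ctz := F.ctz
  ctp := by
    obtain ⟨ht, ha, hz, haz, hp, hq⟩ := F.ev_gens
    simp only [← ht, ← ha, ← hz, ← hp, ← hq, ← F.ev_mul]; exact F.ev_rel (by decide +kernel)
  ctq := F.ctq
  caz := by
    obtain ⟨ht, ha, hz, haz, hp, hq⟩ := F.ev_gens
    simp only [← ht, ← ha, ← hz, ← hp, ← hq, ← F.ev_mul]; exact F.ev_rel (by decide +kernel)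
  cap := by
    obtain ⟨ht, ha, hz, haz, hp, hq⟩ := F.ev_gens
    simp only [← ht, ← ha, ← hz, ← hp, ← hq, ← F.ev_mul]; exact F.ev_rel (by decide +kernel)
  caq := by
    obtain ⟨ht, ha, hz, haz, hp, hq⟩ := F.ev_gens
    simp only [← ht, ← ha, ← hz, ← hp, ← hq, ← F.ev_mul]; exact F.ev_rel (by decide +kernel)
  czp := by
    obtain ⟨ht, ha, hz, haz, hp, hq⟩ := F.ev_gens
    simp only [← ht, ← ha, ← hz, ← hp, ← hq, ← F.ev_mul]; exact F.ev_rel (by decide +kernel)
  czq := F.czq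
  qp := by
    obtain ⟨ht, ha, hz, haz, hp, hq⟩ := F.ev_gens
    simp only [← ht, ← ha, ← hz, ← hp, ← hq, ← F.ev_mul]; exact F.ev_rel (by decide +kernel)
  inj := by
    intro v h
    obtain ⟨ht, ha, hz, haz, hp, hq⟩ := F.ev_gens
    rw [← ht, ← hq, ← hz, ← ha, ← hp, ← F.ev_mul, ← F.ev_mul, F.word_ev, ← F.ev_zero] at h
    exact (by decide +kernel : ∀ v : Fin 32, subT 1 (mulT 1 2) 4 (mulT 1 8) 16 v = 0 → v = 0) v (F.ev_inj h)
  mem_T := by
    intro g h1 h2 h3
    have h4 : Commute g F.a := by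
      have := h1.mul_right h2
      rwa [← mul_assoc, F.t_sq, one_mul] at this
    obtain ⟨w, hw⟩ := F.mem_T g h1 h4 h3
    obtain ⟨ht, ha, hz, haz, hp, hq⟩ := F.ev_gens
    rw [← ht, ← hq, ← hz, ← ha, ← hp, ← F.ev_mul, ← F.ev_mul]
    simp only [F.word_ev, hw]
    obtain ⟨v, hv⟩ := (by decide +kernel : ∀ w : Fin 32, ∃ v : Fin 32, w = subT 1 (mulT 1 2) 4 (mulT 1 8) 16 v) w
    exact ⟨v, F.ev_rel hv⟩
  card_C := F.card_C
  x_t := F.x_t
  x_a := by rw [conj_mul, F.x_t, F.x_a]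
  x_p := by rw [conj_mul, F.x_t, F.x_p, mul_assoc]
  x_pz := by rw [mul_assoc F.t, conj_mul, F.x_t, F.x_pz]
  x_cube := F.x_cube
  x_inv := by
    have e : F.q * (F.t * F.a * F.z) = F.t * (F.q * (F.a * F.z)) := by
      obtain ⟨ht, ha, hz, haz, hp, hq⟩ := F.ev_gens
      simp only [← ht, ← ha, ← hz, ← hp, ← hq, ← F.ev_mul]; exact F.ev_rel (by decide +kernel)
    have c1 : F.x * F.t = F.t * F.x := mul_inv_eq_iff_eq_mul.mp F.x_t
    have c2 : F.q * (F.a * F.z) * F.t = F.t * (F.q * (F.a * F.z)) := by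
      obtain ⟨ht, ha, hz, haz, hp, hq⟩ := F.ev_gens
      simp only [← ht, ← ha, ← hz, ← hp, ← hq, ← F.ev_mul]; exact F.ev_rel (by decide +kernel)
    rw [e]
    calc F.t * (F.q * (F.a * F.z)) * F.x * (F.t * (F.q * (F.a * F.z)))
        = F.t * (F.q * (F.a * F.z)) * (F.x * F.t) * (F.q * (F.a * F.z)) := by group
      _ = F.t * (F.q * (F.a * F.z) * F.t) * F.x * (F.q * (F.a * F.z)) := by rw [c1]; group
      _ = F.t * F.t * (F.q * (F.a * F.z) * F.x * (F.q * (F.a * F.z))) := by rw [c2]; group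
      _ = F.x⁻¹ := by rw [F.t_sq, one_mul, F.x_inv]
  y_t := F.y_t
  y_a := by rw [conj_mul, F.y_t, F.y_a]
  y_z := F.y_z
  y_q := F.y_q
  y_cube := F.y_cube
  y_inv := by
    have c1 : F.y * F.t = F.t * F.y := mul_inv_eq_iff_eq_mul.mp F.y_t
    calc F.t * F.p * F.y * (F.t * F.p) = F.t * F.p * (F.y * F.t) * F.p := by group
      _ = F.t * (F.p * F.t) * F.y * F.p := by rw [c1]; group
      _ = F.t * F.t * (F.p * F.y * F.p) := by rw [← F.ctp]; group
      _ = F.y⁻¹ := by rw [F.t_sq, one_mul, F.y_inv]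
  a_cls := by
    intro g hg
    have hgt : g * F.t * g⁻¹ = F.t := by rw [hg.eq, mul_inv_cancel_right]
    have tt : F.t * (F.t * F.a) = F.a := by rw [← mul_assoc, F.t_sq, one_mul]
    rw [conj_mul, hgt]
    obtain ⟨h1, h2, h3⟩ := F.a_cls g hg
    refine ⟨fun h => ?_, fun h => h2 (mul_left_cancel (a := F.t) h), fun h => ?_⟩
    · rw [mul_assoc F.t F.a] at h
      exact h1 (mul_left_cancel (a := F.t) h)
    · rw [mul_assoc F.t F.a] at h
      exact h3 (mul_left_cancel (a := F.t) h)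
  b_cls := by
    intro g hg
    have hgt : g * F.t * g⁻¹ = F.t := by rw [hg.eq, mul_inv_cancel_right]
    rw [mul_assoc F.t, conj_mul, hgt]
    obtain ⟨h1, h2⟩ := F.b_cls g hg
    exact ⟨fun h => h1 (mul_left_cancel (a := F.t) h), fun h => h2 (mul_left_cancel (a := F.t) h)⟩
  z_count := F.z_count
  tri_a := fun g h1 h2 => F.tri_a g h1 (by
    have := h1.mul_right h2
    rwa [← mul_assoc, F.t_sq, one_mul] at this)
  tri_b := by
    intro g h1 h2 h3
    have h4 : Commute g (F.a * F.z) := by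
      have := h1.mul_right h2
      rwa [← mul_assoc, ← mul_assoc, F.t_sq, one_mul] at this
    have e : F.t * F.p * (F.t * F.a) = F.p * F.a := by
      obtain ⟨ht, ha, hz, haz, hp, hq⟩ := F.ev_gens
      simp only [← ht, ← ha, ← hz, ← hp, ← hq, ← F.ev_mul]; exact F.ev_rel (by decide +kernel)
    rw [e]
    exact F.tri_b g h1 h4 h3

end Frame

end CfsgLib.InvCentS6
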