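import Cfsg.Agent.Lib.InvCentS6.Class

/-!
Fusion in the centre of the Sylow subgroup of the centralizer.
-/

set_option autoImplicit false

namespace CfsgLib.InvCentS6

variable {G : Type*} [Group G]

/-- Fibres of conjugation of an element by a subgroup. -/
theorem card_conj_fibre [Finite G] (M : Subgroup G) (t : G) (Δ : Finset G)
    (hmap : ∀ g ∈ M, g * t * g⁻¹ ∈ Δ) (hsurj : ∀ u ∈ Δ, ∃ g ∈ M, g * t * g⁻¹ = u) :
    Nat.card M = Δ.card * Nat.card (M ⊓ Subgroup.centralizer ({t} : Set G) : Subgroup G) := by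
  classical
  let f : M → Δ := fun g => ⟨g.1 * t * g.1⁻¹, hmap g.1 g.2⟩
  have hf : ∀ x : Δ, Nat.card {g : M // f g = x}
      = Nat.card (M ⊓ Subgroup.centralizer ({t} : Set G) : Subgroup G) := by
    intro x
    obtain ⟨c, hcM, hc⟩ := hsurj x.1 x.2
    have key : ∀ g : M, f g = x ↔ c⁻¹ * g.1 ∈ Subgroup.centralizer ({t} : Set G) := by
      intro g
      rw [Subgroup.mem_centralizer_singleton_iff, Subtype.ext_iff]
      change g.1 * t * g.1⁻¹ = (x : G) ↔ _
      rw [← hc]
      constructor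
      · intro e
        calc c⁻¹ * g.1 * t = c⁻¹ * (g.1 * t * g.1⁻¹) * g.1 := by group
          _ = c⁻¹ * (c * t * c⁻¹) * g.1 := by rw [e]
          _ = t * (c⁻¹ * g.1) := by group
      · intro e
        calc g.1 * t * g.1⁻¹ = c * (c⁻¹ * g.1 * t) * g.1⁻¹ := by group
          _ = c * (t * (c⁻¹ * g.1)) * g.1⁻¹ := by rw [e]
          _ = c * t * c⁻¹ := by group
    exact Nat.card_congr
      { toFun := fun g => ⟨c⁻¹ * g.1.1, M.mul_mem (M.inv_mem hcM) g.1.2, (key g.1).mp g.2⟩
        invFun := fun d => ⟨⟨c * d.1, M.mul_mem hcM d.2.1⟩, (key _).mpr (by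
          rw [inv_mul_cancel_left]; exact d.2.2)⟩
        left_inv := fun g => by ext; simp
        right_inv := fun d => by ext; simp }
  rw [← Nat.card_congr (Equiv.sigmaFiberEquiv f), Nat.card_sigma, Finset.sum_congr rfl (fun x _ => hf x),
    Finset.sum_const, Finset.card_univ, smul_eq_mul, Fintype.card_coe]

namespace Frame

variable (F : Frame G)

/-- The parity functional with a given mask. -/
def par (m v : Fin 32) : Bool :=
  ((m.val &&& v.val).testBit 0 ^^ (m.val &&& v.val).testBit 1) ^^ ((m.val &&& v.val).testBit 2 ^^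
    ((m.val &&& v.val).testBit 3 ^^ (m.val &&& v.val).testBit 4))

/-- Transfer to the Sylow subgroup of the centralizer: only the central conjugates matter. -/
theorem index_two_of_center [Finite G] (m : Fin 32) (hm : m.val.testBit 2 = false) [DecidablePred (IsConj F.t)]
    (hodd : Odd (Finset.univ.filter fun w : Fin 32 => w < 8 ∧ IsConj F.t (F.ev w) ∧ par m w = true).card) :
    ∃ H : Subgroup G, H.index = 2 := by
  classical
  have hpar : ∀ m : Fin 32, m.val.testBit 2 = false →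
      ∀ v w : Fin 32, par m (mulT v w) = (par m v ^^ par m w) := by decide +kernel
  let enc : Bool → Z2 := fun b => if b then Multiplicative.ofAdd 1 else 1
  have henc : ∀ u v : Bool, enc (u ^^ v) = enc u * enc v := by decide
  let e : Fin 32 ≃ F.Tsub := Equiv.ofInjective F.ev F.ev_inj
  let f : F.Tsub →* Z2 := MonoidHom.mk' (fun g => enc (par m (e.symm g))) fun g g' => by
    obtain ⟨v, rfl⟩ := e.surjective g
    obtain ⟨w, rfl⟩ := e.surjective g'
    have : e v * e w = e (mulT v w) := Subtype.ext (F.ev_mul v w).symm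
    rw [this, e.symm_apply_apply, e.symm_apply_apply, e.symm_apply_apply, hpar m hm, henc]
  obtain ⟨k, hk, hc⟩ := F.card_C
  let S := Finset.univ.filter fun v : Fin 32 => IsConj F.t (F.ev v) ∧ par m v = true
  have hN : Nat.card {x : F.Tsub // IsConj F.t (x : G) ∧ f x ≠ 1} = S.card := by
    rw [← Fintype.card_coe, ← Nat.card_eq_fintype_card]
    refine Nat.card_congr (Equiv.subtypeEquiv e fun v => ?_).symm
    change v ∈ S ↔ IsConj F.t (F.ev v) ∧ enc (par m (e.symm (e v))) ≠ 1
    rw [Finset.mem_filter, e.symm_apply_apply]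
    cases par m v <;> simp [enc]
  refine index_two_of_transfer F.t F.t_sq F.Tsub f (S.card * k) (Odd.mul ?_ hk) (by
    rw [hN, hc, F.card_Tsub]; ring)
  let A := S.filter fun v => v < 8
  let B := S.filter fun v => ¬ v < 8
  have hAB : S.card = A.card + B.card := (Finset.card_filter_add_card_filter_not _).symm
  have hA : A = Finset.univ.filter fun w : Fin 32 => w < 8 ∧ IsConj F.t (F.ev w) ∧ par m w = true := by
    ext w
    simp only [A, S, Finset.mem_filter, Finset.mem_univ, true_and]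
    tauto
  have hB : Even B.card := by
    have hconj : ∀ v : Fin 32, ¬ v < 8 → ∃ s : Fin 32, mulT (mulT s v) (invT s) = mulT v 4 := by decide +kernel
    have h4 : ∀ v : Fin 32, mulT (mulT v 4) 4 = v ∧ mulT v 4 ≠ v ∧ (mulT v 4 < 8 ↔ v < 8) := by decide +kernel
    have hmem : ∀ v ∈ B, mulT v 4 ∈ B := by
      intro v hv
      simp only [B, S, Finset.mem_filter, Finset.mem_univ, true_and] at hv ⊢
      obtain ⟨s, hs⟩ := hconj v hv.2
      refine ⟨⟨?_, ?_⟩, fun h => hv.2 ((h4 v).2.2.mp h)⟩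
      · rw [← hs, ← F.ev_conj, isConj_conj_iff]; exact hv.1.1
      · rw [hpar m hm, hv.1.2]
        exact (by decide +kernel : ∀ m : Fin 32, m.val.testBit 2 = false → (true ^^ par m 4) = true) m hm
    have hsum : ∑ _v ∈ B, (1 : ZMod 2) = 0 :=
      Finset.sum_involution (fun v _ => mulT v 4) (fun _ _ => by decide) (fun v _ _ => (h4 v).2.1) hmem
        (fun v _ => (h4 v).1)
    rw [Finset.sum_const, nsmul_one, ZMod.natCast_eq_zero_iff_even] at hsum
    exact hsum
  rw [hAB, hA]
  exact hodd.add_even hB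

/-- Elements normalising the Sylow subgroup of the centralizer. -/
def Normz (n : G) : Prop := ∀ v, ∃ w, n * F.ev v * n⁻¹ = F.ev w

/-- The induced map on coordinates. -/
noncomputable def img {n : G} (hn : F.Normz n) (v : Fin 32) : Fin 32 := (hn v).choose

variable {F}

theorem img_spec {n : G} (hn : F.Normz n) (v : Fin 32) : n * F.ev v * n⁻¹ = F.ev (F.img hn v) := (hn v).choose_spec

theorem img_mul {n : G} (hn : F.Normz n) (v w : Fin 32) :
    F.img hn (mulT v w) = mulT (F.img hn v) (F.img hn w) := F.ev_inj (by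
  rw [← img_spec hn, F.ev_mul, F.ev_mul, ← img_spec hn, ← img_spec hn, conj_mul])

theorem img_inj {n : G} (hn : F.Normz n) : Function.Injective (F.img hn) := fun v w h => F.ev_inj (by
  have h1 := congrArg F.ev h
  rw [← img_spec hn, ← img_spec hn] at h1
  exact mul_left_cancel (mul_right_cancel h1))

theorem img_zero {n : G} (hn : F.Normz n) : F.img hn 0 = 0 := F.ev_inj (by
  rw [← img_spec hn, F.ev_zero]; group)

theorem img_four {n : G} (hn : F.Normz n) : F.img hn 4 = 4 := by
  have h := img_mul hn 24 24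
  rw [show mulT 24 24 = 4 by decide +kernel] at h
  have h0 : F.img hn 4 ≠ 0 := fun e => absurd (img_inj hn (e.trans (img_zero hn).symm)) (by decide)
  have key : ∀ u : Fin 32, mulT u u = 0 ∨ mulT u u = 4 := by decide +kernel
  rcases key (F.img hn 24) with e | e
  · exact absurd (h.trans e) h0
  · exact h.trans e

theorem img_center {n : G} (hn : F.Normz n) {w : Fin 32} (hw : w < 8) : F.img hn w < 8 := by
  have hsurj : Function.Surjective (F.img hn) := Finite.injective_iff_surjective.mp (img_inj hn)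
  refine (by decide +kernel : ∀ u : Fin 32, (∀ v, mulT u v = mulT v u) → u < 8) _ fun v => ?_
  obtain ⟨r, rfl⟩ := hsurj v
  rw [← img_mul hn, ← img_mul hn]
  exact congrArg _ ((by decide +kernel : ∀ w : Fin 32, w < 8 → ∀ r, mulT w r = mulT r w) w hw r)

theorem img_conj {n : G} (hn : F.Normz n) (v : Fin 32) :
    IsConj F.t (F.ev (F.img hn v)) ↔ IsConj F.t (F.ev v) := by
  rw [← img_spec hn, isConj_conj_iff]

theorem img_sq {n : G} (hn : F.Normz n) (v : Fin 32) :
    mulT (F.img hn v) (F.img hn v) = 0 ↔ mulT v v = 0 := by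
  rw [← img_mul hn, ← img_zero hn, (img_inj hn).eq_iff]
  simp [img_zero hn]

theorem Normz.mul {m n : G} (hm : F.Normz m) (hn : F.Normz n) : F.Normz (m * n) := fun v =>
  ⟨F.img hm (F.img hn v), by rw [← img_spec hm, ← img_spec hn]; group⟩

theorem img_comp {m n : G} (hm : F.Normz m) (hn : F.Normz n) (v : Fin 32) :
    F.img (hm.mul hn) v = F.img hm (F.img hn v) := F.ev_inj (by
  rw [← img_spec (hm.mul hn), ← img_spec hm, ← img_spec hn]; group)

theorem Normz.inv [Finite G] {n : G} (hn : F.Normz n) : F.Normz n⁻¹ := fun v => by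
  obtain ⟨r, rfl⟩ := Finite.injective_iff_surjective.mp (img_inj hn) v
  exact ⟨r, by rw [← img_spec hn]; group⟩

theorem Normz.ev (v : Fin 32) : F.Normz (F.ev v) := fun w => ⟨_, F.ev_conj v w⟩

/-- An element of the centralizer normalising the Sylow subgroup lies in it. -/
theorem mem_of_normz_fix {n : G} (hn : F.Normz n) (ht : F.img hn 1 = 1) : n ∈ F.Tsub := by
  have hct : Commute n F.t := by
    have := img_spec hn 1
    rw [ht, F.ev_gens.1] at this
    exact mul_inv_eq_iff_eq_mul.mp this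
  have h4 := img_four hn
  have h5 : F.img hn 5 = 5 := by
    have := img_mul hn 1 4
    rw [ht, h4, show mulT 1 4 = 5 by decide +kernel] at this
    exact this
  obtain ⟨n1, n2, n3⟩ := F.a_cls n hct
  rw [← F.ev_gens.2.1, img_spec hn] at n1 n2 n3
  rw [← F.ev_gens.2.2.1, ← F.ev_mul] at n1
  rw [← F.ev_gens.1, ← F.ev_mul] at n2
  rw [← F.ev_gens.1, ← F.ev_gens.2.2.1, ← F.ev_mul, ← F.ev_mul] at n3
  have ne : ∀ k : Fin 32, k ≠ 2 → F.img hn k = k → F.img hn 2 ≠ k := fun k hk e e2 =>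
    hk (img_inj hn (e.trans e2.symm))
  have key : ∀ u : Fin 32, ¬ u < 8 ∨ u = 0 ∨ u = 1 ∨ u = 4 ∨ u = 5 ∨ u = mulT 2 4 ∨ u = mulT 1 2 ∨
      u = mulT 1 (mulT 2 4) ∨ u = 2 := by decide +kernel
  have h2 : F.img hn 2 = 2 := by
    rcases key (F.img hn 2) with e | e | e | e | e | e | e | e | e
    · exact absurd (img_center hn (by decide)) e
    · exact absurd e (ne 0 (by decide) (img_zero hn))
    · exact absurd e (ne 1 (by decide) ht)
    · exact absurd e (ne 4 (by decide) h4)
    · exact absurd e (ne 5 (by decide) h5)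
    · exact absurd (congrArg F.ev e) n1
    · exact absurd (congrArg F.ev e) n2
    · exact absurd (congrArg F.ev e) n3
    · exact e
  refine F.mem_T' hct ?_ ?_
  · have := img_spec hn 2
    rw [h2, F.ev_gens.2.1] at this
    exact mul_inv_eq_iff_eq_mul.mp this
  · have := img_spec hn 4
    rw [h4, F.ev_gens.2.2.1] at this
    exact mul_inv_eq_iff_eq_mul.mp this

variable (F)

/-- Burnside's lemma for the centre of the Sylow subgroup. -/
theorem exists_normz [Finite G] {w : Fin 32} (hw : w < 8) (hO : IsConj F.t (F.ev w)) :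
    ∃ (n : G) (hn : F.Normz n), F.img hn 1 = w := by
  obtain ⟨c, hc⟩ := isConj_iff.mp hO
  have hle : F.Tsub.map (MulAut.conj c⁻¹).toMonoidHom ≤ Subgroup.centralizer ({F.t} : Set G) := by
    rintro _ ⟨_, ⟨v, rfl⟩, rfl⟩
    rw [Subgroup.mem_centralizer_singleton_iff]
    change c⁻¹ * F.ev v * c⁻¹⁻¹ * F.t = F.t * (c⁻¹ * F.ev v * c⁻¹⁻¹)
    have h1 : F.ev v * F.ev w = F.ev w * F.ev v :=
      F.ev_commute ((by decide +kernel : ∀ w : Fin 32, w < 8 → ∀ v, mulT v w = mulT w v) w hw v)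
    rw [← hc] at h1
    calc c⁻¹ * F.ev v * c⁻¹⁻¹ * F.t = c⁻¹ * (F.ev v * (c * F.t * c⁻¹)) * c := by group
      _ = c⁻¹ * (c * F.t * c⁻¹ * F.ev v) * c := by rw [h1]
      _ = F.t * (c⁻¹ * F.ev v * c⁻¹⁻¹) := by group
  obtain ⟨d, hd, hmem⟩ := F.sylow_conj _ hle (F.isPGroup_Tsub.map _)
  have hn : F.Normz (c * d⁻¹) := by
    intro v
    have hsurj : Function.Surjective (fun g : F.Tsub => (⟨d * (c⁻¹ * g.1 * c⁻¹⁻¹) * d⁻¹,
        hmem _ ⟨g.1, g.2, rfl⟩⟩ : F.Tsub)) :=
      Finite.injective_iff_surjective.mp fun g g' h => by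
        have h1 := congrArg Subtype.val h
        exact Subtype.ext (mul_left_cancel (mul_right_cancel (mul_left_cancel (mul_right_cancel h1))))
    obtain ⟨⟨g, r, hr⟩, hg⟩ := hsurj ⟨F.ev v, F.ev_mem v⟩
    refine ⟨r, ?_⟩
    have h1 : d * (c⁻¹ * g * c⁻¹⁻¹) * d⁻¹ = F.ev v := congrArg Subtype.val hg
    rw [hr, ← h1]
    group
  refine ⟨c * d⁻¹, hn, F.ev_inj ?_⟩
  rw [← img_spec hn, F.ev_gens.1, ← hc]
  calc c * d⁻¹ * F.t * (c * d⁻¹)⁻¹ = c * (d⁻¹ * (F.t * d)) * c⁻¹ := by group
    _ = c * (d⁻¹ * (d * F.t)) * c⁻¹ := by rw [← hd.eq]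
    _ = c * F.t * c⁻¹ := by group

variable {F}

/-- An element fixing a central conjugate of `t` fixes the centre pointwise. -/
theorem img_center_fix [Finite G] {n : G} (hn : F.Normz n) {w : Fin 32} (hw : w < 8)
    (hO : IsConj F.t (F.ev w)) (hfix : F.img hn w = w) : ∀ u : Fin 32, u < 8 → F.img hn u = u := by
  obtain ⟨m, hm, hm1⟩ := F.exists_normz hw hO
  have hk : F.Normz (m⁻¹ * n * m) := (hm.inv.mul hn).mul hm
  have h1 : F.img hk 1 = 1 := F.ev_inj (by
    rw [← img_spec hk, show m⁻¹ * n * m * F.ev 1 * (m⁻¹ * n * m)⁻¹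
      = m⁻¹ * (n * (m * F.ev 1 * m⁻¹) * n⁻¹) * m by group, img_spec hm, hm1, img_spec hn, hfix, ← hm1,
      ← img_spec hm]
    group)
  obtain ⟨r, hr⟩ := mem_of_normz_fix hk h1
  intro u hu
  apply F.ev_inj
  have hmu : F.img hm.inv u < 8 := img_center hm.inv hu
  have hcomm : F.ev r * F.ev (F.img hm.inv u) = F.ev (F.img hm.inv u) * F.ev r :=
    F.ev_commute ((by decide +kernel : ∀ w : Fin 32, w < 8 → ∀ v, mulT v w = mulT w v) _ hmu r)
  rw [hr] at hcomm
  rw [← img_spec hn, ← img_spec hm.inv] at *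
  calc n * F.ev u * n⁻¹ = m * (m⁻¹ * n * m * (m⁻¹ * F.ev u * m⁻¹⁻¹)) * (n * m)⁻¹ := by group
    _ = m * (m⁻¹ * F.ev u * m⁻¹⁻¹ * (m⁻¹ * n * m)) * (n * m)⁻¹ := by rw [hcomm]
    _ = F.ev u := by group

end Frame

end CfsgLib.InvCentS6
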