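import Cfsg.Agent.Lib.InvCentS6.Fusion

/-!
The possible central fusion patterns.
-/

set_option autoImplicit false

namespace CfsgLib.InvCentS6

variable {G : Type*} [Group G] {F : Frame G}

namespace Frame

theorem not_conj_four [Finite G] : ¬ IsConj F.t (F.ev 4) := by
  intro h
  obtain ⟨n, hn, h1⟩ := F.exists_normz (by decide) h
  exact absurd (img_inj hn (h1.trans (img_four hn).symm)) (by decide)

theorem not_conj_zero : ¬ IsConj F.t (F.ev 0) := by
  rw [F.ev_zero, isConj_one_left]
  intro h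
  exact absurd (F.ev_inj (F.ev_gens.1.trans (h.trans F.ev_zero.symm))) (by decide)

theorem conj_shift {k d e : G} (h : k⁻¹ * e * k = e) :
    k * d * k⁻¹ * e * (k * d * k⁻¹)⁻¹ = k * (d * e * d⁻¹) * k⁻¹ := by
  calc k * d * k⁻¹ * e * (k * d * k⁻¹)⁻¹ = k * (d * (k⁻¹ * e * k) * d⁻¹) * k⁻¹ := by group
    _ = _ := by rw [h]

/-- The linear extension of prescribed images of the two generators of the centre. -/
def linC (s1 s2 : Fin 32) (w : Fin 32) : Fin 32 :=
  mulT (mulT (if w.val.testBit 0 then s1 else 0) (if w.val.testBit 1 then s2 else 0))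
    (if w.val.testBit 2 then 4 else 0)

theorem img_eq_linC {n : G} (hn : F.Normz n) {w : Fin 32} (hw : w < 8) :
    F.img hn w = linC (F.img hn 1) (F.img hn 2) w := by
  have h : ∀ e u : Fin 32, F.img hn (if u.val.testBit 0 then e else 0) = (if u.val.testBit 0 then F.img hn e else 0) := by
    intro e u; split
    · rfl
    · exact img_zero hn
  have h' : ∀ (i : ℕ) (e u : Fin 32), F.img hn (if u.val.testBit i then e else 0) = (if u.val.testBit i then F.img hn e else 0) := by
    intro i e u; split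
    · rfl
    · exact img_zero hn
  have hsplit : ∀ w : Fin 32, ¬ w < 8 ∨ w = linC 1 2 w := by decide +kernel
  conv_lhs => rw [(hsplit w).resolve_left (by simpa using hw)]
  simp only [linC, img_mul hn, h', img_four hn]

theorem not_six [Finite G] (h5 : IsConj F.t (F.ev 5))
    (hall : ∀ w : Fin 32, w = 2 ∨ w = 3 ∨ w = 6 ∨ w = 7 → IsConj F.t (F.ev w)) : False := by
  obtain ⟨n, hn, h1⟩ := F.exists_normz (by decide) h5
  have hO : ∀ w : Fin 32, w = 1 ∨ w = 5 ∨ w = 2 ∨ w = 3 ∨ w = 6 ∨ w = 7 → IsConj F.t (F.ev w) := by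
    rintro w (rfl | rfl | h)
    · rw [F.ev_gens.1]
    · exact h5
    · exact hall w h
  have key : ∀ s2 : Fin 32, ¬ s2 < 8 ∨ linC 5 s2 2 ≠ s2 ∨
      (∃ w : Fin 32, (w = 1 ∨ w = 5 ∨ w = 2 ∨ w = 3 ∨ w = 6 ∨ w = 7) ∧ linC 5 s2 w = w) ∨
      (linC 5 s2 (linC 5 s2 1) = 1 ∧ linC 5 s2 (linC 5 s2 2) ≠ 2) ∨ linC 5 s2 2 = 0 ∨ linC 5 s2 2 = 4 ∨
        linC 5 s2 2 = 5 := by decide +kernel
  have e2 : F.img hn 2 < 8 := img_center hn (by decide)
  have el : ∀ w : Fin 32, w < 8 → F.img hn w = linC 5 (F.img hn 2) w := fun w hw => by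
    rw [img_eq_linC hn hw, h1]
  rcases key (F.img hn 2) with h | h | ⟨w, hw, hfix⟩ | ⟨ha, hb⟩ | h | h | h
  · exact h e2
  · exact h (el 2 (by decide)).symm
  · have hlt : w < 8 := by rcases hw with rfl | rfl | rfl | rfl | rfl | rfl <;> decide
    have := img_center_fix hn hlt (hO w hw) ((el w hlt).trans hfix) 1 (by decide)
    rw [h1] at this
    exact absurd this (by decide)
  · have hnn := hn.mul hn
    have f1 : F.img hnn 1 = 1 := by
      rw [img_comp hn hn, el 1 (by decide), el _ (by rw [← el 1 (by decide)]; exact img_center hn (by decide))]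
      exact ha
    have f2 := img_center_fix hnn (by decide) (hO 1 (Or.inl rfl)) f1 2 (by decide)
    rw [img_comp hn hn, el 2 (by decide), el _ (by rw [← el 2 (by decide)]; exact e2)] at f2
    exact hb f2
  · rw [← el 2 (by decide)] at h
    exact absurd (img_inj hn (h.trans (img_zero hn).symm)) (by decide)
  · rw [← el 2 (by decide)] at h
    exact absurd (img_inj hn (h.trans (img_four hn).symm)) (by decide)
  · rw [← el 2 (by decide)] at h
    exact absurd (img_inj hn (h.trans h1.symm)) (by decide)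

/-- The class of the frame inside the Sylow subgroup, by representatives. -/
theorem conj_ev_iff {v : Fin 32} : IsConj F.t (F.ev v) ↔ mulT v v = 0 ∧ IsConj F.t (F.ev (repT v)) := by
  constructor
  · intro hv
    have hv2 : mulT v v = 0 := F.ev_inj (by
      obtain ⟨c, hc⟩ := isConj_iff.mp hv
      rw [F.ev_mul, F.ev_zero, ← hc, show c * F.t * c⁻¹ * (c * F.t * c⁻¹) = c * (F.t * F.t) * c⁻¹ by group, F.t_sq]
      group)
    exact ⟨hv2, (F.ev_conj_class v hv2).mp hv⟩
  · exact fun h => (F.ev_conj_class v h.1).mpr h.2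

theorem not_three [Finite G] {u v : Fin 32} (hu : u = 2 ∨ u = 6) (hv : v = 3 ∨ v = 7)
    (hO : ∀ w : Fin 32, w < 8 → (IsConj F.t (F.ev w) ↔ w = 1 ∨ w = u ∨ w = v)) : False := by
  have hu8 : u < 8 := by rcases hu with rfl | rfl <;> decide
  have hv8 : v < 8 := by rcases hv with rfl | rfl <;> decide
  obtain ⟨n, hn, hn1⟩ := F.exists_normz hu8 ((hO u hu8).mpr (Or.inr (Or.inl rfl)))
  have hne1 : u ≠ 1 ∧ v ≠ 1 ∧ u ≠ v := by
    rcases hu with rfl | rfl <;> rcases hv with rfl | rfl <;> decide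
  have himg : ∀ w : Fin 32, w < 8 → IsConj F.t (F.ev w) →
      F.img hn w = 1 ∨ F.img hn w = u ∨ F.img hn w = v := fun w hw h =>
    (hO _ (img_center hn hw)).mp ((img_conj hn w).mpr h)
  have hu2 : F.img hn u = v := by
    rcases himg u hu8 ((hO u hu8).mpr (Or.inr (Or.inl rfl))) with e | e | e
    · exfalso
      have hv2 : F.img hn v = v := by
        rcases himg v hv8 ((hO v hv8).mpr (Or.inr (Or.inr rfl))) with e' | e' | e'
        · exact absurd (img_inj hn (e.trans e'.symm)) hne1.2.2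
        · exact absurd (img_inj hn (hn1.trans e'.symm)).symm hne1.2.1
        · exact e'
      have := img_center_fix hn hv8 ((hO v hv8).mpr (Or.inr (Or.inr rfl))) hv2 1 (by decide)
      exact hne1.1 (hn1.symm.trans this)
    · exact absurd (img_inj hn (e.trans hn1.symm)) hne1.1
    · exact e
  have hv2 : F.img hn v = 1 := by
    rcases himg v hv8 ((hO v hv8).mpr (Or.inr (Or.inr rfl))) with e | e | e
    · exact e
    · exact absurd (img_inj hn (hn1.trans e.symm)).symm hne1.2.1
    · exact absurd (img_inj hn (hu2.trans e.symm)) hne1.2.2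
  have h3 := hn.mul (hn.mul hn)
  have f3 : F.img h3 1 = 1 := by rw [img_comp hn (hn.mul hn), img_comp hn hn, hn1, hu2, hv2]
  obtain ⟨r, hr⟩ := mem_of_normz_fix h3 f3
  have h4 := hn.mul h3
  have pow4 : ∀ r : Fin 32, mulT (mulT r r) (mulT r r) = 0 := by decide +kernel
  have hg3 : n * (n * (n * n)) * (n * (n * (n * n))) * (n * (n * (n * n))) = 1 := by
    calc _ = n * (n * n) * (n * (n * n)) * (n * (n * n) * (n * (n * n))) := by group
      _ = F.ev r * F.ev r * (F.ev r * F.ev r) := by rw [hr]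
      _ = 1 := by rw [← F.ev_mul, ← F.ev_mul, pow4, F.ev_zero]
  have g1 : F.img h4 1 = u := by rw [img_comp hn h3, f3, hn1]
  have hcube : ∀ w, F.img h4 (F.img h4 (F.img h4 w)) = w := fun w => F.ev_inj (by
    rw [← img_spec h4, ← img_spec h4, ← img_spec h4]
    calc _ = n * (n * (n * n)) * (n * (n * (n * n))) * (n * (n * (n * n))) * F.ev w
          * (n * (n * (n * n)) * (n * (n * (n * n))) * (n * (n * (n * n))))⁻¹ := by group
      _ = F.ev w := by rw [hg3]; group)
  have gu : F.img h4 u = v := by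
    rw [img_comp hn h3, show F.img h3 u = u from img_center_fix h3 (by decide : (1 : Fin 32) < 8)
      ((hO 1 (by decide)).mpr (Or.inl rfl)) f3 u hu8, hu2]
  have gv : F.img h4 v = 1 := by
    rw [img_comp hn h3, show F.img h3 v = v from img_center_fix h3 (by decide : (1 : Fin 32) < 8)
      ((hO 1 (by decide)).mpr (Or.inl rfl)) f3 v hv8, hv2]
  clear hn1 hu2 hv2 himg f3 hr
  generalize h4' : n * (n * (n * n)) = g at hg3
  have hg : F.Normz g := h4' ▸ h4
  have hgi : ∀ w, F.img hg w = F.img h4 w := fun w => F.ev_inj (by rw [← img_spec hg, ← img_spec h4, h4'])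
  have g2 := hg.mul hg
  have squares : ∀ w : Fin 32, mulT w w = 0 → w < 8 ∨ (w.val.testBit 3 = true ∧ w.val.testBit 4 = false) ∨
      (w.val.testBit 3 = false ∧ w.val.testBit 4 = true) := by decide +kernel
  have e8 : ∀ k : Fin 32, mulT k k = 0 → ¬ k < 8 → mulT (F.img hg k) (F.img hg k) = 0 ∧ ¬ F.img hg k < 8 := by
    intro k hk hk8
    refine ⟨(img_sq hg k).mpr hk, fun hlt => hk8 ?_⟩
    have : k = F.img hg (F.img hg (F.img hg k)) := by rw [hgi, hgi, hgi, hcube]
    rw [this]
    exact img_center hg (img_center hg hlt)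
  have cls16 : (F.img hg 16).val.testBit 3 = false ∧ (F.img hg 16).val.testBit 4 = true := by
    obtain ⟨s16, n16⟩ := e8 16 (by decide +kernel) (by decide)
    obtain ⟨s8, n8⟩ := e8 8 (by decide +kernel) (by decide)
    rcases squares _ s16 with h | h | h
    · exact absurd h n16
    · exfalso
      obtain ⟨sx, nx⟩ := e8 _ s16 n16
      have same : ∀ a b : Fin 32, a.val.testBit 3 = b.val.testBit 3 → a.val.testBit 4 = b.val.testBit 4 →
          mulT a b < 8 := by decide +kernel
      have h816 : ¬ mulT (F.img hg 8) (F.img hg 16) < 8 := by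
        intro hlt
        rw [← img_mul hg] at hlt
        have h3' : F.img hg (F.img hg (F.img hg (mulT 8 16))) < 8 := img_center hg (img_center hg hlt)
        rw [hgi, hgi, hgi, hcube] at h3'
        exact absurd h3' (by decide +kernel)
      rcases squares _ s8 with k | k | k
      · exact n8 k
      · exact h816 (same _ _ (k.1.trans h.1.symm) (k.2.trans h.2.symm))
      · have hsplit : ∀ w : Fin 32, w.val.testBit 3 = true ∧ w.val.testBit 4 = false →
            ∃ c : Fin 32, c < 8 ∧ w = mulT 8 c := by decide +kernel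
        have hsplit' : ∀ w : Fin 32, w.val.testBit 3 = false ∧ w.val.testBit 4 = true →
            ∃ c : Fin 32, c < 8 ∧ w = mulT 16 c := by decide +kernel
        obtain ⟨c, hc, hc'⟩ := hsplit _ h
        obtain ⟨d, hd, hd'⟩ := hsplit' _ k
        have h16' : F.img hg (F.img hg (F.img hg 16)) = mulT (mulT 8 c) (mulT (F.img hg d) (F.img hg (F.img hg c))) := by
          rw [hc', img_mul hg, hd', img_mul hg, img_mul hg, hc']
          exact F.ev_inj (by simp only [F.ev_mul, mul_assoc])
        rw [show F.img hg (F.img hg (F.img hg 16)) = 16 by rw [hgi, hgi, hgi, hcube]] at h16'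
        have hlt := img_center hg hd
        have hlt' := img_center hg (img_center hg hc)
        have c1 : ∀ d e : Fin 32, d < 8 → e < 8 → mulT d e < 8 := by decide +kernel
        exact (by decide +kernel : ∀ c d : Fin 32, c < 8 → d < 8 → 16 ≠ mulT (mulT 8 c) d)
          c _ hc (c1 _ _ hlt hlt') h16'
    · exact h
  have cls8 : (F.img hg 8).val.testBit 3 = true ∧ (F.img hg 8).val.testBit 4 = false := by
    obtain ⟨s8, n8⟩ := e8 8 (by decide +kernel) (by decide)
    rcases squares _ s8 with h | h | h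
    · exact absurd h n8
    · exact h
    · exfalso
      have same : ∀ a b : Fin 32, a.val.testBit 3 = b.val.testBit 3 → a.val.testBit 4 = b.val.testBit 4 →
          mulT a b < 8 := by decide +kernel
      have hlt := same _ _ (h.1.trans cls16.1.symm) (h.2.trans cls16.2.symm)
      rw [← img_mul hg] at hlt
      have h3' : F.img hg (F.img hg (F.img hg (mulT 8 16))) < 8 := img_center hg (img_center hg hlt)
      rw [hgi, hgi, hgi, hcube] at h3'
      exact absurd h3' (by decide +kernel)
  -- conjugate the elements of order three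
  have hy : Commute F.y F.t := mul_inv_eq_iff_eq_mul.mp F.y_t
  have hy' : Commute F.y F.a := mul_inv_eq_iff_eq_mul.mp F.y_a
  have hx : Commute F.x F.t := mul_inv_eq_iff_eq_mul.mp F.x_t
  have tr : ∀ {d e : G} (k : Fin 32) (h : G), Commute d e → h * e * h⁻¹ = F.ev k →
      Commute (h * d * h⁻¹) (F.ev k) := by
    intro d e k h hc he
    rw [← he]
    exact (commute_iff_eq _ _).mpr (by
      calc h * d * h⁻¹ * (h * e * h⁻¹) = h * (d * e) * h⁻¹ := by group
        _ = h * (e * d) * h⁻¹ := by rw [hc.eq]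
        _ = h * e * h⁻¹ * (h * d * h⁻¹) := by group)
  rcases hu with rfl | rfl <;> rcases hv with rfl | rfl
  · -- `{t, a, ta}`
    have hset : ∀ k : Fin 32, k ∈ ([8, 9, 12, 13] : List (Fin 32)) → F.img hg k ∈ ([8, 9, 12, 13] : List (Fin 32)) := by
      intro k hk
      have hrep : ∀ k : Fin 32, k ∈ ([8, 9, 12, 13] : List (Fin 32)) →
          mulT k k = 0 ∧ (repT k = 2 ∨ repT k = 3) ∧ k.val.testBit 3 = true := by decide +kernel
      obtain ⟨k2, kr, kb⟩ := hrep k hk
      have hkO : IsConj F.t (F.ev k) := conj_ev_iff.mpr ⟨k2, (hO _ (repT_lt k k2).1).mpr (by tauto)⟩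
      obtain ⟨i2, iO⟩ := conj_ev_iff.mp ((img_conj hg k).mpr hkO)
      have ir := (hO _ (repT_lt _ i2).1).mp iO
      have hsplit : ∀ w : Fin 32, w.val.testBit 3 = true → w.val.testBit 4 = false → ∃ c : Fin 32, c < 8 ∧ w = mulT 8 c := by
        decide +kernel
      have k4 : k.val.testBit 4 = false :=
        (by decide +kernel : ∀ k : Fin 32, k ∈ ([8, 9, 12, 13] : List (Fin 32)) → k.val.testBit 4 = false) k hk
      obtain ⟨c, hc, rfl⟩ := hsplit k kb k4
      have hb : (F.img hg (mulT 8 c)).val.testBit 3 = true ∧ (F.img hg (mulT 8 c)).val.testBit 4 = false := by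
        rw [img_mul hg]
        exact (by decide +kernel : ∀ e c : Fin 32, c < 8 → e.val.testBit 3 = true ∧ e.val.testBit 4 = false →
          (mulT e c).val.testBit 3 = true ∧ (mulT e c).val.testBit 4 = false) _ _ (img_center hg hc) cls8
      exact (by decide +kernel : ∀ w : Fin 32, mulT w w = 0 → w.val.testBit 3 = true ∧ w.val.testBit 4 = false →
        (repT w = 1 ∨ repT w = 2 ∨ repT w = 3) → w ∈ ([8, 9, 12, 13] : List (Fin 32))) _ i2 hb ir
    have c8 := hcube 8
    have c9 := hcube 9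
    simp only [← hgi] at c8 c9
    have key : ∀ i j : Fin 32, i ∈ ([8, 9, 12, 13] : List (Fin 32)) → j ∈ ([8, 9, 12, 13] : List (Fin 32)) →
        let f : Fin 32 → Fin 32 := fun k =>
          if k = 8 then i else if k = 9 then j else if k = 12 then mulT i 4 else mulT j 4
        f (f i) = 8 → f (f j) = 9 → i = j ∨ mulT i j = 1 := by decide +kernel
    have p4 : ∀ k, F.img hg (mulT k 4) = mulT (F.img hg k) 4 := fun k => by rw [img_mul hg, img_four hg]
    have hf : ∀ k ∈ ([8, 9, 12, 13] : List (Fin 32)), F.img hg k =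
        if k = 8 then F.img hg 8 else if k = 9 then F.img hg 9 else
          if k = 12 then mulT (F.img hg 8) 4 else mulT (F.img hg 9) 4 := by
      intro k hk
      simp only [List.mem_cons, List.not_mem_nil, or_false] at hk
      rcases hk with rfl | rfl | rfl | rfl
      · rfl
      · rfl
      · exact (congrArg (F.img hg) (by decide +kernel : (12 : Fin 32) = mulT 8 4)).trans (p4 8)
      · exact (congrArg (F.img hg) (by decide +kernel : (13 : Fin 32) = mulT 9 4)).trans (p4 9)
    have m8 := hset 8 (by decide)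
    have m9 := hset 9 (by decide)
    rw [hf _ (hset _ m8), hf _ m8] at c8
    rw [hf _ (hset _ m9), hf _ m9] at c9
    rcases key _ _ m8 m9 c8 c9 with e | e
    · exact absurd (img_inj hg e) (by decide)
    · rw [← img_mul hg, show mulT 8 9 = 1 by decide +kernel, hgi, g1] at e
      exact absurd e (by decide)
  · -- `{t, a, tb}`
    have hh1 : F.img g2 1 = 7 := by rw [img_comp hg hg, hgi, hgi, g1, gu]
    have hh2 : F.img g2 2 = 1 := by rw [img_comp hg hg, hgi, hgi, gu, gv]
    have hh : F.img g2 16 = F.img hg (F.img hg 16) := img_comp hg hg 16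
    have hw7 : Commute (g * g * F.y * (g * g)⁻¹) (F.ev 7) :=
      tr 7 (g * g) (hy) (by rw [← F.ev_gens.1, img_spec g2, hh1])
    have hw1 : Commute (g * g * F.y * (g * g)⁻¹) (F.ev 1) :=
      tr 1 (g * g) (hy') (by rw [← F.ev_gens.2.1, img_spec g2, hh2])
    have hwz : g * g * F.y * (g * g)⁻¹ * F.z * (g * g * F.y * (g * g)⁻¹)⁻¹ = F.ev (F.img g2 16) := by
      have hz : (g * g)⁻¹ * F.z * (g * g) = F.z := by
        have := img_spec g2 4
        rw [img_four g2, F.ev_gens.2.2.1] at this
        calc (g * g)⁻¹ * F.z * (g * g) = (g * g)⁻¹ * (g * g * F.z * (g * g)⁻¹) * (g * g) := by rw [this]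
          _ = F.z := by group
      rw [← img_spec g2, F.ev_gens.2.2.2.2.2, ← F.y_z]
      exact conj_shift hz
    have hcm : Commute (F.ev (F.img g2 16)) F.z := F.ev_comm_z _
    have cb : (F.img g2 16).val.testBit 4 = true := by
      rw [hh]
      obtain ⟨c, hc, hc'⟩ := (by decide +kernel : ∀ w : Fin 32, w.val.testBit 3 = false ∧ w.val.testBit 4 = true →
        ∃ c : Fin 32, c < 8 ∧ w = mulT 16 c) _ cls16
      rw [hc', img_mul hg]
      exact (by decide +kernel : ∀ e c : Fin 32, c < 8 → e.val.testBit 4 = true → (mulT e c).val.testBit 4 = true)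
        _ _ (img_center hg hc) cls16.2
    have haz : Commute (g * g * F.y * (g * g)⁻¹) (F.a * F.z) := by
      have := hw1.mul_right hw7
      rwa [← F.ev_mul, show mulT 1 7 = 6 by decide +kernel, F.ev_gens.2.2.2.1] at this
    rw [F.ev_gens.1] at hw1
    rcases F.tri_b _ hw1 haz (by rw [hwz]; exact hcm) with e | e | e <;> rw [hwz] at e
    · rw [← F.ev_gens.2.2.1] at e
      rw [F.ev_inj e] at cb
      exact absurd cb (by decide)
    · rw [← F.ev_gens.2.2.2.2.1, ← F.ev_gens.2.1, ← F.ev_mul] at e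
      rw [F.ev_inj e] at cb
      exact absurd cb (by decide +kernel)
    · rw [← F.ev_gens.2.2.2.2.1, ← F.ev_gens.2.1, ← F.ev_gens.2.2.1, ← F.ev_mul, ← F.ev_mul] at e
      rw [F.ev_inj e] at cb
      exact absurd cb (by decide +kernel)
  · -- `{t, b, ta}`
    have hh6 : F.img g2 6 = 1 := by rw [img_comp hg hg, hgi, hgi, gu, gv]
    have hh1 : F.img g2 1 = 3 := by rw [img_comp hg hg, hgi, hgi, g1, gu]
    have hxb : Commute F.x (F.a * F.z) := by
      refine mul_inv_eq_iff_eq_mul.mp ?_
      rw [conj_mul, F.x_a, F.conj_z, ← F.ev_gens.2.2.2.2.1, ← F.ev_gens.2.1, ← F.ev_gens.2.2.1, ← F.ev_mul,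
        ← F.ev_mul, ← F.ev_mul, ← F.ev_mul]
      exact F.ev_rel (by decide +kernel)
    have hw3 : Commute (g * g * F.x * (g * g)⁻¹) (F.ev 3) :=
      tr 3 (g * g) (hx) (by rw [← F.ev_gens.1, img_spec g2, hh1])
    have hw1 : Commute (g * g * F.x * (g * g)⁻¹) (F.ev 1) :=
      tr 1 (g * g) (hxb) (by rw [← F.ev_gens.2.2.2.1, img_spec g2, hh6])
    have hwz : g * g * F.x * (g * g)⁻¹ * F.z * (g * g * F.x * (g * g)⁻¹)⁻¹ = F.ev (F.img g2 (mulT (mulT 8 4) 2)) := by
      have hz : (g * g)⁻¹ * F.z * (g * g) = F.z := by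
        have := img_spec g2 4
        rw [img_four g2, F.ev_gens.2.2.1] at this
        calc (g * g)⁻¹ * F.z * (g * g) = (g * g)⁻¹ * (g * g * F.z * (g * g)⁻¹) * (g * g) := by rw [this]
          _ = F.z := by group
      rw [← img_spec g2, F.ev_mul, F.ev_mul, F.ev_gens.2.2.2.2.1, F.ev_gens.2.2.1, F.ev_gens.2.1, ← F.conj_z]
      exact conj_shift hz
    have hcm : Commute (F.ev (F.img g2 (mulT (mulT 8 4) 2))) F.z := F.ev_comm_z _
    have cb : (F.img g2 (mulT (mulT 8 4) 2)).val.testBit 3 = true := by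
      rw [img_mul g2, img_mul g2, img_comp hg hg 8]
      obtain ⟨c, hc, hc'⟩ := (by decide +kernel : ∀ w : Fin 32, w.val.testBit 3 = true ∧ w.val.testBit 4 = false →
        ∃ c : Fin 32, c < 8 ∧ w = mulT 8 c) _ cls8
      rw [hc', img_mul hg]
      have step : ∀ e c : Fin 32, c < 8 → e.val.testBit 3 = true → (mulT e c).val.testBit 3 = true := by
        decide +kernel
      exact step _ _ (img_center g2 (by decide)) (step _ _ (img_center g2 (by decide))
        (step _ _ (img_center hg hc) cls8.1))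
    have ha : Commute (g * g * F.x * (g * g)⁻¹) F.a := by
      have := hw1.mul_right hw3
      rwa [← F.ev_mul, show mulT 1 3 = 2 by decide +kernel, F.ev_gens.2.1] at this
    rw [F.ev_gens.1] at hw1
    rcases F.tri_a _ hw1 ha (by rw [hwz]; exact hcm) with e | e | e <;> rw [hwz] at e
    · rw [← F.ev_gens.2.2.1] at e
      rw [F.ev_inj e] at cb
      exact absurd cb (by decide)
    · rw [← F.ev_gens.2.2.2.2.2] at e
      rw [F.ev_inj e] at cb
      exact absurd cb (by decide)
    · rw [← F.ev_gens.2.2.2.2.2, ← F.ev_gens.2.2.1, ← F.ev_mul] at e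
      rw [F.ev_inj e] at cb
      exact absurd cb (by decide +kernel)
  · -- `{t, b, tb}`
    have hset : ∀ k : Fin 32, k ∈ ([18, 19, 22, 23] : List (Fin 32)) → F.img hg k ∈ ([18, 19, 22, 23] : List (Fin 32)) := by
      intro k hk
      have hrep : ∀ k : Fin 32, k ∈ ([18, 19, 22, 23] : List (Fin 32)) →
          mulT k k = 0 ∧ (repT k = 6 ∨ repT k = 7) ∧ k.val.testBit 4 = true := by decide +kernel
      obtain ⟨k2, kr, kb⟩ := hrep k hk
      have hkO : IsConj F.t (F.ev k) := conj_ev_iff.mpr ⟨k2, (hO _ (repT_lt k k2).1).mpr (by tauto)⟩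
      obtain ⟨i2, iO⟩ := conj_ev_iff.mp ((img_conj hg k).mpr hkO)
      have ir := (hO _ (repT_lt _ i2).1).mp iO
      have hsplit : ∀ w : Fin 32, w.val.testBit 4 = true → w.val.testBit 3 = false → ∃ c : Fin 32, c < 8 ∧ w = mulT 16 c := by
        decide +kernel
      have k4 : k.val.testBit 3 = false :=
        (by decide +kernel : ∀ k : Fin 32, k ∈ ([18, 19, 22, 23] : List (Fin 32)) → k.val.testBit 3 = false) k hk
      obtain ⟨c, hc, rfl⟩ := hsplit k kb k4
      have hb : (F.img hg (mulT 16 c)).val.testBit 3 = false ∧ (F.img hg (mulT 16 c)).val.testBit 4 = true := by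
        rw [img_mul hg]
        exact (by decide +kernel : ∀ e c : Fin 32, c < 8 → e.val.testBit 3 = false ∧ e.val.testBit 4 = true →
          (mulT e c).val.testBit 3 = false ∧ (mulT e c).val.testBit 4 = true) _ _ (img_center hg hc) cls16
      exact (by decide +kernel : ∀ w : Fin 32, mulT w w = 0 → w.val.testBit 3 = false ∧ w.val.testBit 4 = true →
        (repT w = 1 ∨ repT w = 6 ∨ repT w = 7) → w ∈ ([18, 19, 22, 23] : List (Fin 32))) _ i2 hb ir
    have c8 := hcube 18
    have c9 := hcube 19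
    simp only [← hgi] at c8 c9
    have key : ∀ i j : Fin 32, i ∈ ([18, 19, 22, 23] : List (Fin 32)) → j ∈ ([18, 19, 22, 23] : List (Fin 32)) →
        let f : Fin 32 → Fin 32 := fun k =>
          if k = 18 then i else if k = 19 then j else if k = 22 then mulT i 4 else mulT j 4
        f (f i) = 18 → f (f j) = 19 → i = j ∨ mulT i j = 1 := by decide +kernel
    have p4 : ∀ k, F.img hg (mulT k 4) = mulT (F.img hg k) 4 := fun k => by rw [img_mul hg, img_four hg]
    have hf : ∀ k ∈ ([18, 19, 22, 23] : List (Fin 32)), F.img hg k =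
        if k = 18 then F.img hg 18 else if k = 19 then F.img hg 19 else
          if k = 22 then mulT (F.img hg 18) 4 else mulT (F.img hg 19) 4 := by
      intro k hk
      simp only [List.mem_cons, List.not_mem_nil, or_false] at hk
      rcases hk with rfl | rfl | rfl | rfl
      · rfl
      · rfl
      · exact (congrArg (F.img hg) (by decide +kernel : (22 : Fin 32) = mulT 18 4)).trans (p4 18)
      · exact (congrArg (F.img hg) (by decide +kernel : (23 : Fin 32) = mulT 19 4)).trans (p4 19)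
    have m8 := hset 18 (by decide)
    have m9 := hset 19 (by decide)
    rw [hf _ (hset _ m8), hf _ m8] at c8
    rw [hf _ (hset _ m9), hf _ m9] at c9
    rcases key _ _ m8 m9 c8 c9 with e | e
    · exact absurd (img_inj hg e) (by decide)
    · rw [← img_mul hg, show mulT 18 19 = 1 by decide +kernel, hgi, g1] at e
      exact absurd e (by decide)

theorem sign_case [Finite G] (h5 : IsConj F.t (F.ev 5))
    (hO : ∀ w : Fin 32, w < 8 → IsConj F.t (F.ev w) → w = 1 ∨ w = 5) : ∃ H : Subgroup G, H.index = 2 := by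
  classical
  let Δ : Finset (Fin 32) := {1, 5, 17, 21}
  obtain ⟨h, hn, h1⟩ := F.exists_normz (by decide) h5
  have h5' : F.img hn 5 = 1 := by
    rcases hO _ (img_center hn (by decide)) ((img_conj hn 5).mpr h5) with e | e
    · exact e
    · exact absurd (img_inj hn (h1.trans e.symm)) (by decide)
  have him : ∀ v, IsConj F.t (F.ev v) → ¬ v < 8 → F.img hn v ∈ ([11, 15, 17, 21] : List (Fin 32)) := by
    intro v hv hv8
    obtain ⟨i2, iO⟩ := conj_ev_iff.mp ((img_conj hn v).mpr hv)
    have hne : ¬ F.img hn v < 8 := by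
      intro hlt
      rcases hO _ hlt ((img_conj hn v).mpr hv) with e | e
      · exact hv8 ((img_inj hn (h5'.trans e.symm)) ▸ (by decide : (5 : Fin 32) < 8))
      · exact hv8 ((img_inj hn (h1.trans e.symm)) ▸ (by decide : (1 : Fin 32) < 8))
    exact (by decide +kernel : ∀ w : Fin 32, mulT w w = 0 → ¬ w < 8 → (repT w = 1 ∨ repT w = 5) →
      w ∈ ([11, 15, 17, 21] : List (Fin 32))) _ i2 hne (hO _ (repT_lt _ i2).1 iO)
  have cO : ∀ v : Fin 32, v ∈ ([11, 15, 17, 21] : List (Fin 32)) → IsConj F.t (F.ev v) := by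
    intro v hv
    refine conj_ev_iff.mpr ((by decide +kernel : ∀ v : Fin 32, v ∈ ([11, 15, 17, 21] : List (Fin 32)) →
      mulT v v = 0 ∧ repT v = 5) v hv |>.imp_right fun e => ?_)
    rw [e]; exact h5
  have i17 := him 17 (cO 17 (by decide)) (by decide)
  have i21e : F.img hn 21 = mulT (F.img hn 17) 4 := by
    rw [show (21 : Fin 32) = mulT 17 4 by decide +kernel, img_mul hn, img_four hn]
  have i11 := him 11 (cO 11 (by decide)) (by decide)
  have i15e : F.img hn 15 = mulT (F.img hn 11) 4 := by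
    rw [show (15 : Fin 32) = mulT 11 4 by decide +kernel, img_mul hn, img_four hn]
  -- stabiliser of the clique
  let M : Subgroup G :=
    { carrier := {g | ∀ v ∈ Δ, ∃ w ∈ Δ, g * F.ev v * g⁻¹ = F.ev w}
      one_mem' := fun v hv => ⟨v, hv, by group⟩
      mul_mem' := fun {a b} ha hb v hv => by
        obtain ⟨w, hw, e⟩ := hb v hv
        obtain ⟨u, hu, e'⟩ := ha w hw
        exact ⟨u, hu, by rw [← e', ← e]; group⟩
      inv_mem' := fun {a} ha v hv => by
        have hinj : Set.InjOn (fun v => Classical.epsilon fun w => w ∈ Δ ∧ a * F.ev v * a⁻¹ = F.ev w) (Δ : Set (Fin 32)) := by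
          intro v hv w hw e
          have e1 := Classical.epsilon_spec (p := fun u => u ∈ Δ ∧ a * F.ev v * a⁻¹ = F.ev u) (ha v hv)
          have e2 := Classical.epsilon_spec (p := fun u => u ∈ Δ ∧ a * F.ev w * a⁻¹ = F.ev u) (ha w hw)
          simp only at e
          rw [e] at e1
          exact F.ev_inj (mul_left_cancel (mul_right_cancel (e1.2.trans e2.2.symm)))
        obtain ⟨u, hu, e⟩ := Finset.surj_on_of_inj_on_of_card_le
          (fun v _ => Classical.epsilon fun w => w ∈ Δ ∧ a * F.ev v * a⁻¹ = F.ev w)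
          (fun v hv => (Classical.epsilon_spec (p := fun u => u ∈ Δ ∧ a * F.ev v * a⁻¹ = F.ev u) (ha v hv)).1)
          (fun v w hv hw => hinj hv hw) le_rfl v hv
        have e1 := Classical.epsilon_spec (p := fun w => w ∈ Δ ∧ a * F.ev u * a⁻¹ = F.ev w) (ha u hu)
        exact ⟨u, hu, by rw [e, ← e1.2]; group⟩ }
  have hT : F.Tsub ≤ M := by
    rintro _ ⟨s, rfl⟩ v hv
    exact ⟨_, (by decide +kernel : ∀ s v : Fin 32, v ∈ ({1, 5, 17, 21} : Finset (Fin 32)) →
      mulT (mulT s v) (invT s) ∈ ({1, 5, 17, 21} : Finset (Fin 32))) s v hv, F.ev_conj s v⟩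
  have yv : F.y * F.ev 1 * F.y⁻¹ = F.ev 1 ∧ F.y * F.ev 5 * F.y⁻¹ = F.ev 17 ∧ F.y * F.ev 17 * F.y⁻¹ = F.ev 21 ∧
      F.y * F.ev 21 * F.y⁻¹ = F.ev 5 := by
    obtain ⟨ht, ha, hz, haz, hp, hq⟩ := F.ev_gens
    refine ⟨?_, ?_, ?_, ?_⟩
    · rw [ht, F.y_t]
    · rw [show (5 : Fin 32) = mulT 1 4 by decide +kernel, show (17 : Fin 32) = mulT 1 16 by decide +kernel,
        F.ev_mul, F.ev_mul, ht, hz, hq, conj_mul, F.y_t, F.y_z]
    · rw [show (21 : Fin 32) = mulT (mulT 1 16) 4 by decide +kernel, show (17 : Fin 32) = mulT 1 16 by decide +kernel,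
        F.ev_mul, F.ev_mul, F.ev_mul, ht, hz, hq, conj_mul, F.y_t, F.y_q, mul_assoc]
    · rw [show (5 : Fin 32) = mulT 1 4 by decide +kernel, show (21 : Fin 32) = mulT 1 (mulT 16 4) by decide +kernel,
        F.ev_mul, F.ev_mul, F.ev_mul, ht, hz, hq, conj_mul, conj_mul, F.y_t, F.y_q, F.y_z, F.qp_aux]
  have hy : F.y ∈ M := by
    intro v hv
    simp only [Δ, Finset.mem_insert, Finset.mem_singleton] at hv
    rcases hv with rfl | rfl | rfl | rfl
    · exact ⟨1, by decide, yv.1⟩
    · exact ⟨17, by decide, yv.2.1⟩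
    · exact ⟨21, by decide, yv.2.2.1⟩
    · exact ⟨5, by decide, yv.2.2.2⟩
  -- an element of the stabiliser taking `t` to `tz`
  obtain ⟨g, hgM, hg⟩ : ∃ g ∈ M, g * F.ev 1 * g⁻¹ = F.ev 5 := by
    by_cases hc : F.img hn 17 = 17 ∨ F.img hn 17 = 21
    · refine ⟨h, fun v hv => ?_, by rw [img_spec hn, h1]⟩
      simp only [Δ, Finset.mem_insert, Finset.mem_singleton] at hv
      refine ⟨_, ?_, img_spec hn v⟩
      rcases hv with rfl | rfl | rfl | rfl
      · rw [h1]; decide
      · rw [h5']; decide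
      · rcases hc with e | e <;> rw [e] <;> decide
      · rw [i21e]; rcases hc with e | e <;> rw [e] <;> decide +kernel
    · have hd : F.img hn 17 = 11 ∨ F.img hn 17 = 15 := by
        simp only [List.mem_cons, List.not_mem_nil, or_false] at i17; tauto
      have i11' : F.img hn 11 = 17 ∨ F.img hn 11 = 21 := by
        simp only [List.mem_cons, List.not_mem_nil, or_false] at i11
        have ne1 : F.img hn 11 ≠ F.img hn 17 := fun e => absurd (img_inj hn e) (by decide)
        have ne2 : F.img hn 11 ≠ F.img hn 21 := fun e => absurd (img_inj hn e) (by decide)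
        rw [i21e] at ne2
        have t1 : mulT 11 4 = 15 ∧ mulT 15 4 = 11 := by decide +kernel
        rcases hd with e | e <;> rw [e] at ne1 ne2
        · rw [t1.1] at ne2
          rcases i11 with f | f | f | f
          exacts [absurd f ne1, absurd f ne2, Or.inl f, Or.inr f]
        · rw [t1.2] at ne2
          rcases i11 with f | f | f | f
          exacts [absurd f ne2, absurd f ne1, Or.inl f, Or.inr f]
      -- the element of order three on the other clique
      let c := F.x⁻¹
      have hxi : c * F.t * c⁻¹ = F.t := F.mirror.y_t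
      have cv : c * F.ev 5 * c⁻¹ = F.ev 11 ∧ c * F.ev 11 * c⁻¹ = F.ev 15 ∧ c * F.ev 15 * c⁻¹ = F.ev 5 ∧
          c * F.ev 1 * c⁻¹ = F.ev 1 := by
        obtain ⟨ht, ha, hz, haz, hp, hq⟩ := F.ev_gens
        have e11 : (11 : Fin 32) = mulT 1 (mulT 8 2) := by decide +kernel
        have e15 : (15 : Fin 32) = mulT 1 (mulT (mulT 8 2) 4) := by decide +kernel
        have yz := F.mirror.y_z
        have yq := F.mirror.y_q
        change c * F.z * c⁻¹ = F.p * F.a at yz
        change c * (F.p * F.a) * c⁻¹ = F.p * F.a * F.z at yq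
        refine ⟨?_, ?_, ?_, ?_⟩
        · rw [show (5 : Fin 32) = mulT 1 4 by decide +kernel, e11, F.ev_mul, F.ev_mul, F.ev_mul, ht, hz, hp, ha,
            conj_mul, hxi, yz]
        · rw [e11, e15, F.ev_mul, F.ev_mul, F.ev_mul, F.ev_mul, F.ev_mul, ht, hz, hp, ha, conj_mul, hxi, yq]
        · rw [show (5 : Fin 32) = mulT 1 4 by decide +kernel, e15, F.ev_mul, F.ev_mul, F.ev_mul, F.ev_mul, ht, hz,
            hp, ha, conj_mul, conj_mul, hxi, yq, yz]
          change F.t * (F.p * F.a * F.z * (F.p * F.a)) = F.t * F.z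
          rw [← hp, ← hz, ← ha, ← F.ev_mul, ← F.ev_mul, ← F.ev_mul, F.ev_rel (f := 4) (by decide +kernel)]
        · rw [ht]; exact hxi
      have hw : ∀ v ∈ Δ, ∃ w ∈ Δ, h⁻¹ * (c * h) * F.ev v * (h⁻¹ * (c * h))⁻¹ = F.ev w := by
        intro v hv
        have hback : ∀ u w : Fin 32, F.img hn u = w → h⁻¹ * F.ev w * h⁻¹⁻¹ = F.ev u := by
          intro u w e
          rw [← e, ← img_spec hn]; group
        have hgo : ∀ u, h⁻¹ * (c * h) * F.ev u * (h⁻¹ * (c * h))⁻¹
            = h⁻¹ * (c * F.ev (F.img hn u) * c⁻¹) * h⁻¹⁻¹ := by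
          intro u; rw [← img_spec hn]; group
        have hpre : ∀ w : Fin 32, w ∈ ([1, 5, 11, 15] : List (Fin 32)) → ∃ u ∈ Δ, F.img hn u = w := by
          intro w hw
          simp only [List.mem_cons, List.not_mem_nil, or_false] at hw
          rcases hw with rfl | rfl | rfl | rfl
          · exact ⟨5, by decide, h5'⟩
          · exact ⟨1, by decide, h1⟩
          · rcases hd with e | e
            · exact ⟨17, by decide, e⟩
            · exact ⟨21, by decide, by rw [i21e, e]; decide +kernel⟩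
          · rcases hd with e | e
            · exact ⟨21, by decide, by rw [i21e, e]; decide +kernel⟩
            · exact ⟨17, by decide, e⟩
        have fin : ∀ k w : Fin 32, w ∈ ([1, 5, 11, 15] : List (Fin 32)) → c * F.ev k * c⁻¹ = F.ev w →
            ∃ u ∈ Δ, h⁻¹ * (c * F.ev k * c⁻¹) * h⁻¹⁻¹ = F.ev u := by
          intro k w hw e
          obtain ⟨u, hu, he⟩ := hpre w hw
          exact ⟨u, hu, by rw [e, hback u w he]⟩
        rw [hgo]
        simp only [Δ, Finset.mem_insert, Finset.mem_singleton] at hv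
        rcases hv with rfl | rfl | rfl | rfl
        · rw [h1]; exact fin 5 11 (by decide) cv.1
        · rw [h5']; exact fin 1 1 (by decide) cv.2.2.2
        · rcases hd with e | e <;> rw [e]
          · exact fin 11 15 (by decide) cv.2.1
          · exact fin 15 5 (by decide) cv.2.2.1
        · rw [i21e]
          rcases hd with e | e <;> rw [e]
          · rw [show mulT 11 4 = 15 by decide +kernel]; exact fin 15 5 (by decide) cv.2.2.1
          · rw [show mulT 15 4 = 11 by decide +kernel]; exact fin 11 15 (by decide) cv.2.1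
      -- `h⁻¹ c h` sends `t` to `tq` or `tzq`; follow by a power of `y`
      have himg : h⁻¹ * (c * h) * F.ev 1 * (h⁻¹ * (c * h))⁻¹ = F.ev 17 ∨
          h⁻¹ * (c * h) * F.ev 1 * (h⁻¹ * (c * h))⁻¹ = F.ev 21 := by
        have e : h⁻¹ * (c * h) * F.ev 1 * (h⁻¹ * (c * h))⁻¹ = h⁻¹ * (c * F.ev (F.img hn 1) * c⁻¹) * h⁻¹⁻¹ := by
          rw [← img_spec hn]; group
        rw [e, h1, cv.1]
        rcases hd with f | f
        · left; rw [← f, ← img_spec hn]; group
        · right
          rw [← (by decide +kernel : mulT 15 4 = 11), ← f, ← i21e, ← img_spec hn]; group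
      have hwM : h⁻¹ * (c * h) ∈ M := hw
      rcases himg with e | e
      · refine ⟨F.y * F.y * (h⁻¹ * (c * h)), M.mul_mem (M.mul_mem hy hy) hwM, ?_⟩
        rw [show ∀ d : G, F.y * F.y * d * F.ev 1 * (F.y * F.y * d)⁻¹ = F.y * (F.y * (d * F.ev 1 * d⁻¹) * F.y⁻¹) * F.y⁻¹
          from fun d => by group, e, yv.2.2.1, yv.2.2.2]
      · refine ⟨F.y * (h⁻¹ * (c * h)), M.mul_mem hy hwM, ?_⟩
        rw [show ∀ d : G, F.y * d * F.ev 1 * (F.y * d)⁻¹ = F.y * (d * F.ev 1 * d⁻¹) * F.y⁻¹ from fun d => by group,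
          e, yv.2.2.2]
  -- counting
  have hΔ : Nat.card M = (Δ.image F.ev).card * Nat.card (M ⊓ Subgroup.centralizer ({F.t} : Set G) : Subgroup G) := by
    refine card_conj_fibre M F.t _ (fun g hg => ?_) fun u hu => ?_
    · obtain ⟨w, hw, e⟩ := hg 1 (by decide)
      rw [F.ev_gens.1] at e
      exact Finset.mem_image.mpr ⟨w, hw, e.symm⟩
    · obtain ⟨v, hv, rfl⟩ := Finset.mem_image.mp hu
      rw [← F.ev_gens.1]
      simp only [Δ, Finset.mem_insert, Finset.mem_singleton] at hv
      rcases hv with rfl | rfl | rfl | rfl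
      · exact ⟨1, M.one_mem, by group⟩
      · exact ⟨g, hgM, hg⟩
      · refine ⟨F.y * g, M.mul_mem hy hgM, ?_⟩
        rw [← yv.2.1, ← hg]; group
      · refine ⟨F.y * (F.y * g), M.mul_mem hy (M.mul_mem hy hgM), ?_⟩
        rw [← yv.2.2.1, ← yv.2.1, ← hg]; group
  rw [Finset.card_image_of_injective _ F.ev_inj, show Δ.card = 4 by decide] at hΔ
  have h32 : 32 ∣ Nat.card (M ⊓ Subgroup.centralizer ({F.t} : Set G) : Subgroup G) := by
    rw [← F.card_Tsub]; exact Subgroup.card_dvd_of_le (le_inf hT F.Tsub_le_centralizer)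
  have h128 : 128 ∣ Nat.card G := by
    refine Dvd.dvd.trans ?_ M.card_subgroup_dvd_card
    rw [hΔ, show (128 : ℕ) = 4 * 32 by norm_num]
    exact Nat.mul_dvd_mul_left 4 h32
  obtain ⟨m, hm, hC⟩ := F.card_C
  refine index_two_of_sign F.t F.t_sq ?_ ?_
  · rw [hC, ← mul_assoc, show 4 * 32 = 128 by norm_num]
    refine Nat.Coprime.mul_dvd_of_dvd_of_dvd ?_ h128 ?_
    · rw [show (128 : ℕ) = 2 ^ 7 by norm_num]
      exact Nat.Coprime.pow_left _ (Nat.coprime_two_left.mpr hm)
    · exact Dvd.dvd.trans ⟨32, by rw [hC, mul_comm]⟩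
        (Subgroup.centralizer ({F.t} : Set G)).card_subgroup_dvd_card
  · let B := {u : G // ∃ c : G, Commute c F.t ∧ c * (F.t * F.z) * c⁻¹ = u}
    have ht5 : F.ev 5 = F.t * F.z := by
      rw [show (5 : Fin 32) = mulT 1 4 by decide +kernel, F.ev_mul, F.ev_gens.1, F.ev_gens.2.2.1]
    have hB : ∀ u : G, (IsConj F.t u ∧ Commute F.t u) ↔ (u = F.t ∨ ∃ c : G, Commute c F.t ∧ c * (F.t * F.z) * c⁻¹ = u) := by
      intro u
      constructor
      · rintro ⟨hu, huc⟩
        have hu2 : u * u = 1 := by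
          obtain ⟨c, rfl⟩ := isConj_iff.mp hu
          rw [show c * F.t * c⁻¹ * (c * F.t * c⁻¹) = c * (F.t * F.t) * c⁻¹ by group, F.t_sq]; group
        obtain ⟨c, w, hc, hw, rfl⟩ := F.exists_center_rep huc.symm hu2
        rw [isConj_conj_iff] at hu
        rcases hO w hw hu with rfl | rfl
        · left; rw [F.ev_gens.1, hc.eq, mul_inv_cancel_right]
        · right; exact ⟨c, hc, by rw [ht5]⟩
      · rintro (rfl | ⟨c, hc, rfl⟩)
        · exact ⟨IsConj.refl _, Commute.refl _⟩
        · refine ⟨(isConj_conj_iff _ _).mpr (ht5 ▸ h5), (commute_iff_eq _ _).mpr ?_⟩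
          calc F.t * (c * (F.t * F.z) * c⁻¹) = F.t * c * (F.t * F.z) * c⁻¹ := by group
            _ = c * (F.t * (F.t * F.z)) * c⁻¹ := by rw [← hc.eq]; group
            _ = c * (F.t * F.z * F.t) * c⁻¹ := by rw [mul_assoc F.t F.z F.t, ← F.ctz]
            _ = c * (F.t * F.z) * c⁻¹ * F.t := by
              have := hc.inv_left.eq
              calc _ = c * (F.t * F.z) * (F.t * c⁻¹) := by group
                _ = c * (F.t * F.z) * (c⁻¹ * F.t) := by rw [this]
                _ = _ := by group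
    have hne : ¬ ∃ c : G, Commute c F.t ∧ c * (F.t * F.z) * c⁻¹ = F.t := by
      rintro ⟨c, hc, e⟩
      have e2 : F.t * F.z = F.t := by
        calc F.t * F.z = c⁻¹ * (c * (F.t * F.z) * c⁻¹) * c := by group
          _ = c⁻¹ * (F.t * c) := by rw [e]; group
          _ = F.t := by rw [← hc.eq]; group
      rw [← ht5, ← F.ev_gens.1] at e2
      exact absurd (F.ev_inj e2) (by decide)
    have : Nat.card {u : G // IsConj F.t u ∧ Commute F.t u} = 1 + Nat.card B := by
      rw [Nat.card_congr (Equiv.subtypeEquivRight hB)]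
      have : Nat.card {u : G // u = F.t} = 1 := by simp
      rw [← this, ← Nat.card_sum]
      exact Nat.card_congr (subtypeOrEquiv _ _ (Set.disjoint_iff.mpr (fun u ⟨h1, h2⟩ => hne (h1 ▸ h2))))
    rw [this]
    have hz : Nat.card B % 4 = 1 := F.z_count
    omega

/-- A central pattern given by five truth values. -/
def pat (b2 b3 b5 b6 b7 : Bool) (w : Fin 32) : Bool :=
  w = 1 || (b2 && w = 2) || (b3 && w = 3) || (b5 && w = 5) || (b6 && w = 6) || (b7 && w = 7)

theorem pat_high : ∀ b2 b3 b5 b6 b7 : Bool, ∀ w : Fin 32, ¬ w < 8 → pat b2 b3 b5 b6 b7 w = false := by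
  decide +kernel

theorem pat_two : ∀ w : Fin 32, pat false false true false false w = true → w = 1 ∨ w = 5 := by decide +kernel

theorem pat_four : ∀ w : Fin 32, w < 8 → (pat false true true false true w = true ↔ w.val.testBit 0 = true) := by
  decide +kernel

theorem pat_four' : ∀ w : Fin 32, w < 8 →
    (pat true false true true false (subT 1 (mulT 1 2) 4 (mulT 1 8) 16 w) = true ↔ w.val.testBit 0 = true) := by
  decide +kernel

theorem pat_three : ∀ b2 b3 b5 b6 b7 : Bool, b5 = false → b2 ≠ b6 → b3 ≠ b7 → ∀ w : Fin 32, w < 8 →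
    (pat b2 b3 b5 b6 b7 w = true ↔ w = 1 ∨ w = (if b2 then 2 else 6) ∨ w = (if b3 then 3 else 7)) := by
  decide +kernel

theorem pat_cases : ∀ b2 b3 b5 b6 b7 : Bool,
    (Finset.univ.filter fun w : Fin 32 => pat b2 b3 b5 b6 b7 w = true ∧ par 1 w = true).card % 2 = 0 →
    (Finset.univ.filter fun w : Fin 32 => pat b2 b3 b5 b6 b7 w = true ∧ par 2 w = true).card % 2 = 0 →
    (Finset.univ.filter fun w : Fin 32 => pat b2 b3 b5 b6 b7 w = true ∧ par 3 w = true).card % 2 = 0 →
    (b2 = false ∧ b3 = false ∧ b5 = true ∧ b6 = false ∧ b7 = false) ∨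
    (b2 = false ∧ b3 = true ∧ b5 = true ∧ b6 = false ∧ b7 = true) ∨
    (b2 = true ∧ b3 = false ∧ b5 = true ∧ b6 = true ∧ b7 = false) ∨
    (b2 = true ∧ b3 = true ∧ b5 = true ∧ b6 = true ∧ b7 = true) ∨
    (b5 = false ∧ b2 ≠ b6 ∧ b3 ≠ b7) := by
  intro b2 b3 b5 b6 b7
  cases b2 <;> cases b3 <;> cases b5 <;> cases b6 <;> cases b7 <;> decide +kernel

variable (F)

/-- Either there is a subgroup of index two, or the frame can be taken twisted. -/
theorem index_two_or_twisted [Finite G] :
    (∃ H : Subgroup G, H.index = 2) ∨ F.Twisted ∨ F.twist.Twisted := by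
  classical
  by_cases hH : ∃ H : Subgroup G, H.index = 2
  · exact Or.inl hH
  let o : Fin 32 → Bool := fun w => decide (w < 8 ∧ IsConj F.t (F.ev w))
  have ho : ∀ w : Fin 32, o w = true ↔ w < 8 ∧ IsConj F.t (F.ev w) := fun w => decide_eq_true_iff
  have hfail : ∀ m : Fin 32, m = 1 ∨ m = 2 ∨ m = 3 →
      ¬ Odd (Finset.univ.filter fun w : Fin 32 => o w = true ∧ par m w = true).card := by
    intro m hm h
    refine hH (F.index_two_of_center m (by rcases hm with rfl | rfl | rfl <;> decide) ?_)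
    convert h using 2
    ext w
    simp only [Finset.mem_filter, Finset.mem_univ, true_and, ho]
    tauto
  have hlt : ∀ w : Fin 32, ¬ w < 8 ∨ w = 0 ∨ w = 1 ∨ w = 2 ∨ w = 3 ∨ w = 4 ∨ w = 5 ∨ w = 6 ∨ w = 7 := by
    decide +kernel
  have o1 : o 1 = true := (ho 1).mpr ⟨by decide, by rw [F.ev_gens.1]⟩
  have o0 : o 0 = false := Bool.eq_false_iff.mpr fun h => not_conj_zero ((ho 0).mp h).2
  have o4 : o 4 = false := Bool.eq_false_iff.mpr fun h => not_conj_four ((ho 4).mp h).2
  have htbl : ∀ w, o w = pat (o 2) (o 3) (o 5) (o 6) (o 7) w := by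
    intro w
    rcases hlt w with h | rfl | rfl | rfl | rfl | rfl | rfl | rfl | rfl
    · rw [pat_high _ _ _ _ _ w h]
      exact Bool.eq_false_iff.mpr fun h' => h ((ho w).mp h').1
    all_goals simp [pat, o0, o1, o4]
  have hO : ∀ w, w < 8 → (IsConj F.t (F.ev w) ↔ pat (o 2) (o 3) (o 5) (o 6) (o 7) w = true) := fun w hw => by
    rw [← htbl, ho]; exact ⟨fun h => ⟨hw, h⟩, fun h => h.2⟩
  have hf : ∀ m : Fin 32, m = 1 ∨ m = 2 ∨ m = 3 → ¬ Odd (Finset.univ.filter
      fun w : Fin 32 => pat (o 2) (o 3) (o 5) (o 6) (o 7) w = true ∧ par m w = true).card := by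
    intro m hm
    simpa only [← htbl] using hfail m hm
  have he : ∀ m : Fin 32, m = 1 ∨ m = 2 ∨ m = 3 → (Finset.univ.filter
      fun w : Fin 32 => pat (o 2) (o 3) (o 5) (o 6) (o 7) w = true ∧ par m w = true).card % 2 = 0 :=
    fun m hm => Nat.not_odd_iff.mp (hf m hm)
  rcases pat_cases _ _ _ _ _ (by convert he 1 (by decide) using 5) (by convert he 2 (by decide) using 5)
    (by convert he 3 (by decide) using 5) with h | h | h | h | h
  · obtain ⟨h2, h3, h5, h6, h7⟩ := h
    refine Or.inl (sign_case ((ho 5).mp h5).2 fun w hw hc => pat_two w ?_)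
    have := (hO w hw).mp hc
    rwa [h2, h3, h5, h6, h7] at this
  · obtain ⟨h2, h3, h5, h6, h7⟩ := h
    refine Or.inr (Or.inl fun w hw => ?_)
    rw [hO w hw, h2, h3, h5, h6, h7]
    exact pat_four w hw
  · obtain ⟨h2, h3, h5, h6, h7⟩ := h
    refine Or.inr (Or.inr fun w hw => ?_)
    have hev : F.twist.ev w = F.ev (subT 1 (mulT 1 2) 4 (mulT 1 8) 16 w) := by
      obtain ⟨et, ea, ez, eaz, ep, eq⟩ := F.ev_gens
      change word F.t (F.t * F.a) F.z (F.t * F.p) F.q w = _
      rw [← et, ← ea, ← ez, ← ep, ← eq, ← F.ev_mul, ← F.ev_mul, F.word_ev]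
      rfl
    have hr : ∀ w : Fin 32, w < 8 → subT 1 (mulT 1 2) 4 (mulT 1 8) 16 w < 8 := by decide +kernel
    change IsConj F.t (F.twist.ev w) ↔ _
    rw [hev, hO _ (hr w hw), h2, h3, h5, h6, h7]
    exact pat_four' w hw
  · obtain ⟨h2, h3, h5, h6, h7⟩ := h
    exfalso
    refine not_six ((ho 5).mp h5).2 ?_
    rintro w (rfl | rfl | rfl | rfl)
    exacts [((ho 2).mp h2).2, ((ho 3).mp h3).2, ((ho 6).mp h6).2, ((ho 7).mp h7).2]
  · obtain ⟨h5, h26, h37⟩ := h
    exfalso
    refine not_three (F := F) (u := if o 2 then 2 else 6) (v := if o 3 then 3 else 7) ?_ ?_ fun w hw => ?_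
    · split <;> simp
    · split <;> simp
    · rw [hO w hw]
      exact pat_three _ _ _ _ _ h5 h26 h37 w hw

end Frame

end CfsgLib.InvCentS6
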