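import Cfsg.Agent.Lib.InvCentS6.NFCases
import Cfsg.Agent.Lib.InvCentS6.FakeCases
import Cfsg.Agent.Lib.InvCentS6.FusionCases

/-!
A subgroup of index two from a frame, and frames from centralizers `Z2 × L`.
-/

set_option autoImplicit false

namespace CfsgLib.InvCentS6

variable {G : Type*} [Group G]

namespace Frame

variable (F : Frame G)

theorem index_two_twisted [Finite G] (hF : F.Twisted) : ∃ H : Subgroup G, H.index = 2 := by
  by_cases hA : ∃ g : G, g * F.a * g⁻¹ = F.a ∧ g * F.z * g⁻¹ = F.z ∧ g * F.t * g⁻¹ = F.t * F.a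
  swap
  · exact F.index_two_fake hF hA
  refine index_two_nonfake hF hA ?_
  obtain ⟨et, ea, ez, eaz, ep, eq⟩ := F.ev_gens
  obtain ⟨n, hn, hn1⟩ := F.exists_normz (w := 7) (by decide) ((hF 7 (by decide)).mpr (by decide))
  have e7 : F.ev 7 = F.t * (F.a * F.z) := by
    rw [← et, ← eaz, ← F.ev_mul]; exact F.ev_rel (by decide +kernel)
  have nt : n * F.t * n⁻¹ = F.t * (F.a * F.z) := by rw [← et, img_spec hn, hn1, e7, et]
  have nz : n * F.z * n⁻¹ = F.z := by rw [← ez, img_spec hn, img_four hn]
  have hu : F.img hn 2 < 8 := img_center hn (by decide)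
  have h0 : F.img hn 2 ≠ 0 := fun e => absurd (img_inj hn (e.trans (img_zero hn).symm)) (by decide)
  have h44 : F.img hn 2 ≠ 4 := fun e => absurd (img_inj hn (e.trans (img_four hn).symm)) (by decide)
  have hb : (F.img hn 2).val.testBit 0 = false := by
    have h := (not_congr (img_conj hn 2)).mpr (by rw [hF 2 (by decide)]; decide)
    rw [hF _ hu] at h
    simpa using h
  rcases (by decide +kernel : ∀ u : Fin 32, u < 8 → u.val.testBit 0 = false → u = 0 ∨ u = 2 ∨ u = 4 ∨ u = 6)
    _ hu hb with e | e | e | e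
  · exact absurd e h0
  · exact ⟨n, by rw [← ea, img_spec hn, e], nz, nt⟩
  · exact absurd e h44
  · exfalso
    obtain ⟨r, ra, rz, rt⟩ := hA
    have na : n * F.a * n⁻¹ = F.a * F.z := by rw [← ea, img_spec hn, e, eaz, ea]
    have c1 : n * r * F.t * (n * r)⁻¹ = F.t := by
      calc n * r * F.t * (n * r)⁻¹ = n * (r * F.t * r⁻¹) * n⁻¹ := by group
        _ = F.t * (F.a * F.z) * (F.a * F.z) := by rw [rt, conj_mul, nt, na]
        _ = F.t := by
          rw [mul_assoc, ← eaz, ← F.ev_mul, (by decide +kernel : mulT 6 6 = 0), F.ev_zero, mul_one]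
    have c2 : n * r * F.a * (n * r)⁻¹ = F.a * F.z := by
      calc n * r * F.a * (n * r)⁻¹ = n * (r * F.a * r⁻¹) * n⁻¹ := by group
        _ = _ := by rw [ra, na]
    exact (F.a_cls (n * r) (commute_of_conj c1)).1 c2

include F in
theorem index_two [Finite G] : ∃ H : Subgroup G, H.index = 2 := by
  rcases F.index_two_or_twisted with h | h | h
  · exact h
  · exact F.index_two_twisted h
  · exact F.twist.index_two_twisted h

end Frame

/-- The part of a frame lying in the complement of the involution. -/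
structure PModel (L : Type*) [Group L] where
  /-- a transposition -/
  a : L
  /-- the central square -/
  z : L
  /-- the first generator of the dihedral part -/
  p : L
  /-- the second generator of the dihedral part -/
  q : L
  /-- an element of order three on the first four-group -/
  x : L
  /-- an element of order three on the second four-group -/
  y : L
  a_sq : a * a = 1
  z_sq : z * z = 1
  p_sq : p * p = 1
  q_sq : q * q = 1
  caz : a * z = z * a
  cap : a * p = p * a
  caq : a * q = q * a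
  czp : z * p = p * z
  czq : z * q = q * z
  qp : q * p = p * q * z
  inj : ∀ v : Fin 32, v.val.testBit 0 = false → word 1 a z p q v = 1 → v = 0
  mem : ∀ g : L, Commute g a → Commute g z → ∃ v : Fin 32, g = word 1 a z p q v
  card : ∃ m : ℕ, Odd m ∧ Nat.card L = 16 * m
  x_a : x * a * x⁻¹ = p
  x_p : x * p * x⁻¹ = p * z
  x_pz : x * (p * z) * x⁻¹ = a
  x_cube : x * x * x = 1
  x_inv : q * (a * z) * x * (q * (a * z)) = x⁻¹
  y_a : y * a * y⁻¹ = a
  y_z : y * z * y⁻¹ = q
  y_q : y * q * y⁻¹ = q * z
  y_cube : y * y * y = 1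
  y_inv : p * y * p = y⁻¹
  tri_a : ∀ g : L, Commute g a → Commute (g * z * g⁻¹) z →
    g * z * g⁻¹ = z ∨ g * z * g⁻¹ = q ∨ g * z * g⁻¹ = q * z
  tri_b : ∀ g : L, Commute g (a * z) → Commute (g * z * g⁻¹) z →
    g * z * g⁻¹ = z ∨ g * z * g⁻¹ = p * a ∨ g * z * g⁻¹ = p * a * z
  a_cls : ∀ g : L, g * a * g⁻¹ ≠ a * z
  z_count : Nat.card {u : L // IsConj z u} % 4 = 1

theorem index_two_of_model [Finite G] {L : Type*} [Group L] (M : PModel L) (t : G)
    (ψ : Subgroup.centralizer ({t} : Set G) ≃* Z2 × L)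
    (hψ : ψ ⟨t, Subgroup.mem_centralizer_singleton_iff.mpr rfl⟩ = (Multiplicative.ofAdd 1, 1)) :
    ∃ H : Subgroup G, H.index = 2 := by
  let φ : L →* G := (Subgroup.centralizer ({t} : Set G)).subtype.comp
    (ψ.symm.toMonoidHom.comp (MonoidHom.inr Z2 L))
  let E : Bool → G := fun b => if b then t else 1
  have hE : ∀ (b : Bool) (l : L),
      E b * φ l = (ψ.symm ((if b then Multiplicative.ofAdd 1 else 1), l) : G) := by
    intro b l
    cases b
    · simp [E, φ]
    · have e : ((Multiplicative.ofAdd 1 : Z2), l) = ((Multiplicative.ofAdd 1 : Z2), (1 : L)) * (1, l) := by simp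
      simp only [E, φ, if_true]
      rw [e, map_mul, ← hψ, ψ.symm_apply_apply]
      rfl
  have uniq : ∀ (b b' : Bool) (l l' : L), E b * φ l = E b' * φ l' → b = b' ∧ l = l' := by
    intro b b' l l' e
    rw [hE, hE] at e
    have e' := ψ.symm.injective (Subtype.ext e)
    exact ⟨(by decide : ∀ b b' : Bool, (if b then (Multiplicative.ofAdd 1 : Z2) else 1) =
      (if b' then Multiplicative.ofAdd 1 else 1) → b = b') b b' (congrArg Prod.fst e'), congrArg Prod.snd e'⟩
  have hinj : Function.Injective φ := fun l l' e => (uniq false false l l' (by simp [E, e])).2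
  have ne_t : ∀ l l' : L, φ l ≠ t * φ l' := fun l l' e => by
    have := uniq false true l l' (by simp [E, e])
    exact absurd this.1 (by decide)
  have hC : ∀ l : L, Commute (φ l) t := fun l =>
    Subgroup.mem_centralizer_singleton_iff.mp (ψ.symm (1, l)).2
  have dec : ∀ g : G, Commute g t → ∃ (b : Bool) (l : L), g = E b * φ l := by
    intro g hg
    let e := ψ ⟨g, Subgroup.mem_centralizer_singleton_iff.mpr hg.eq⟩
    obtain ⟨b, hb⟩ : ∃ b : Bool, (if b then (Multiplicative.ofAdd 1 : Z2) else 1) = e.1 :=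
      (by decide : ∀ u : Z2, ∃ b : Bool, (if b then (Multiplicative.ofAdd 1 : Z2) else 1) = u) e.1
    refine ⟨b, e.2, ?_⟩
    rw [hE, hb, show (e.1, e.2) = e from rfl, ψ.symm_apply_apply]
  have ht : t * t = 1 := by
    have e : (⟨t, Subgroup.mem_centralizer_singleton_iff.mpr rfl⟩ : Subgroup.centralizer ({t} : Set G)) *
        ⟨t, Subgroup.mem_centralizer_singleton_iff.mpr rfl⟩ = 1 := ψ.injective (by
      rw [map_mul, hψ]; refine Eq.trans ?_ (map_one ψ).symm; refine Prod.ext ?_ (mul_one _)
      change (Multiplicative.ofAdd 1 : Z2) * Multiplicative.ofAdd 1 = 1; decide)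
    exact congrArg Subtype.val e
  have hEc : ∀ (b : Bool) (l : L), Commute (E b) (φ l) := by
    intro b l; cases b
    · exact Commute.one_left _
    · exact (hC l).symm
  have conjφ : ∀ (b : Bool) (l u : L), E b * φ l * φ u * (E b * φ l)⁻¹ = φ (l * u * l⁻¹) := by
    intro b l u
    calc E b * φ l * φ u * (E b * φ l)⁻¹ = E b * φ (l * u * l⁻¹) * (E b)⁻¹ := by
          rw [map_mul, map_mul, map_inv]; group
      _ = φ (l * u * l⁻¹) := by rw [(hEc b _).eq, mul_inv_cancel_right]
  have cm : ∀ {b : Bool} {l u : L}, Commute (E b * φ l) (φ u) → Commute l u := by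
    intro b l u h
    have := hinj ((conjφ b l u).symm.trans (Frame.conj_of_commute h))
    exact Frame.commute_of_conj this
  have hword : ∀ v : Fin 32, word t (φ M.a) (φ M.z) (φ M.p) (φ M.q) v =
      E (v.val.testBit 0) * φ (word 1 M.a M.z M.p M.q v) := by
    intro v
    simp only [word, bitPow, map_mul, apply_ite φ, map_one, ite_self, one_mul, E, mul_assoc]
  have cls : ∀ (g : G), Commute g t → ∀ u : L, ∃ l : L, g * φ u * g⁻¹ = φ (l * u * l⁻¹) := by
    intro g hg u
    obtain ⟨b, l, rfl⟩ := dec g hg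
    exact ⟨l, conjφ b l u⟩
  have ct : ∀ l : L, t * φ l = φ l * t := fun l => (hC l).symm.eq
  refine Frame.index_two
    { t := t, a := φ M.a, z := φ M.z, p := φ M.p, q := φ M.q, x := φ M.x, y := φ M.y
      t_sq := ht
      a_sq := by rw [← map_mul, M.a_sq, map_one]
      z_sq := by rw [← map_mul, M.z_sq, map_one]
      p_sq := by rw [← map_mul, M.p_sq, map_one]
      q_sq := by rw [← map_mul, M.q_sq, map_one]
      cta := ct _, ctz := ct _, ctp := ct _, ctq := ct _
      caz := by rw [← map_mul, M.caz, map_mul]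
      cap := by rw [← map_mul, M.cap, map_mul]
      caq := by rw [← map_mul, M.caq, map_mul]
      czp := by rw [← map_mul, M.czp, map_mul]
      czq := by rw [← map_mul, M.czq, map_mul]
      qp := by rw [← map_mul, M.qp, map_mul, map_mul]
      inj := fun v hv => by
        rw [hword] at hv
        obtain ⟨e1, e2⟩ := uniq _ false _ 1 (hv.trans (by simp [E]))
        exact M.inj v e1 e2
      mem_T := fun g h1 h2 h3 => by
        obtain ⟨b, l, rfl⟩ := dec g h1
        obtain ⟨v, hv⟩ := M.mem l (cm h2) (cm h3)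
        obtain ⟨w, w0, w1, w2, w3, w4⟩ := (by decide +kernel : ∀ (v : Fin 32) (b : Bool), ∃ w : Fin 32,
          w.val.testBit 0 = b ∧ w.val.testBit 1 = v.val.testBit 1 ∧ w.val.testBit 2 = v.val.testBit 2 ∧
          w.val.testBit 3 = v.val.testBit 3 ∧ w.val.testBit 4 = v.val.testBit 4) v b
        refine ⟨w, ?_⟩
        rw [hword, w0, hv]
        simp only [word, bitPow, ite_self, w1, w2, w3, w4]
      card_C := by
        obtain ⟨m, hm, hc⟩ := M.card
        refine ⟨m, hm, ?_⟩
        rw [Nat.card_congr ψ.toEquiv, Nat.card_prod, hc, show Nat.card Z2 = 2 by simp]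
        ring
      x_t := Frame.conj_of_commute (hC _)
      x_a := by rw [← map_inv, ← map_mul, ← map_mul, M.x_a]
      x_p := by rw [← map_inv, ← map_mul, ← map_mul, M.x_p, map_mul]
      x_pz := by rw [← map_inv, ← map_mul φ M.p, ← map_mul, ← map_mul, M.x_pz]
      x_cube := by rw [← map_mul, ← map_mul, M.x_cube, map_one]
      x_inv := by rw [← map_mul φ M.a, ← map_mul φ M.q, ← map_mul, ← map_mul, M.x_inv, map_inv]
      y_t := Frame.conj_of_commute (hC _)
      y_a := by rw [← map_inv, ← map_mul, ← map_mul, M.y_a]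
      y_z := by rw [← map_inv, ← map_mul, ← map_mul, M.y_z]
      y_q := by rw [← map_inv, ← map_mul, ← map_mul, M.y_q, map_mul]
      y_cube := by rw [← map_mul, ← map_mul, M.y_cube, map_one]
      y_inv := by rw [← map_mul, ← map_mul, M.y_inv, map_inv]
      tri_a := fun g h1 h2 h3 => by
        obtain ⟨b, l, rfl⟩ := dec g h1
        rw [conjφ] at h3 ⊢
        have c3 : Commute (l * M.z * l⁻¹) M.z := hinj ((map_mul φ _ _).trans (h3.eq.trans (map_mul φ _ _).symm))
        rcases M.tri_a l (cm h2) c3 with e | e | e <;> rw [e]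
        · exact Or.inl rfl
        · exact Or.inr (Or.inl rfl)
        · exact Or.inr (Or.inr (map_mul φ _ _))
      tri_b := fun g h1 h2 h3 => by
        obtain ⟨b, l, rfl⟩ := dec g h1
        rw [conjφ] at h3 ⊢
        rw [← map_mul] at h2
        have c3 : Commute (l * M.z * l⁻¹) M.z := hinj ((map_mul φ _ _).trans (h3.eq.trans (map_mul φ _ _).symm))
        rcases M.tri_b l (cm h2) c3 with e | e | e <;> rw [e]
        · exact Or.inl rfl
        · exact Or.inr (Or.inl (map_mul φ _ _))
        · exact Or.inr (Or.inr (by rw [map_mul, map_mul]))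
      a_cls := fun g hg => by
        obtain ⟨l, e⟩ := cls g hg M.a
        rw [e, ← map_mul]
        exact ⟨fun h => M.a_cls l (hinj h), ne_t _ _, ne_t _ _⟩
      b_cls := fun g hg => by
        obtain ⟨l, e⟩ := cls g hg (M.a * M.z)
        rw [← map_mul, e]
        exact ⟨ne_t _ _, ne_t _ _⟩
      z_count := ?_ }
  refine (congrArg (· % 4) ?_).trans M.z_count
  have key : ∀ (b : Bool) (l : L), E b * φ l * (t * φ M.z) * (E b * φ l)⁻¹ = t * φ (l * M.z * l⁻¹) := by
    intro b l
    have h1 : E b * φ l * t * (E b * φ l)⁻¹ = t := Frame.conj_of_commute (by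
      cases b
      · simpa [E] using hC l
      · simpa [E] using (Commute.refl t).mul_left (hC l))
    rw [Frame.conj_mul, h1, conjφ]
  refine (Nat.card_congr (Equiv.ofBijective
    (fun u : {u : L // IsConj M.z u} => (⟨t * φ u.1, ?_⟩ :
      {u : G // ∃ c : G, Commute c t ∧ c * (t * φ M.z) * c⁻¹ = u})) ⟨?_, ?_⟩)).symm
  · obtain ⟨l, hl⟩ := isConj_iff.mp u.2
    exact ⟨φ l, hC l, by
      have := key false l
      simp only [E, Bool.false_eq_true, if_false, one_mul] at this
      rw [this, hl]⟩
  · exact fun u u' e => Subtype.ext (hinj (mul_left_cancel (congrArg Subtype.val e)))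
  · rintro ⟨u, c, hc, rfl⟩
    obtain ⟨b, l, rfl⟩ := dec c hc
    exact ⟨⟨l * M.z * l⁻¹, isConj_iff.mpr ⟨l, rfl⟩⟩, Subtype.ext (key b l).symm⟩

/-- An element commuting with everything in a symmetric group of degree at least three is trivial. -/
theorem perm_central {α : Type*} [DecidableEq α] (hα : ∀ i j : α, ∃ k, k ≠ i ∧ k ≠ j) (σ : Equiv.Perm α)
    (h : ∀ τ, Commute τ σ) : σ = 1 := by
  ext i
  by_contra hi
  rw [Equiv.Perm.one_apply] at hi
  obtain ⟨k, hk, hk'⟩ := hα i (σ i)
  have e := congrArg (fun f : Equiv.Perm α => f i) (h (Equiv.swap i k)).eq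
  simp only [Equiv.Perm.mul_apply, Equiv.swap_apply_left] at e
  rw [Equiv.swap_apply_of_ne_of_ne hi (fun he => hk' he.symm)] at e
  exact hk (σ.injective e).symm

theorem index_two_of_perm [Finite G] {n : ℕ} (hn : 3 ≤ n) (M : PModel (Equiv.Perm (Fin n))) (t : G)
    (ht : orderOf t = 2)
    (hC : Nonempty (Subgroup.centralizer ({t} : Set G) ≃* Z2 × Equiv.Perm (Fin n))) :
    ∃ H : Subgroup G, H.index = 2 := by
  obtain ⟨ψ⟩ := hC
  let u : Subgroup.centralizer ({t} : Set G) := ⟨t, Subgroup.mem_centralizer_singleton_iff.mpr rfl⟩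
  have hu : ∀ d, Commute d (ψ u) := by
    intro d
    obtain ⟨g, rfl⟩ := ψ.surjective d
    have : Commute g u := Subtype.ext (Subgroup.mem_centralizer_singleton_iff.mp g.2)
    exact this.map ψ
  have h2 : (ψ u).2 = 1 := by
    refine perm_central (fun i j => ?_) _ fun τ => congrArg Prod.snd (hu (1, τ)).eq
    have hcard : 0 < (({i, j} : Finset (Fin n))ᶜ).card := by
      rw [Finset.card_compl, Fintype.card_fin]
      have := Finset.card_le_two (a := i) (b := j)
      omega
    obtain ⟨k, hk⟩ := Finset.card_pos.mp hcard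
    simp only [Finset.mem_compl, Finset.mem_insert, Finset.mem_singleton, not_or] at hk
    exact ⟨k, hk⟩
  have h1 : (ψ u).1 = Multiplicative.ofAdd 1 := by
    refine (by decide : ∀ c : Z2, c ≠ 1 → c = Multiplicative.ofAdd 1) _ fun h => ?_
    have e : ψ u = ψ 1 := by rw [map_one]; exact Prod.ext h h2
    have e' : t = 1 := congrArg Subtype.val (ψ.injective e)
    rw [e', orderOf_one] at ht
    exact absurd ht (by decide)
  exact index_two_of_model M t ψ (Prod.ext h1 h2)

end CfsgLib.InvCentS6
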