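import Cfsg.Agent.Lib.InvCentS6.Main

/-!
The symmetric groups of degrees six and seven as models.
-/

set_option autoImplicit false

namespace CfsgLib.InvCentS6

open Equiv

/-- The number of fixed points. -/
def fixN {n : ℕ} (u : Perm (Fin n)) : ℕ := (Finset.univ.filter fun i => u i = i).card

theorem fixN_conj {n : ℕ} (g u : Perm (Fin n)) : fixN (g * u * g⁻¹) = fixN u := by
  refine (Finset.card_equiv g fun i => ?_).symm
  simp only [Finset.mem_filter, Finset.mem_univ, true_and]
  simp

theorem sq_conj {n : ℕ} {z : Perm (Fin n)} (hz : z * z = 1) (g : Perm (Fin n)) :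
    g * z * g⁻¹ * (g * z * g⁻¹) = 1 := by
  rw [show g * z * g⁻¹ * (g * z * g⁻¹) = g * (z * z) * g⁻¹ by group, hz]
  group

theorem comm_apply {n : ℕ} {σ u : Perm (Fin n)} (h : Commute σ u) (i : Fin n) : σ (u i) = u (σ i) :=
  congrArg (fun f : Perm (Fin n) => f i) h.eq

theorem conj_comm {n : ℕ} {g a : Perm (Fin n)} (h : Commute g a) : g * a * g⁻¹ = a := by
  rw [h.eq, mul_inv_cancel_right]

/-- The transposition. -/
def a6 : Perm (Fin 6) := swap 4 5

/-- The double transposition. -/
def z6 : Perm (Fin 6) := swap 0 1 * swap 2 3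

/-- The first generator. -/
def p6 : Perm (Fin 6) := swap 0 1

/-- The second generator. -/
def q6 : Perm (Fin 6) := swap 0 2 * swap 1 3

/-- The transposition. -/
def a7 : Perm (Fin 7) := swap 4 5

/-- The double transposition. -/
def z7 : Perm (Fin 7) := swap 0 1 * swap 2 3

/-- The first generator. -/
def p7 : Perm (Fin 7) := swap 0 1

/-- The second generator. -/
def q7 : Perm (Fin 7) := swap 0 2 * swap 1 3

theorem key6 : ∀ v0 v2 v4 : Fin 6,
    (∀ i, ![v0, z6 v0, v2, z6 v2, v4, a6 v4] (a6 i) = a6 (![v0, z6 v0, v2, z6 v2, v4, a6 v4] i)) →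
    (∀ i, ![v0, z6 v0, v2, z6 v2, v4, a6 v4] (z6 i) = z6 (![v0, z6 v0, v2, z6 v2, v4, a6 v4] i)) →
    (∀ i j, ![v0, z6 v0, v2, z6 v2, v4, a6 v4] i = ![v0, z6 v0, v2, z6 v2, v4, a6 v4] j → i = j) →
    ∃ u : Fin 32, ∀ i, ![v0, z6 v0, v2, z6 v2, v4, a6 v4] i = word 1 a6 z6 p6 q6 u i := by
  decide +kernel

theorem mem6 (σ : Perm (Fin 6)) (ha : Commute σ a6) (hz : Commute σ z6) :
    ∃ u : Fin 32, σ = word 1 a6 z6 p6 q6 u := by
  have e : ∀ i, ![σ 0, z6 (σ 0), σ 2, z6 (σ 2), σ 4, a6 (σ 4)] i = σ i := by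
    intro i
    fin_cases i
    · rfl
    · exact (comm_apply hz 0).symm
    · rfl
    · exact (comm_apply hz 2).symm
    · rfl
    · exact (comm_apply ha 4).symm
  obtain ⟨u, hu⟩ := key6 (σ 0) (σ 2) (σ 4) (fun i => by rw [e, e]; exact comm_apply ha i)
    (fun i => by rw [e, e]; exact comm_apply hz i) (fun i j h => by rw [e, e] at h; exact σ.injective h)
  exact ⟨u, Equiv.ext fun i => (e i).symm.trans (hu i)⟩

theorem key7 : ∀ v0 v2 v4 v6 : Fin 7,
    (∀ i, ![v0, z7 v0, v2, z7 v2, v4, a7 v4, v6] (a7 i) = a7 (![v0, z7 v0, v2, z7 v2, v4, a7 v4, v6] i)) →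
    (∀ i, ![v0, z7 v0, v2, z7 v2, v4, a7 v4, v6] (z7 i) = z7 (![v0, z7 v0, v2, z7 v2, v4, a7 v4, v6] i)) →
    (∀ i j, ![v0, z7 v0, v2, z7 v2, v4, a7 v4, v6] i = ![v0, z7 v0, v2, z7 v2, v4, a7 v4, v6] j → i = j) →
    ∃ u : Fin 32, ∀ i, ![v0, z7 v0, v2, z7 v2, v4, a7 v4, v6] i = word 1 a7 z7 p7 q7 u i := by
  decide +kernel

theorem mem7 (σ : Perm (Fin 7)) (ha : Commute σ a7) (hz : Commute σ z7) :
    ∃ u : Fin 32, σ = word 1 a7 z7 p7 q7 u := by
  have e : ∀ i, ![σ 0, z7 (σ 0), σ 2, z7 (σ 2), σ 4, a7 (σ 4), σ 6] i = σ i := by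
    intro i
    fin_cases i
    · rfl
    · exact (comm_apply hz 0).symm
    · rfl
    · exact (comm_apply hz 2).symm
    · rfl
    · exact (comm_apply ha 4).symm
    · rfl
  obtain ⟨u, hu⟩ := key7 (σ 0) (σ 2) (σ 4) (σ 6) (fun i => by rw [e, e]; exact comm_apply ha i)
    (fun i => by rw [e, e]; exact comm_apply hz i) (fun i j h => by rw [e, e] at h; exact σ.injective h)
  exact ⟨u, Equiv.ext fun i => (e i).symm.trans (hu i)⟩

theorem tri_gen {n : ℕ} {a z p q : Perm (Fin n)} (hz2 : z * z = 1)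
    (hmem : ∀ σ, Commute σ a → Commute σ z → ∃ u : Fin 32, σ = word 1 a z p q u) (c : Perm (Fin n))
    (c1 c2 c3 : Perm (Fin n))
    (hdec : ∀ u : Fin 32, word 1 a z p q u * word 1 a z p q u = 1 → fixN (word 1 a z p q u) = fixN z →
      fixN (word 1 a z p q u * c) = fixN (z * c) →
      word 1 a z p q u = c1 ∨ word 1 a z p q u = c2 ∨ word 1 a z p q u = c3)
    (g : Perm (Fin n)) (hc : Commute g c) (hga : Commute (g * z * g⁻¹) a) (hgz : Commute (g * z * g⁻¹) z) :
    g * z * g⁻¹ = c1 ∨ g * z * g⁻¹ = c2 ∨ g * z * g⁻¹ = c3 := by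
  obtain ⟨u, hu⟩ := hmem _ hga hgz
  rw [hu]
  refine hdec u ?_ ?_ ?_
  · rw [← hu, sq_conj hz2]
  · rw [← hu, fixN_conj]
  · rw [← hu, show g * z * g⁻¹ * c = g * (z * c) * g⁻¹ by
      calc g * z * g⁻¹ * c = g * z * g⁻¹ * (g * c * g⁻¹) := by rw [conj_comm hc]
        _ = _ := by group, fixN_conj]

theorem comm_a_of_comm_z {n : ℕ} {a z g : Perm (Fin n)} (hc : Commute g a) (haz : Commute z a) :
    Commute (g * z * g⁻¹) a := by
  have h := Frame.commute_conj (c := g) haz
  rwa [conj_comm hc] at h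

theorem comm_a_of_comm_az {n : ℕ} {a z g : Perm (Fin n)} (hz2 : z * z = 1) (hc : Commute g (a * z))
    (haz : Commute z a) (hgz : Commute (g * z * g⁻¹) z) : Commute (g * z * g⁻¹) a := by
  have h := Frame.commute_conj (c := g) (haz.mul_right (Commute.refl z))
  rw [conj_comm hc] at h
  have h2 := h.mul_right hgz
  rwa [mul_assoc a, hz2, mul_one] at h2

theorem z_count_gen {n : ℕ} {z : Perm (Fin n)} (hz : z.cycleType = {2, 2}) :
    Nat.card {u : Perm (Fin n) // IsConj z u} = n.factorial / ((n - 4).factorial * 4 * 2) := by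
  have h := Equiv.Perm.card_isConj_eq (g := z)
  rw [hz, Fintype.card_fin] at h
  refine (h.trans ?_)
  simp [Nat.factorial]

theorem haz6 : Commute z6 a6 := by
  refine Equiv.ext ?_
  decide +kernel

theorem haz7 : Commute z7 a7 := by
  refine Equiv.ext ?_
  decide +kernel

/-- The symmetric group of degree six as a model. -/
def model6 : PModel (Perm (Fin 6)) where
  a := a6
  z := z6
  p := p6
  q := q6
  x := swap 0 2 * swap 2 4 * (swap 1 3 * swap 3 5)
  y := swap 0 1 * swap 1 3
  a_sq := by decide +kernel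
  z_sq := by decide +kernel
  p_sq := by decide +kernel
  q_sq := by decide +kernel
  caz := by decide +kernel
  cap := by decide +kernel
  caq := by decide +kernel
  czp := by decide +kernel
  czq := by decide +kernel
  qp := by decide +kernel
  inj := by decide +kernel
  mem := mem6
  card := ⟨45, by decide, by rw [Nat.card_perm, Nat.card_fin]; decide⟩
  x_a := by decide +kernel
  x_p := by decide +kernel
  x_pz := by decide +kernel
  x_cube := by decide +kernel
  x_inv := by decide +kernel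
  y_a := by decide +kernel
  y_z := by decide +kernel
  y_q := by decide +kernel
  y_cube := by decide +kernel
  y_inv := by decide +kernel
  tri_a := fun g h1 h2 =>
    tri_gen (by decide +kernel) mem6 a6 z6 q6 (q6 * z6) (by decide +kernel) g h1 (comm_a_of_comm_z h1 haz6) h2
  tri_b := fun g h1 h2 =>
    tri_gen (by decide +kernel) mem6 (a6 * z6) z6 (p6 * a6) (p6 * a6 * z6) (by decide +kernel) g h1
      (comm_a_of_comm_az (by decide +kernel) h1 haz6 h2) h2
  a_cls := fun g h => by
    have e := congrArg fixN h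
    rw [fixN_conj] at e
    revert e
    decide +kernel
  z_count := by
    rw [z_count_gen (z := z6) (Equiv.Perm.cycleType_swap_mul_swap_of_nodup (x := (0 : Fin 6)) (y := 1) (z := 2) (t := 3) (by decide))]
    decide +kernel

/-- The symmetric group of degree seven as a model. -/
def model7 : PModel (Perm (Fin 7)) where
  a := a7
  z := z7
  p := p7
  q := q7
  x := swap 0 2 * swap 2 4 * (swap 1 3 * swap 3 5)
  y := swap 0 1 * swap 1 3
  a_sq := by decide +kernel
  z_sq := by decide +kernel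
  p_sq := by decide +kernel
  q_sq := by decide +kernel
  caz := by decide +kernel
  cap := by decide +kernel
  caq := by decide +kernel
  czp := by decide +kernel
  czq := by decide +kernel
  qp := by decide +kernel
  inj := by decide +kernel
  mem := mem7
  card := ⟨315, by decide, by rw [Nat.card_perm, Nat.card_fin]; decide⟩
  x_a := by decide +kernel
  x_p := by decide +kernel
  x_pz := by decide +kernel
  x_cube := by decide +kernel
  x_inv := by decide +kernel
  y_a := by decide +kernel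
  y_z := by decide +kernel
  y_q := by decide +kernel
  y_cube := by decide +kernel
  y_inv := by decide +kernel
  tri_a := fun g h1 h2 =>
    tri_gen (by decide +kernel) mem7 a7 z7 q7 (q7 * z7) (by decide +kernel) g h1 (comm_a_of_comm_z h1 haz7) h2
  tri_b := fun g h1 h2 =>
    tri_gen (by decide +kernel) mem7 (a7 * z7) z7 (p7 * a7) (p7 * a7 * z7) (by decide +kernel) g h1
      (comm_a_of_comm_az (by decide +kernel) h1 haz7 h2) h2
  a_cls := fun g h => by
    have e := congrArg fixN h
    rw [fixN_conj] at e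
    revert e
    decide +kernel
  z_count := by
    rw [z_count_gen (z := z7) (Equiv.Perm.cycleType_swap_mul_swap_of_nodup (x := (0 : Fin 7)) (y := 1) (z := 2) (t := 3) (by decide))]
    decide +kernel

end CfsgLib.InvCentS6
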