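import Cfsg.Agent.Lib.InvCentS6.CaseFH
import Cfsg.Agent.Lib.InvCentS6.CaseI

/-!
The nonfake case: all four conjugates in the centre are moved by elements fixing `a`.
-/

set_option autoImplicit false

namespace CfsgLib.InvCentS6

variable {G : Type*} [Group G] {F : Frame G}

namespace NFData

theorem mirror_back : F.mirror.mirror.a = F.a ∧ F.mirror.mirror.p = F.p ∧ F.mirror.mirror.q = F.q ∧
    F.mirror.mirror.y = F.y := by
  obtain ⟨ht, ha, hz, haz, hp, hq⟩ := F.ev_gens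
  refine ⟨?_, ?_, ?_, inv_inv _⟩
  · change F.a * F.z * F.z = F.a
    rw [mul_assoc, F.z_sq, mul_one]
  · change F.p * F.a * (F.a * F.z * F.z) = F.p
    simp only [← ha, ← hz, ← hp, ← F.ev_mul]; exact F.ev_rel (by decide +kernel)
  · change F.q * (F.a * F.z) * (F.a * F.z) = F.q
    simp only [← ha, ← hz, ← hq, ← F.ev_mul]; exact F.ev_rel (by decide +kernel)

theorem mirror_ev_six : F.mirror.ev 6 = F.a := by
  rw [F.mirror.ev_gens.2.2.2.1]
  change F.a * F.z * F.z = F.a
  rw [mul_assoc, F.z_sq, mul_one]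

/-- The data of the mirrored frame, for the configuration `(1, 0, a)`. -/
def swap (D : NFData F) (hk : D.P.ka = 2) : NFData F.mirror where
  ha := D.hb
  hb := D.ha
  P := ⟨D.P.be, D.P.al, 6⟩
  hA := D.hB
  hB := by
    obtain ⟨e1, e2, e3, e4⟩ := mirror_back (F := F)
    exact
      { sq := D.hA.sq
        ca := by rw [e1]; exact D.hA.ca
        cz := D.hA.cz
        cq := by rw [e3]; exact D.hA.cq
        cy := by rw [e4]; exact D.hA.cy
        ht := by rw [e1]; exact D.hA.ht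
        hp := by rw [e2, e1]; exact D.hA.hp }
  hka := Or.inr (Or.inr (Or.inr rfl))
  comm := by
    change D.ha * D.hb = F.mirror.ev 6 * D.hb * D.ha
    rw [mirror_ev_six]
    have h := D.comm
    rw [hk, F.ev_gens.2.1] at h
    rw [mul_assoc, h, ← mul_assoc, ← mul_assoc, F.a_sq, one_mul]
  tw := D.tw.mirror

theorem index_two_main [Finite G] (D : NFData F) :
    (∃ H : Subgroup G, H.index = 2) ∨ D.P = ⟨true, false, 2⟩ := by
  rcases D.index_two_or_cfg with h | ⟨h1, h2⟩
  · exact Or.inl h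
  obtain ⟨al, be, ka, hP⟩ : ∃ al be ka, D.P = ⟨al, be, ka⟩ := ⟨_, _, _, rfl⟩
  have hk := D.hka
  rw [hP] at hk h1 h2
  change ka = 0 ∨ ka = 2 ∨ ka = 4 ∨ ka = 6 at hk
  rcases hk with rfl | rfl | rfl | rfl <;> cases al <;> cases be <;>
    first
      | exact absurd rfl h1
      | exact Or.inr hP
      | exact Or.inl (D.caseF hP fun r => h2 r)
      | exact Or.inl (D.caseH hP fun r => h2 r)
      | exact Or.inl (D.caseI hP fun r => h2 r)

/-- The nonfake case. -/
theorem index_two [Finite G] (D : NFData F) : ∃ H : Subgroup G, H.index = 2 := by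
  rcases D.index_two_main with h | h
  · exact h
  · have hk : D.P.ka = 2 := by rw [h]
    rcases (D.swap hk).index_two_main with h' | h'
    · exact h'
    · have := congrArg Par.ka h'
      exact absurd (show (6 : Fin 32) = 2 from this) (by decide)

end NFData

namespace Frame

/-- The two canonical involutions commute modulo the central four-group. -/
theorem exists_NFData [Finite G] (hF : F.Twisted)
    (hA : ∃ g : G, g * F.a * g⁻¹ = F.a ∧ g * F.z * g⁻¹ = F.z ∧ g * F.t * g⁻¹ = F.t * F.a)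
    (hB : ∃ g : G, g * F.a * g⁻¹ = F.a ∧ g * F.z * g⁻¹ = F.z ∧ g * F.t * g⁻¹ = F.t * (F.a * F.z)) :
    Nonempty (NFData F) := by
  obtain ⟨ha, al, hha⟩ := exists_HA hF hA
  have hB' : ∃ g : G, g * F.mirror.a * g⁻¹ = F.mirror.a ∧ g * F.mirror.z * g⁻¹ = F.mirror.z ∧
      g * F.mirror.t * g⁻¹ = F.mirror.t * F.mirror.a := by
    obtain ⟨g, g1, g2, g3⟩ := hB
    exact ⟨g, by change g * (F.a * F.z) * g⁻¹ = F.a * F.z; rw [conj_mul, g1, g2], g2, g3⟩
  obtain ⟨hb, be, hhb⟩ := exists_HA (Twisted.mirror hF) hB'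
  obtain ⟨et, ea, ez, eaz, ep, eq⟩ := F.ev_gens
  have bz : hb * F.z * hb⁻¹ = F.z := hhb.cz
  have ba : hb * F.a * hb⁻¹ = F.a := by
    have h := hhb.ca
    change hb * (F.a * F.z) * hb⁻¹ = F.a * F.z at h
    rw [conj_mul, bz] at h
    exact mul_right_cancel h
  have bt : hb * F.t * hb⁻¹ = F.t * (F.a * F.z) := hhb.ht
  have bp : hb * F.p * hb⁻¹ = F.p := by
    have h := hhb.cq
    change hb * (F.p * F.a) * hb⁻¹ = F.p * F.a at h
    rw [conj_mul, ba] at h
    exact mul_right_cancel h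
  obtain ⟨qb, hqb, bq⟩ : ∃ qb : Fin 32, (qb = 16 ∨ qb = 22) ∧ hb * F.q * hb⁻¹ = F.ev qb := by
    have h := hhb.hp
    change hb * (F.q * (F.a * F.z)) * hb⁻¹ = if be then F.q * (F.a * F.z) * (F.a * F.z) else F.q * (F.a * F.z) at h
    rw [conj_mul, conj_mul hb F.a, ba, bz] at h
    cases be
    · refine ⟨16, Or.inl rfl, ?_⟩
      rw [eq]; exact mul_right_cancel h
    · refine ⟨22, Or.inr rfl, ?_⟩
      rw [if_pos rfl] at h
      rw [mul_right_cancel h, ← eq, ← eaz, ← F.ev_mul]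
      exact F.ev_rel (by decide +kernel)
  obtain ⟨pa, hpa, ap⟩ : ∃ pa : Fin 32, (pa = 8 ∨ pa = 10) ∧ ha * F.p * ha⁻¹ = F.ev pa := by
    have h := hha.hp
    cases al
    · exact ⟨8, Or.inl rfl, by rw [ep]; exact h⟩
    · refine ⟨10, Or.inr rfl, ?_⟩
      rw [h, if_pos rfl, ← ep, ← ea, ← F.ev_mul]
      exact F.ev_rel (by decide +kernel)
  have hb2 : hb * hb = 1 := hhb.sq
  have ha2 := hha.sq
  have iA : ha⁻¹ = ha := inv_eq_of_mul_eq_one_right ha2
  have iB : hb⁻¹ = hb := inv_eq_of_mul_eq_one_right hb2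
  let w := hb * ha * hb * ha
  have cw : ∀ u u1 u2 u3 u4 : G, ha * u * ha⁻¹ = u1 → hb * u1 * hb⁻¹ = u2 → ha * u2 * ha⁻¹ = u3 →
      hb * u3 * hb⁻¹ = u4 → w * u * w⁻¹ = u4 := by
    intro u u1 u2 u3 u4 h1 h2 h3 h4
    rw [← h4, ← h3, ← h2, ← h1]
    simp only [w]
    group
  have swap_ab : F.t * (F.a * F.z) * F.a = F.t * F.z ∧ F.t * F.a * F.z = F.t * (F.a * F.z) := by
    constructor
    · simp only [← et, ← ea, ← ez, ← F.ev_mul]; exact F.ev_rel (by decide +kernel)
    · rw [mul_assoc]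
  have w1 : Commute w F.t := commute_of_conj
    (cw F.t (F.t * F.a) (F.t * F.z) (F.t * F.a * F.z) F.t hha.ht
      (by rw [conj_mul, bt, ba]; exact swap_ab.1)
      (by rw [conj_mul, hha.ht, hha.cz])
      (by
        rw [conj_mul, conj_mul, bt, ba, bz]
        simp only [← et, ← ea, ← ez, ← F.ev_mul]; exact F.ev_rel (by decide +kernel)))
  have w2 : Commute w F.a := commute_of_conj (cw _ _ _ _ _ hha.ca ba hha.ca ba)
  have w3 : Commute w F.z := commute_of_conj (cw _ _ _ _ _ hha.cz bz hha.cz bz)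
  have w4 : Commute w F.p := by
    refine commute_of_conj (cw F.p (F.ev pa) (F.ev pa) F.p F.p ap ?_ ?_ bp)
    · rcases hpa with rfl | rfl
      · rw [ep, bp]
      · rw [show (10 : Fin 32) = mulT 8 2 by decide +kernel, F.ev_mul, ep, ea, conj_mul, bp, ba]
    · rcases hpa with rfl | rfl
      · rw [ep, ap, ep]
      · rw [show (10 : Fin 32) = mulT 8 2 by decide +kernel, F.ev_mul, ep, ea, conj_mul, ap, hha.ca, ← ea, ← ep,
          ← F.ev_mul]
        exact F.ev_rel (by decide +kernel)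
  have w5 : Commute w F.q := by
    refine commute_of_conj (cw F.q F.q (F.ev qb) (F.ev qb) F.q hha.cq bq ?_ ?_)
    · rcases hqb with rfl | rfl
      · rw [eq, hha.cq]
      · rw [show (22 : Fin 32) = mulT 16 6 by decide +kernel, F.ev_mul, eq, eaz, conj_mul, conj_mul ha F.a, hha.cq,
          hha.ca, hha.cz]
    · rcases hqb with rfl | rfl
      · rw [eq, bq, eq]
      · rw [show (22 : Fin 32) = mulT 16 6 by decide +kernel, F.ev_mul, eq, eaz, conj_mul, conj_mul hb F.a, bq, ba,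
          bz, ← eaz, ← eq, ← F.ev_mul]
        exact F.ev_rel (by decide +kernel)
  obtain ⟨k, hk⟩ := F.mem_T w w1 w2 w3
  change w = F.ev k at hk
  rw [hk] at w4 w5
  have kp : mulT k 8 = mulT 8 k := F.ev_commute_iff.mp (by rw [ep]; exact w4)
  have kq : mulT k 16 = mulT 16 k := F.ev_commute_iff.mp (by rw [eq]; exact w5)
  have k8 : k < 8 := (by decide +kernel : ∀ k : Fin 32, mulT k 8 = mulT 8 k → mulT k 16 = mulT 16 k → k < 8) k kp kq
  have kfix : hb * ha * F.ev k * (hb * ha)⁻¹ = F.ev k := by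
    rw [← hk]; simp only [w]; group
  have kimg : hb * ha * F.ev k * (hb * ha)⁻¹ = F.ev (subT 5 2 4 0 0 k) := by
    have e1 : hb * ha * F.t * (hb * ha)⁻¹ = F.ev 5 := by
      rw [show hb * ha * F.t * (hb * ha)⁻¹ = hb * (ha * F.t * ha⁻¹) * hb⁻¹ by group, hha.ht, conj_mul, bt, ba,
        swap_ab.1, ← et, ← ez, ← F.ev_mul]
      exact F.ev_rel (by decide +kernel)
    have e2 : hb * ha * F.a * (hb * ha)⁻¹ = F.ev 2 := by
      rw [show hb * ha * F.a * (hb * ha)⁻¹ = hb * (ha * F.a * ha⁻¹) * hb⁻¹ by group, hha.ca, ba, ea]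
    have e3 : hb * ha * F.z * (hb * ha)⁻¹ = F.ev 4 := by
      rw [show hb * ha * F.z * (hb * ha)⁻¹ = hb * (ha * F.z * ha⁻¹) * hb⁻¹ by group, hha.cz, bz, ez]
    have h8 : ∀ k : Fin 32, k < 8 → k.val.testBit 3 = false ∧ k.val.testBit 4 = false := by decide +kernel
    rw [F.conj_word, e1, e2, e3, subT, ← F.word_ev]
    simp only [word, bitPow, (h8 k k8).1, (h8 k k8).2, Bool.false_eq_true, if_false]
  have k02 : k = 0 ∨ k = 2 ∨ k = 4 ∨ k = 6 :=
    (by decide +kernel : ∀ k : Fin 32, k < 8 → subT 5 2 4 0 0 k = k → k = 0 ∨ k = 2 ∨ k = 4 ∨ k = 6) k k8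
      (F.ev_inj (kimg.symm.trans kfix))
  exact ⟨{ ha := ha
           hb := hb
           P := ⟨al, be, k⟩
           hA := hha
           hB := hhb
           hka := k02
           comm := by
            rw [← hk]
            calc hb * ha = hb * ha * hb * (ha * ha) * hb := by
                  rw [ha2, mul_one, mul_assoc (hb * ha), hb2, mul_one]
              _ = w * ha * hb := by simp only [w]; group
           tw := hF }⟩

theorem index_two_nonfake [Finite G] (hF : F.Twisted)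
    (hA : ∃ g : G, g * F.a * g⁻¹ = F.a ∧ g * F.z * g⁻¹ = F.z ∧ g * F.t * g⁻¹ = F.t * F.a)
    (hB : ∃ g : G, g * F.a * g⁻¹ = F.a ∧ g * F.z * g⁻¹ = F.z ∧ g * F.t * g⁻¹ = F.t * (F.a * F.z)) :
    ∃ H : Subgroup G, H.index = 2 := by
  obtain ⟨D⟩ := F.exists_NFData hF hA hB
  exact D.index_two

end Frame

end CfsgLib.InvCentS6
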