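import Cfsg.Agent.Lib.InvCentS6.NonFake
import Cfsg.Agent.Lib.InvCentS6.Step

/-!
The stabiliser of the coset `tZ0` in the centralizer of `Z0`, in coordinates.
-/

set_option autoImplicit false

namespace CfsgLib.InvCentS6

/-- The parameters of the stabiliser. -/
structure Par where
  /-- exponent of `a` in the image of `p` -/
  al : Bool
  /-- exponent of `az` in the image of `q` -/
  be : Bool
  /-- the commutator of the two canonical involutions -/
  ka : Fin 32

/-- Conjugation by the first canonical involution. -/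
def phiA (P : Par) (v : Fin 32) : Fin 32 := Frame.subT 3 2 4 (if P.al then 10 else 8) 16 v

/-- Conjugation by the second canonical involution. -/
def phiB (P : Par) (v : Fin 32) : Fin 32 := Frame.subT 7 2 4 8 (if P.be then 22 else 16) v

/-- Packing coordinates. -/
def mk128 (u : Fin 32) (i j : Bool) : Fin 128 :=
  ⟨(u.val + (if i then 32 else 0) + (if j then 64 else 0)) % 128, Nat.mod_lt _ (by norm_num)⟩

/-- The part in the small Sylow subgroup. -/
def low (v : Fin 128) : Fin 32 := ⟨v.val % 32, Nat.mod_lt _ (by norm_num)⟩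

/-- The exponent of the first canonical involution. -/
def topA (v : Fin 128) : Bool := v.val.testBit 5

/-- The exponent of the second canonical involution. -/
def topB (v : Fin 128) : Bool := v.val.testBit 6

/-- Multiplication in the model of the stabiliser. -/
def mul128 (P : Par) (v w : Fin 128) : Fin 128 :=
  mk128 (mulT (mulT (low v) ((if topA v then phiA P else id) ((if topB v then phiB P else id) (low w))))
      (if topB v && topA w then P.ka else 0))
    (topA v ^^ topA w) (topB v ^^ topB w)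

/-- The row of a coordinate vector modulo `Z0`. -/
def row (v : Fin 128) : Fin 32 := ⟨(v.val % 2 + 2 * (v.val / 8)) % 32, Nat.mod_lt _ (by norm_num)⟩

/-- A representative of a row. -/
def lift (r : Fin 32) : Fin 128 := ⟨(r.val % 2 + 8 * (r.val / 2)) % 128, Nat.mod_lt _ (by norm_num)⟩

/-- Sum of rows. -/
def radd (r s : Fin 32) : Fin 32 := ⟨(r.val ^^^ s.val) % 32, Nat.mod_lt _ (by norm_num)⟩

theorem mk128_proj : ∀ (u : Fin 32) (i j : Bool),
    low (mk128 u i j) = u ∧ topA (mk128 u i j) = i ∧ topB (mk128 u i j) = j := by decide +kernel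

theorem mk128_eta : ∀ v : Fin 128, mk128 (low v) (topA v) (topB v) = v := by decide +kernel

/-- The row of an element of the small Sylow subgroup. -/
def rowT (u : Fin 32) : Fin 32 := ⟨(u.val % 2 + 2 * (u.val / 8)) % 32, Nat.mod_lt _ (by norm_num)⟩

theorem rowT_mulT : ∀ u w : Fin 32, rowT (mulT u w) = radd (rowT u) (rowT w) := by decide +kernel

theorem rowT_phi : ∀ (al be : Bool) (u : Fin 32),
    rowT (Frame.subT 3 2 4 (if al then 10 else 8) 16 u) = rowT u ∧
    rowT (Frame.subT 7 2 4 8 (if be then 22 else 16) u) = rowT u := by decide +kernel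

theorem row_mk : ∀ (u : Fin 32) (i j : Bool),
    row (mk128 u i j) = radd (rowT u) (rowT 0 + (if i then 8 else 0) + (if j then 16 else 0)) := by decide +kernel

theorem radd_assoc (r s u : Fin 32) : radd (radd r s) u = radd r (radd s u) := by
  apply Fin.ext
  simp only [radd]
  have h := fun a b : ℕ => Nat.xor_mod_two_pow (a := a) (b := b) (n := 5)
  norm_num at h
  simp [h, Nat.xor_assoc]

theorem radd_comm (r s : Fin 32) : radd r s = radd s r := by
  apply Fin.ext
  simp only [radd, Nat.xor_comm]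

theorem radd_left (r s : Fin 32) : radd r (radd r s) = s := by
  rw [← radd_assoc, (by decide +kernel : ∀ r : Fin 32, radd r r = 0) r]
  exact (by decide +kernel : ∀ r : Fin 32, radd 0 r = r) s

theorem radd_self : ∀ r : Fin 32, radd r r = 0 := by decide +kernel

theorem radd_zero : ∀ r : Fin 32, radd r 0 = r := by decide +kernel

theorem row_lift : ∀ r : Fin 32, row (lift r) = r := by decide +kernel

theorem par_radd : ∀ m r s : Fin 32, Frame.par m (radd r s) = (Frame.par m r ^^ Frame.par m s) := by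
  decide +kernel

theorem row_mul (P : Par) (hk : rowT P.ka = 0) (v w : Fin 128) :
    row (mul128 P v w) = radd (row v) (row w) := by
  have h0 : rowT 0 = 0 := by decide +kernel
  have hA : ∀ (b : Bool) (u : Fin 32), rowT ((if b then phiA P else id) u) = rowT u := by
    intro b u; cases b
    · rfl
    · exact (rowT_phi P.al P.be u).1
  have hB : ∀ (b : Bool) (u : Fin 32), rowT ((if b then phiB P else id) u) = rowT u := by
    intro b u; cases b
    · rfl
    · exact (rowT_phi P.al P.be u).2
  have hK : rowT (if topB v && topA w then P.ka else 0) = 0 := by split <;> assumption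
  conv_rhs => rw [← mk128_eta v, ← mk128_eta w, row_mk, row_mk]
  unfold mul128
  rw [row_mk, rowT_mulT, rowT_mulT, hA, hB, hK, radd_zero, h0]
  have tops : ∀ a b c d : Bool,
      (0 : Fin 32) + (if (a ^^ c) then 8 else 0) + (if (b ^^ d) then 16 else 0) =
        radd (0 + (if a then 8 else 0) + (if b then 16 else 0)) (0 + (if c then 8 else 0) + (if d then 16 else 0)) := by
    decide +kernel
  rw [tops]
  simp only [radd_assoc]
  congr 1
  rw [← radd_assoc, ← radd_assoc, radd_comm (rowT (low w))]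

variable {G : Type*} [Group G]

/-- The data of the nonfake case. -/
structure NFData (F : Frame G) where
  /-- the first canonical involution -/
  ha : G
  /-- the second canonical involution -/
  hb : G
  /-- the parameters -/
  P : Par
  hA : HA F ha P.al
  hB : HA F.mirror hb P.be
  hka : P.ka = 0 ∨ P.ka = 2 ∨ P.ka = 4 ∨ P.ka = 6
  comm : hb * ha = F.ev P.ka * ha * hb
  tw : F.Twisted

namespace NFData

variable {F : Frame G} (D : NFData F)

/-- The element with given coordinates. -/
def elt (v : Fin 128) : G :=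
  F.ev (low v) * (if topA v then D.ha else 1) * (if topB v then D.hb else 1)

theorem hb_a : D.hb * F.a * D.hb⁻¹ = F.a := by
  have h1 : D.hb * (F.a * F.z) * D.hb⁻¹ = F.a * F.z := D.hB.ca
  have h2 : D.hb * F.z * D.hb⁻¹ = F.z := D.hB.cz
  rw [Frame.conj_mul, h2] at h1
  exact mul_right_cancel h1

theorem hb_p : D.hb * F.p * D.hb⁻¹ = F.p := by
  have h1 : D.hb * (F.p * F.a) * D.hb⁻¹ = F.p * F.a := D.hB.cq
  rw [Frame.conj_mul, D.hb_a] at h1
  exact mul_right_cancel h1

theorem hb_q : D.hb * F.q * D.hb⁻¹ = if D.P.be then F.ev 22 else F.ev 16 := by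
  have h1 : D.hb * (F.q * (F.a * F.z)) * D.hb⁻¹ =
      if D.P.be then F.q * (F.a * F.z) * (F.a * F.z) else F.q * (F.a * F.z) := D.hB.hp
  have h2 : D.hb * (F.a * F.z) * D.hb⁻¹ = F.a * F.z := D.hB.ca
  rw [Frame.conj_mul, h2] at h1
  obtain ⟨ht, ha, hz, haz, hp, hq⟩ := F.ev_gens
  generalize D.hb * F.q * D.hb⁻¹ = r at h1
  generalize D.P.be = b at h1 ⊢
  cases b
  · simp only [Bool.false_eq_true, if_false] at h1 ⊢
    rw [mul_right_cancel h1, hq]
  · simp only [if_true] at h1 ⊢
    rw [mul_right_cancel h1, ← hq, ← haz, ← F.ev_mul]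
    exact F.ev_rel (by decide +kernel)

theorem conj_ha (u : Fin 32) : D.ha * F.ev u = F.ev (phiA D.P u) * D.ha := by
  refine mul_inv_eq_iff_eq_mul.mp ?_
  obtain ⟨ht, ha, hz, haz, hp, hq⟩ := F.ev_gens
  have e3 : D.ha * F.t * D.ha⁻¹ = F.ev 3 := by
    rw [D.hA.ht, ← ht, ← ha, ← F.ev_mul]; exact F.ev_rel (by decide +kernel)
  have e8 : D.ha * F.p * D.ha⁻¹ = F.ev (if D.P.al then 10 else 8) := by
    rw [D.hA.hp]; cases D.P.al
    · exact hp.symm
    · simp only [if_true]; rw [← hp, ← ha, ← F.ev_mul]; exact F.ev_rel (by decide +kernel)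
  rw [F.conj_word, e3, e8, D.hA.ca, D.hA.cz, D.hA.cq, ← ha, ← hz, ← hq, F.word_ev]
  rfl

theorem conj_hb (u : Fin 32) : D.hb * F.ev u = F.ev (phiB D.P u) * D.hb := by
  refine mul_inv_eq_iff_eq_mul.mp ?_
  obtain ⟨ht, ha, hz, haz, hp, hq⟩ := F.ev_gens
  have e7 : D.hb * F.t * D.hb⁻¹ = F.ev 7 := by
    have h1 : D.hb * F.t * D.hb⁻¹ = F.t * (F.a * F.z) := D.hB.ht
    rw [h1, ← ht, ← haz, ← F.ev_mul]; exact F.ev_rel (by decide +kernel)
  have e16 : D.hb * F.q * D.hb⁻¹ = F.ev (if D.P.be then 22 else 16) := by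
    rw [D.hb_q]; split <;> rfl
  have ez : D.hb * F.z * D.hb⁻¹ = F.z := D.hB.cz
  rw [F.conj_word, e7, D.hb_a, ez, D.hb_p, e16, ← ha, ← hz, ← hp, F.word_ev]
  rfl

theorem phiA_ka : phiA D.P D.P.ka = D.P.ka ∧ rowT D.P.ka = 0 := by
  have h : ∀ (al : Bool) (k : Fin 32), k = 0 ∨ k = 2 ∨ k = 4 ∨ k = 6 →
      Frame.subT 3 2 4 (if al then 10 else 8) 16 k = k ∧ rowT k = 0 := by decide +kernel
  exact h _ _ D.hka

theorem elt_mul (v w : Fin 128) : D.elt (mul128 D.P v w) = D.elt v * D.elt w := by
  have hA2 : ∀ i k : Bool, (if i ^^ k then D.ha else 1) = (if i then D.ha else 1) * (if k then D.ha else 1) := by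
    intro i k; cases i <;> cases k <;> simp [D.hA.sq]
  have hB2 : ∀ i k : Bool, (if i ^^ k then D.hb else 1) = (if i then D.hb else 1) * (if k then D.hb else 1) := by
    intro i k; cases i <;> cases k <;> simp [D.hB.sq]
  have mA : ∀ (i : Bool) (u : Fin 32), (if i then D.ha else 1) * F.ev u
      = F.ev ((if i then phiA D.P else id) u) * (if i then D.ha else 1) := by
    intro i u; cases i
    · simp
    · simp [D.conj_ha]
  have mB : ∀ (i : Bool) (u : Fin 32), (if i then D.hb else 1) * F.ev u
      = F.ev ((if i then phiB D.P else id) u) * (if i then D.hb else 1) := by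
    intro i u; cases i
    · simp
    · simp [D.conj_hb]
  have mK : ∀ j k : Bool, (if j then D.hb else 1) * (if k then D.ha else 1)
      = F.ev (if j && k then D.P.ka else 0) * ((if k then D.ha else 1) * (if j then D.hb else 1)) := by
    intro j k; cases j <;> cases k <;> simp [F.ev_zero, D.comm, mul_assoc]
  unfold elt mul128
  rw [(mk128_proj _ _ _).1, (mk128_proj _ _ _).2.1, (mk128_proj _ _ _).2.2, hA2, hB2]
  have hk : ∀ (i : Bool) (u : Fin 32), u = D.P.ka ∨ u = 0 → (if i then phiA D.P else id) u = u := by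
    intro i u hu; cases i
    · rfl
    · rcases hu with rfl | rfl
      · exact D.phiA_ka.1
      · exact (by decide +kernel : ∀ al : Bool, Frame.subT 3 2 4 (if al then 10 else 8) 16 0 = 0) D.P.al
  generalize topA v = i, topB v = j, topA w = k, topB w = l at *
  rw [F.ev_mul, F.ev_mul]
  calc _ = F.ev (low v) * F.ev ((if i then phiA D.P else id) ((if j then phiB D.P else id) (low w))) *
        (F.ev ((if i then phiA D.P else id) (if j && k then D.P.ka else 0)) * (if i then D.ha else 1)) *
        (if k then D.ha else 1) * (if j then D.hb else 1) * (if l then D.hb else 1) := by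
          rw [hk i (if j && k then D.P.ka else 0) (by split <;> simp)]; group
    _ = F.ev (low v) * (F.ev ((if i then phiA D.P else id) ((if j then phiB D.P else id) (low w))) *
        (if i then D.ha else 1)) * ((if j then D.hb else 1) * (if k then D.ha else 1)) * (if l then D.hb else 1) := by
          rw [← mA, mK]; group
    _ = F.ev (low v) * (if i then D.ha else 1) * (F.ev ((if j then phiB D.P else id) (low w)) *
        (if j then D.hb else 1)) * (if k then D.ha else 1) * (if l then D.hb else 1) := by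
          rw [← mA]; group
    _ = _ := by rw [← mB]; group

theorem elt_ev (u : Fin 32) : D.elt (mk128 u false false) = F.ev u := by
  simp [elt, mk128_proj]

/-- The element of `Z0` making up the difference to `t`. -/
def shift (i j : Bool) : Fin 32 := mulT (if i then 2 else 0) (if j then 6 else 0)

theorem elt_fix (v : Fin 128) : Commute (D.elt v) F.a ∧ Commute (D.elt v) F.z ∧
    D.elt v * F.ev 1 * (D.elt v)⁻¹ = F.ev (mulT 1 (shift (topA v) (topB v))) := by
  have ca : Commute D.ha F.a ∧ Commute D.ha F.z :=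
    ⟨Frame.commute_of_conj D.hA.ca, Frame.commute_of_conj D.hA.cz⟩
  have cb : Commute D.hb F.a ∧ Commute D.hb F.z :=
    ⟨Frame.commute_of_conj D.hb_a, Frame.commute_of_conj (show D.hb * F.z * D.hb⁻¹ = F.z from D.hB.cz)⟩
  have fa : ∀ i : Bool, Commute (if i then D.ha else 1) F.a ∧ Commute (if i then D.ha else 1) F.z := fun i => by
    cases i <;> simp [ca, Commute.one_left]
  have fb : ∀ i : Bool, Commute (if i then D.hb else 1) F.a ∧ Commute (if i then D.hb else 1) F.z := fun i => by
    cases i <;> simp [cb, Commute.one_left]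
  refine ⟨((F.ev_comm_a _).mul_left (fa _).1).mul_left (fb _).1,
    ((F.ev_comm_z _).mul_left (fa _).2).mul_left (fb _).2, ?_⟩
  have hv : ∀ (u : Fin 32), (if topA v then D.ha else 1) * F.ev u * (if topA v then D.ha else 1)⁻¹
      = F.ev ((if topA v then phiA D.P else id) u) := by
    intro u; cases topA v
    · simp
    · simp [D.conj_ha]
  have hw : ∀ (u : Fin 32), (if topB v then D.hb else 1) * F.ev u * (if topB v then D.hb else 1)⁻¹
      = F.ev ((if topB v then phiB D.P else id) u) := by
    intro u; cases topB v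
    · simp
    · simp [D.conj_hb]
  unfold elt
  calc _ = F.ev (low v) * ((if topA v then D.ha else 1) * ((if topB v then D.hb else 1) * F.ev 1 *
        (if topB v then D.hb else 1)⁻¹) * (if topA v then D.ha else 1)⁻¹) * (F.ev (low v))⁻¹ := by group
    _ = _ := by
      rw [hw, hv, F.ev_conj]
      congr 1
      have e : ∀ (al be i j : Bool) (u : Fin 32),
          mulT (mulT u ((if i then Frame.subT 3 2 4 (if al then 10 else 8) 16 else id)
            ((if j then Frame.subT 7 2 4 8 (if be then 22 else 16) else id) 1))) (Frame.invT u) = mulT 1 (shift i j) := by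
        decide +kernel
      exact e D.P.al D.P.be _ _ _

theorem mulT_one_inj : ∀ i j i' j' : Bool, mulT 1 (shift i j) = mulT 1 (shift i' j') → i = i' ∧ j = j' := by
  decide +kernel

theorem elt_inj : Function.Injective D.elt := by
  intro v w h
  have h1 := (D.elt_fix v).2.2
  rw [h, (D.elt_fix w).2.2] at h1
  obtain ⟨e1, e2⟩ := mulT_one_inj _ _ _ _ (F.ev_inj h1)
  unfold elt at h
  rw [← e1, ← e2] at h
  have e3 := F.ev_inj (mul_right_cancel (mul_right_cancel h))
  rw [← mk128_eta v, ← mk128_eta w, e1, e2, e3]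

/-- The stabiliser of `tZ0` in the centralizer of `Z0`. -/
def Stab : Subgroup G where
  carrier := Set.range D.elt
  one_mem' := ⟨mk128 0 false false, by rw [D.elt_ev, F.ev_zero]⟩
  mul_mem' := by
    rintro _ _ ⟨v, rfl⟩ ⟨w, rfl⟩
    exact ⟨mul128 D.P v w, D.elt_mul v w⟩
  inv_mem' := by
    rintro _ ⟨v, rfl⟩
    have hsurj : Function.Surjective (mul128 D.P v) :=
      Finite.injective_iff_surjective.mp fun u w h => D.elt_inj (by
        have := congrArg D.elt h
        rwa [D.elt_mul, D.elt_mul, mul_right_inj] at this)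
    obtain ⟨w, hw⟩ := hsurj (mk128 0 false false)
    refine ⟨w, (inv_eq_of_mul_eq_one_right ?_).symm⟩
    rw [← D.elt_mul, hw, D.elt_ev, F.ev_zero]

theorem mem_Stab {g : G} : g ∈ D.Stab ↔ ∃ v, D.elt v = g := Iff.rfl

theorem elt_mem (v : Fin 128) : D.elt v ∈ D.Stab := ⟨v, rfl⟩

theorem card_Stab : Nat.card D.Stab = 128 := by
  have h : Nat.card (Set.range D.elt) = Nat.card (Fin 128) :=
    (Nat.card_congr (Equiv.ofInjective _ D.elt_inj)).symm
  rwa [Nat.card_fin] at h

/-- Characterisation of the stabiliser. -/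
theorem mem_Stab' {g : G} (h1 : Commute g F.a) (h2 : Commute g F.z)
    (h3 : ∃ k : Fin 32, (k = 0 ∨ k = 2 ∨ k = 4 ∨ k = 6) ∧ g * F.ev 1 * g⁻¹ = F.ev (mulT 1 k)) : g ∈ D.Stab := by
  obtain ⟨k, hk, hg⟩ := h3
  obtain ⟨i, j, rfl⟩ : ∃ i j, shift i j = k := by
    exact (by decide +kernel : ∀ k : Fin 32, k = 0 ∨ k = 2 ∨ k = 4 ∨ k = 6 → ∃ i j, shift i j = k) k hk
  let w := D.elt (mk128 0 i j)
  obtain ⟨wa, wz, wt⟩ := D.elt_fix (mk128 0 i j)
  rw [(mk128_proj 0 i j).2.1, (mk128_proj 0 i j).2.2] at wt
  have hc : Commute (w⁻¹ * g) F.t := Frame.commute_of_conj (by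
    rw [← F.ev_gens.1]
    calc w⁻¹ * g * F.ev 1 * (w⁻¹ * g)⁻¹ = w⁻¹ * (g * F.ev 1 * g⁻¹) * w := by group
      _ = w⁻¹ * (w * F.ev 1 * w⁻¹) * w := by rw [hg, wt]
      _ = F.ev 1 := by group)
  obtain ⟨u, hu⟩ := F.mem_T _ hc (wa.inv_left.mul_left h1) (wz.inv_left.mul_left h2)
  have : g = w * F.ev u := by rw [show F.ev u = w⁻¹ * g from hu.symm, mul_inv_cancel_left]
  rw [this, ← D.elt_ev]
  exact D.Stab.mul_mem (D.elt_mem _) (D.elt_mem _)

theorem Tsub_le : F.Tsub ≤ D.Stab := by
  rintro _ ⟨u, rfl⟩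
  exact ⟨_, D.elt_ev u⟩

/-- The coordinate of an element. -/
noncomputable def coord : D.Stab ≃ Fin 128 := (Equiv.ofInjective D.elt D.elt_inj).symm

theorem elt_coord (g : D.Stab) : D.elt (D.coord g) = g :=
  congrArg Subtype.val ((Equiv.ofInjective D.elt D.elt_inj).apply_symm_apply g)

theorem coord_elt (v : Fin 128) (h : D.elt v ∈ D.Stab) : D.coord ⟨D.elt v, h⟩ = v :=
  D.elt_inj (D.elt_coord _)

theorem coord_mul (g h : D.Stab) : D.coord (g * h) = mul128 D.P (D.coord g) (D.coord h) :=
  D.elt_inj (by rw [D.elt_coord, D.elt_mul, D.elt_coord, D.elt_coord]; rfl)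

theorem exists_zeta (v : Fin 128) : ∃ k : Fin 32, (k = 0 ∨ k = 2 ∨ k = 4 ∨ k = 6) ∧
    D.elt v = D.elt (lift (row v)) * F.ev k := by
  have h : ∀ v : Fin 128, ∃ k : Fin 32, (k = 0 ∨ k = 2 ∨ k = 4 ∨ k = 6) ∧
      low v = mulT (low (lift (row v))) k ∧ topA v = topA (lift (row v)) ∧ topB v = topB (lift (row v)) := by
    decide +kernel
  obtain ⟨k, hk, h1, h2, h3⟩ := h v
  refine ⟨k, hk, ?_⟩
  have ka' : ∀ k : Fin 32, k = 0 ∨ k = 2 ∨ k = 4 ∨ k = 6 → F.ev k * D.ha = D.ha * F.ev k ∧ F.ev k * D.hb = D.hb * F.ev k := by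
    intro k hk
    obtain ⟨e1, e2⟩ := (by decide +kernel : ∀ (al be : Bool) (k : Fin 32), k = 0 ∨ k = 2 ∨ k = 4 ∨ k = 6 →
      Frame.subT 3 2 4 (if al then 10 else 8) 16 k = k ∧ Frame.subT 7 2 4 8 (if be then 22 else 16) k = k) D.P.al D.P.be k hk
    rw [D.conj_ha, D.conj_hb, phiA, phiB, e1, e2]
    exact ⟨rfl, rfl⟩
  unfold elt
  rw [h1, h2, h3, F.ev_mul]
  have c : ∀ i j : Bool, F.ev k * (if i then D.ha else 1) * (if j then D.hb else 1)
      = (if i then D.ha else 1) * (if j then D.hb else 1) * F.ev k := by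
    intro i j
    obtain ⟨e1, e2⟩ := ka' k hk
    cases i <;> cases j <;> simp only [Bool.false_eq_true, if_false, if_true, one_mul, mul_one]
    · exact e2
    · exact e1
    · rw [e1, mul_assoc, e2, mul_assoc]
  calc F.ev (low (lift (row v))) * F.ev k * _ * _ = F.ev (low (lift (row v))) *
        (F.ev k * (if topA (lift (row v)) then D.ha else 1) * (if topB (lift (row v)) then D.hb else 1)) := by group
    _ = _ := by rw [c]; group

theorem zeta_comm {k : Fin 32} (hk : k = 0 ∨ k = 2 ∨ k = 4 ∨ k = 6) (v : Fin 128) :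
    Commute (D.elt v) (F.ev k) := by
  obtain ⟨h1, h2, -⟩ := D.elt_fix v
  obtain ⟨ht, ha, hz, haz, hp, hq⟩ := F.ev_gens
  rcases hk with rfl | rfl | rfl | rfl
  · rw [F.ev_zero]; exact Commute.one_right _
  · rw [ha]; exact h1
  · rw [hz]; exact h2
  · rw [haz]; exact h1.mul_right h2

include D in
theorem not_conj_zeta {k : Fin 32} (hk : k = 0 ∨ k = 2 ∨ k = 4 ∨ k = 6) : ¬ IsConj F.t (F.ev k) := by
  rw [D.tw.mem_T]
  rintro ⟨-, h⟩
  rcases hk with rfl | rfl | rfl | rfl <;> exact absurd h (by decide)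

include D in
theorem conj_mul_zeta [Finite G] {u : G} (hu : IsConj F.t u) {k : Fin 32} (hk : k = 0 ∨ k = 2 ∨ k = 4 ∨ k = 6)
    (hc : Commute u (F.ev k)) : IsConj F.t (u * F.ev k) := by
  have hk2 : F.ev k * F.ev k = 1 := by
    rw [← F.ev_mul, (by decide +kernel : ∀ k : Fin 32, k = 0 ∨ k = 2 ∨ k = 4 ∨ k = 6 → mulT k k = 0) k hk, F.ev_zero]
  have := D.tw.rule hu hc hk2
  by_contra hne
  exact D.not_conj_zeta hk (this.mpr hne)

theorem conj_row [Finite G] (v : Fin 128) : IsConj F.t (D.elt v) ↔ IsConj F.t (D.elt (lift (row v))) := by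
  obtain ⟨k, hk, e⟩ := D.exists_zeta v
  have hc := D.zeta_comm hk (lift (row v))
  have hk2 : F.ev k * F.ev k = 1 := by
    rw [← F.ev_mul, (by decide +kernel : ∀ k : Fin 32, k = 0 ∨ k = 2 ∨ k = 4 ∨ k = 6 → mulT k k = 0) k hk, F.ev_zero]
  rw [e]
  constructor
  · intro h
    have := D.conj_mul_zeta h hk (hc.mul_left (Commute.refl _))
    rwa [mul_assoc, hk2, mul_one] at this
  · exact fun h => D.conj_mul_zeta h hk hc

open scoped Classical in
/-- The rows meeting the class of `t`. -/
noncomputable def o (r : Fin 32) : Bool := decide (IsConj F.t (D.elt (lift r)))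

theorem o_iff [Finite G] (v : Fin 128) : IsConj F.t (D.elt v) ↔ D.o (row v) = true := by
  classical
  rw [D.conj_row, o, decide_eq_true_iff]

theorem o_iff' [Finite G] (g : D.Stab) : IsConj F.t (g : G) ↔ D.o (row (D.coord g)) = true := by
  rw [← D.elt_coord, D.o_iff]

/-- The homomorphism given by a linear functional on rows. -/
noncomputable def hom (m : Fin 32) : D.Stab →* Z2 :=
  MonoidHom.mk' (fun g => if Frame.par m (row (D.coord g)) then Multiplicative.ofAdd 1 else 1) fun g h => by
    rw [D.coord_mul, row_mul D.P D.phiA_ka.2,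
      par_radd]
    cases Frame.par m (row (D.coord g)) <;> cases Frame.par m (row (D.coord h)) <;> decide

theorem hom_ne (m : Fin 32) (g : D.Stab) : D.hom m g ≠ 1 ↔ Frame.par m (row (D.coord g)) = true := by
  change (if Frame.par m (row (D.coord g)) then Multiplicative.ofAdd (1 : ZMod 2) else 1) ≠ 1 ↔ _
  cases Frame.par m (row (D.coord g)) <;> simp

theorem hom_eq (m : Fin 32) {g h : D.Stab}
    (e : Frame.par m (row (D.coord g)) = Frame.par m (row (D.coord h))) : D.hom m g = D.hom m h := by
  change (if Frame.par m (row (D.coord g)) then Multiplicative.ofAdd (1 : ZMod 2) else 1) = (if _ then _ else _)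
  rw [e]

/-- Counting a row predicate over the stabiliser. -/
theorem count_rows (p : Fin 32 → Bool) :
    Nat.card {g : D.Stab // p (row (D.coord g)) = true} = 4 * (Finset.univ.filter fun r => p r = true).card := by
  rw [Nat.card_congr (D.coord.subtypeEquiv (q := fun v => p (row v) = true) fun _ => Iff.rfl),
    Nat.card_eq_fintype_card, Fintype.card_subtype]
  have h : ∀ r : Fin 32, (Finset.univ.filter fun v : Fin 128 => row v = r).card = 4 := by decide +kernel
  rw [Finset.card_eq_sum_card_fiberwise (f := row) (t := Finset.univ.filter fun r => p r = true)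
    (fun v hv => by simpa using hv), Finset.sum_const_nat (m := 4) fun r hr => ?_, mul_comm]
  rw [Finset.filter_filter, ← h r]
  congr 1
  ext v
  simp only [Finset.mem_filter, Finset.mem_univ, true_and]
  exact ⟨fun e => e.2, fun e => ⟨e ▸ (Finset.mem_filter.mp hr).2, e⟩⟩

theorem cnt_hom [Finite G] (m : Fin 32) :
    cnt F.t D.Stab (D.hom m) = 4 * (Finset.univ.filter fun r => (D.o r && Frame.par m r) = true).card := by
  rw [← D.count_rows (fun r => D.o r && Frame.par m r)]
  refine Nat.card_congr (Equiv.subtypeEquivRight fun g => ?_)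
  rw [D.o_iff', D.hom_ne, Bool.and_eq_true]

end NFData

end CfsgLib.InvCentS6
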